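import Mathlib.GroupTheory.Sylow
import Mathlib.GroupTheory.Complement
import Mathlib.GroupTheory.PGroup
import Mathlib.GroupTheory.Subgroup.Centralizer
import Mathlib.GroupTheory.OrderOfElement
import Mathlib.Tactic
import Cfsg.Prelude.Def_Involutions
import Cfsg.Agent.Lib.H25.StrEmb

set_option autoImplicit false

namespace H25.ElemCent

open Cfsg H25.Isolated H25.StrEmb

variable {G : Type*} [Group G]

/-- Hypothesis: the Sylow 2-subgroup `T` is neither cyclic nor normal and all involution
centralizers are elementary abelian 2-groups. -/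
def Hyp (T : Sylow 2 G) : Prop :=
  ¬ IsCyclic (T : Subgroup G) ∧ ¬ (T : Subgroup G).Normal ∧
  ∀ t : G, orderOf t = 2 → IsMulCommutative (Subgroup.centralizer ({t} : Set G)) ∧
    ∀ c ∈ Subgroup.centralizer ({t} : Set G), c ^ 2 = 1

theorem isPGroup_centralizer {T : Sylow 2 G} (h : Hyp T) {t : G} (ht : orderOf t = 2) :
    IsPGroup 2 (Subgroup.centralizer ({t} : Set G)) := by
  intro g
  refine ⟨1, ?_⟩
  apply Subtype.ext
  simpa using (h.2.2 t ht).2 g.1 g.2

theorem exists_central [Finite G] {T : Sylow 2 G} (h : Hyp T) :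
    ∃ z : G, orderOf z = 2 ∧ z ∈ T ∧ (T : Subgroup G) = Subgroup.centralizer ({z} : Set G) := by
  have hne : Nontrivial (T : Subgroup G) := by
    by_contra hcon
    rw [not_nontrivial_iff_subsingleton] at hcon
    exact h.1 inferInstance
  have hc := IsPGroup.center_nontrivial T.isPGroup'
  obtain ⟨⟨z, hz⟩, hz1⟩ := exists_ne (1 : Subgroup.center (T : Subgroup G))
  have hp : IsPGroup 2 (Subgroup.center (T : Subgroup G)) := T.isPGroup'.to_subgroup _
  obtain ⟨w, hw⟩ := exists_prime_orderOf_dvd_card' (G := Subgroup.center (T : Subgroup G)) 2 (by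
    obtain ⟨n, hn⟩ := IsPGroup.iff_card.1 hp
    have : 1 < Nat.card (Subgroup.center (T : Subgroup G)) := Finite.one_lt_card
    rw [hn] at this ⊢
    rcases Nat.eq_zero_or_pos n with h0 | h0
    · subst h0; simp at this
    · exact dvd_pow_self 2 (by omega))
  have hw' : orderOf ((w : (T : Subgroup G)) : G) = 2 := by
    rw [Subgroup.orderOf_coe, Subgroup.orderOf_coe]; exact hw
  refine ⟨w.1.1, hw', w.1.2, ?_⟩
  symm
  apply T.is_maximal' (isPGroup_centralizer h hw')
  intro t ht
  rw [Subgroup.mem_centralizer_singleton_iff]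
  have := Subgroup.mem_center_iff.1 w.2 ⟨t, ht⟩
  exact congrArg Subtype.val this

theorem sq_one [Finite G] {T : Sylow 2 G} (h : Hyp T) {t : G} (ht : t ∈ T) : t * t = 1 := by
  obtain ⟨z, hz, hzT, e⟩ := exists_central h
  rw [← pow_two]
  apply (h.2.2 z hz).2
  rw [← e]; exact ht

theorem comm [Finite G] {T : Sylow 2 G} (h : Hyp T) {s t : G} (hs : s ∈ T) (ht : t ∈ T) :
    s * t = t * s := by
  obtain ⟨z, hz, hzT, e⟩ := exists_central h
  have h1 := (h.2.2 z hz).1
  rw [← e] at h1
  have := isMulCommutative_iff.1 h1 ⟨s, hs⟩ ⟨t, ht⟩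
  exact congrArg Subtype.val this

theorem orderOf_two [Finite G] {T : Sylow 2 G} (h : Hyp T) {t : G} (ht : t ∈ T) (h1 : t ≠ 1) :
    orderOf t = 2 := by
  rw [orderOf_eq_prime_iff]
  exact ⟨by rw [pow_two]; exact sq_one h ht, h1⟩

theorem centralizer_eq [Finite G] {T : Sylow 2 G} (h : Hyp T) {t : G} (ht : t ∈ T) (h1 : t ≠ 1) :
    Subgroup.centralizer ({t} : Set G) = T := by
  apply T.is_maximal' (isPGroup_centralizer h (orderOf_two h ht h1))
  intro s hs
  rw [Subgroup.mem_centralizer_singleton_iff]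
  exact comm h hs ht

theorem mem_of_normalizer [Finite G] {T : Sylow 2 G} {t : G} (ht : t * t = 1)
    (hn : t ∈ Subgroup.normalizer ((T : Subgroup G) : Set G)) : t ∈ T := by
  have hp : IsPGroup 2 (Subgroup.zpowers t) := by
    rw [IsPGroup.iff_orderOf]
    intro g
    have h1 : orderOf (g : G) ∣ orderOf t := orderOf_dvd_of_mem_zpowers g.2
    have h2 : orderOf t ∣ 2 ^ 1 := orderOf_dvd_of_pow_eq_one (by rw [pow_one, pow_two]; exact ht)
    rw [Subgroup.orderOf_coe] at h1
    obtain ⟨k, -, hk⟩ := (Nat.dvd_prime_pow Nat.prime_two).1 (h1.trans h2)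
    exact ⟨k, hk⟩
  have h3 := IsPGroup.inf_normalizer_sylow hp T
  have h4 : t ∈ Subgroup.zpowers t ⊓ Subgroup.normalizer ((T : Subgroup G) : Set G) :=
    Subgroup.mem_inf.2 ⟨Subgroup.mem_zpowers t, hn⟩
  have h5 : t ∈ Subgroup.zpowers t ⊓ (T : Subgroup G) := by
    rw [← h3]; exact h4
  exact (Subgroup.mem_inf.1 h5).2

theorem mem_normalizer_of_conj [Finite G] {T : Sylow 2 G} (h : Hyp T) {t g : G} (ht : t ∈ T)
    (h1 : t ≠ 1) (hg : g * t * g⁻¹ ∈ T) : g ∈ Subgroup.normalizer ((T : Subgroup G) : Set G) := by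
  have e1 := centralizer_eq h ht h1
  have e2 := centralizer_eq h hg (by
    intro hcon; apply h1
    have : t = g⁻¹ * (g * t * g⁻¹) * g := by group
    rw [this, hcon]; group)
  rw [Subgroup.mem_normalizer_iff]
  intro x
  show x ∈ (T : Subgroup G) ↔ g * x * g⁻¹ ∈ (T : Subgroup G)
  constructor
  · intro hx
    rw [← e1, Subgroup.mem_centralizer_singleton_iff] at hx
    rw [← e2, Subgroup.mem_centralizer_singleton_iff]
    have : g * x * g⁻¹ * (g * t * g⁻¹) = g * (x * t) * g⁻¹ := by group
    rw [this, hx]; group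
  · intro hx
    rw [← e2, Subgroup.mem_centralizer_singleton_iff] at hx
    rw [← e1, Subgroup.mem_centralizer_singleton_iff]
    have : x * t = g⁻¹ * (g * x * g⁻¹ * (g * t * g⁻¹)) * g := by group
    rw [this, hx]; group

theorem stronglyEmbedded [Finite G] {T : Sylow 2 G} (h : Hyp T) :
    IsStronglyEmbedded (Subgroup.normalizer ((T : Subgroup G) : Set G)) := by
  refine ⟨fun hcon => h.2.1 (Subgroup.normalizer_eq_top_iff.1 hcon), ?_, ?_⟩
  · obtain ⟨z, hz, hzT, e⟩ := exists_central h
    have : orderOf z ∣ Nat.card (Subgroup.normalizer ((T : Subgroup G) : Set G)) :=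
      Subgroup.orderOf_dvd_natCard _ (Subgroup.le_normalizer hzT)
    rw [hz] at this
    exact even_iff_two_dvd.2 this
  · intro g hg
    rw [← Nat.not_even_iff_odd, even_iff_two_dvd]
    intro h2
    obtain ⟨⟨i, hi⟩, hi2⟩ := exists_prime_orderOf_dvd_card' 2 h2
    rw [← Subgroup.orderOf_coe] at hi2
    simp only at hi2
    obtain ⟨hi1, hi3⟩ := Subgroup.mem_inf.1 hi
    rw [mem_map_conj] at hi3
    have hii := self_mul_self hi2
    have m1 : i ∈ T := mem_of_normalizer hii hi1
    have m2 : g⁻¹ * i * g ∈ T := mem_of_normalizer (by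
      have : g⁻¹ * i * g * (g⁻¹ * i * g) = g⁻¹ * (i * i) * g := by group
      rw [this, hii]; group) hi3
    have hne : i ≠ 1 := by
      rintro rfl; simp at hi2
    apply hg
    have := mem_normalizer_of_conj h m1 hne (g := g⁻¹) (by simpa using m2)
    simpa using inv_mem this

theorem four_le_card [Finite G] {T : Sylow 2 G} (h : Hyp T) : 4 ≤ Nat.card T := by
  obtain ⟨n, hn⟩ := IsPGroup.iff_card.1 T.isPGroup'
  rcases n with _ | _ | n
  · exfalso; apply h.1
    have : Subsingleton (T : Subgroup G) := by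
      exact (Nat.card_eq_one_iff_unique.1 (by simpa using hn)).1
    infer_instance
  · exfalso; apply h.1
    exact isCyclic_of_prime_card (p := 2) (by simpa using hn)
  · have : Nat.card T = 2 ^ (n + 2) := hn
    rw [this, pow_add]
    have : 1 ≤ 2 ^ n := Nat.one_le_two_pow
    omega

theorem card_involutions [Finite G] {T : Sylow 2 G} (h : Hyp T) :
    Nat.card {t : G // orderOf t = 2 ∧ t ∈ Subgroup.normalizer ((T : Subgroup G) : Set G)} =
      Nat.card T - 1 := by
  classical
  have : Fintype (T : Subgroup G) := Fintype.ofFinite _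
  have e : {t : G // orderOf t = 2 ∧ t ∈ Subgroup.normalizer ((T : Subgroup G) : Set G)} ≃
      {t : (T : Subgroup G) // t ≠ 1} :=
    { toFun := fun t => ⟨⟨t.1, mem_of_normalizer (self_mul_self t.2.1) t.2.2⟩, by
        intro h1
        have h2 : t.1 = 1 := congrArg Subtype.val h1
        have h3 := t.2.1
        rw [h2] at h3; simp at h3⟩
      invFun := fun t => ⟨t.1.1, orderOf_two h t.1.2 (fun h1 => t.2 (Subtype.ext h1)),
        Subgroup.le_normalizer t.1.2⟩
      left_inv := fun t => rfl
      right_inv := fun t => rfl }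
  have e2 : Nat.card T = Nat.card (T : Subgroup G) := rfl
  rw [Nat.card_congr e, e2, Nat.card_eq_fintype_card, Nat.card_eq_fintype_card]
  rw [Fintype.card_subtype_compl, Fintype.card_subtype_eq]

theorem not_mem_of_odd [Finite G] {T : Sylow 2 G} (h : Hyp T) {d : G} (hd : Odd (orderOf d))
    (hT : d ∈ T) : d = 1 := by
  by_contra h1
  have := orderOf_two h hT h1
  rw [this] at hd
  exact absurd hd (by decide)

theorem odd_of_mem_D [Finite G] {T : Sylow 2 G} (h : Hyp T) {u d : G}
    (huH : u ∉ Subgroup.normalizer ((T : Subgroup G) : Set G))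
    (hd : d ∈ Subgroup.normalizer ((T : Subgroup G) : Set G) ⊓
      (Subgroup.normalizer ((T : Subgroup G) : Set G)).map (MulAut.conj u).toMonoidHom) :
    Odd (orderOf d) := by
  have h1 := (stronglyEmbedded h).2.2 u huH
  have h2 := Subgroup.orderOf_dvd_natCard _ hd
  exact Odd.of_dvd_nat h1 h2

/-- the map `d ↦ d s d⁻¹` is a bijection from `D` to the involutions of `H` -/
theorem card_D [Finite G] {T : Sylow 2 G} (h : Hyp T) {u : G} (hu : orderOf u = 2)
    (huH : u ∉ Subgroup.normalizer ((T : Subgroup G) : Set G)) :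
    Nat.card ↥(Subgroup.normalizer ((T : Subgroup G) : Set G) ⊓
      (Subgroup.normalizer ((T : Subgroup G) : Set G)).map (MulAut.conj u).toMonoidHom) =
      Nat.card T - 1 := by
  rw [← card_involutions h]
  have hH := stronglyEmbedded h
  obtain ⟨s, hsH, hs⟩ := exists_involution hH
  have hsT : s ∈ T := mem_of_normalizer (self_mul_self hs) hsH
  have hs1 : s ≠ 1 := by rintro rfl; simp at hs
  apply Nat.card_eq_of_bijective (fun d => ⟨d.1 * s * d.1⁻¹, by
    have := MulEquiv.orderOf_eq (MulAut.conj d.1) s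
    simpa [MulAut.conj_apply, hs] using this, by
      have hd := (Subgroup.mem_inf.1 d.2).1
      exact mul_mem (mul_mem hd hsH) (inv_mem hd)⟩)
  constructor
  · intro d e hde
    have h1 : d.1 * s * d.1⁻¹ = e.1 * s * e.1⁻¹ := congrArg Subtype.val hde
    have h2 : e.1⁻¹ * d.1 ∈ T := by
      have h0 : e.1⁻¹ * d.1 ∈ Subgroup.centralizer ({s} : Set G) := by
        rw [Subgroup.mem_centralizer_singleton_iff]
        have : e.1⁻¹ * d.1 * s = e.1⁻¹ * (d.1 * s * d.1⁻¹) * d.1 := by group
        rw [this, h1]; group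
      have h00 := (centralizer_eq h hsT hs1).le h0
      exact h00
    have h3 := not_mem_of_odd h (odd_of_mem_D h huH (mul_mem (inv_mem e.2) d.2)) h2
    apply Subtype.ext
    exact (inv_mul_eq_one.1 h3).symm
  · rintro ⟨t, ht, htH⟩
    obtain ⟨d, hd, hdt⟩ := exists_conj_of_mem hH hu huH hs hsH ht htH
    exact ⟨⟨d, hd⟩, Subtype.ext hdt⟩

theorem inverts [Finite G] {T : Sylow 2 G} (h : Hyp T) {u : G} (hu : orderOf u = 2)
    (huH : u ∉ Subgroup.normalizer ((T : Subgroup G) : Set G)) :
    ∀ d ∈ Subgroup.normalizer ((T : Subgroup G) : Set G) ⊓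
      (Subgroup.normalizer ((T : Subgroup G) : Set G)).map (MulAut.conj u).toMonoidHom,
      u * d * u⁻¹ = d⁻¹ := by
  set H := Subgroup.normalizer ((T : Subgroup G) : Set G) with hHdef
  have hH := stronglyEmbedded h
  rw [← hHdef] at hH
  have hu2 := self_mul_self hu
  set x : G ⧸ H := QuotientGroup.mk 1 with hx
  set y : G ⧸ H := QuotientGroup.mk u with hy
  have hux : u • x = y := by
    rw [hx, hy, smul_mk_eq_iff]; simp
  have huy : u • y = x := by
    rw [← hux, ← mul_smul, hu2, one_smul]
  have hxy : x ≠ y := by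
    rw [hx, hy, Ne, QuotientGroup.eq]; simpa using huH
  have hc1 := card_swap hH x y hxy
  rw [card_involutions h, ← card_D h hu huH, ← hHdef] at hc1
  -- injection from swapping involutions to D, with image inverted
  have key : ∀ i : G, orderOf i = 2 → i • x = y → u * i ∈ H ⊓ H.map (MulAut.conj u).toMonoidHom := by
    intro i hi hixy
    have hiy : i • y = x := by
      rw [← hixy, ← mul_smul, self_mul_self hi, one_smul]
    refine Subgroup.mem_inf.2 ⟨?_, ?_⟩
    · have : (u * i) • x = x := by rw [mul_smul, hixy, huy]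
      rw [hx, smul_mk_eq_iff] at this
      simpa using this
    · have : (u * i) • y = y := by rw [mul_smul, hiy, hux]
      rw [hy, smul_mk_eq_iff] at this
      rw [mem_map_conj]
      exact this
  let f : {i : G // orderOf i = 2 ∧ i • x = y} → ↥(H ⊓ H.map (MulAut.conj u).toMonoidHom) :=
    fun i => ⟨u * i.1, key i.1 i.2.1 i.2.2⟩
  have hf : Function.Injective f := by
    intro i j hij
    have := congrArg Subtype.val hij
    exact Subtype.ext (mul_left_cancel this)
  have hbij : Function.Bijective f := by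
    rw [Nat.bijective_iff_injective_and_card]
    exact ⟨hf, hc1⟩
  intro d hd
  obtain ⟨i, hi⟩ := hbij.2 ⟨d, hd⟩
  have hi' : u * i.1 = d := congrArg Subtype.val hi
  rw [← hi']
  have hi2 := self_mul_self i.2.1
  exact left_inverts hu2 hi2

theorem isComplement [Finite G] {T : Sylow 2 G} (h : Hyp T) {u : G} (hu : orderOf u = 2)
    (huH : u ∉ Subgroup.normalizer ((T : Subgroup G) : Set G)) :
    Subgroup.IsComplement' ((Subgroup.normalizer ((T : Subgroup G) : Set G) ⊓
      (Subgroup.normalizer ((T : Subgroup G) : Set G)).map (MulAut.conj u).toMonoidHom).subgroupOf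
      (Subgroup.normalizer ((T : Subgroup G) : Set G)))
      ((T : Subgroup G).subgroupOf (Subgroup.normalizer ((T : Subgroup G) : Set G))) := by
  set H := Subgroup.normalizer ((T : Subgroup G) : Set G) with hHdef
  have hH := stronglyEmbedded h
  rw [← hHdef] at hH
  apply Subgroup.isComplement'_of_disjoint_and_mul_eq_univ
  · rw [Subgroup.disjoint_def]
    rintro ⟨x, hxH⟩ h1 h2
    rw [Subgroup.mem_subgroupOf] at h1 h2
    apply Subtype.ext
    exact not_mem_of_odd h (odd_of_mem_D h huH h1) h2
  · rw [Set.eq_univ_iff_forall]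
    rintro ⟨g, hg⟩
    obtain ⟨s, hsH, hs⟩ := exists_involution hH
    have hsT : s ∈ T := mem_of_normalizer (self_mul_self hs) hsH
    have hs1 : s ≠ 1 := by rintro rfl; simp at hs
    have hgs : orderOf (g * s * g⁻¹) = 2 := by
      have := MulEquiv.orderOf_eq (MulAut.conj g) s
      simpa [MulAut.conj_apply, hs] using this
    obtain ⟨d, hd, hdt⟩ := exists_conj_of_mem hH hu huH hs hsH hgs
      (mul_mem (mul_mem hg hsH) (inv_mem hg))
    have hdH := (Subgroup.mem_inf.1 hd).1
    rw [Set.mem_mul]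
    refine ⟨⟨d, hdH⟩, hd, ⟨d⁻¹ * g, mul_mem (inv_mem hdH) hg⟩, ?_, ?_⟩
    · show d⁻¹ * g ∈ (T : Subgroup G)
      rw [← centralizer_eq h hsT hs1, Subgroup.mem_centralizer_singleton_iff]
      have : d⁻¹ * g * s = d⁻¹ * (g * s * g⁻¹) * g := by group
      rw [this, ← hdt]; group
    · apply Subtype.ext
      show d * (d⁻¹ * g) = g
      group

theorem card_H [Finite G] {T : Sylow 2 G} (h : Hyp T) :
    Nat.card (Subgroup.normalizer ((T : Subgroup G) : Set G)) = Nat.card T * (Nat.card T - 1) := by
  set H := Subgroup.normalizer ((T : Subgroup G) : Set G) with hHdef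
  have hH := stronglyEmbedded h
  rw [← hHdef] at hH
  -- there is an involution outside H
  obtain ⟨t, htH, ht⟩ := exists_involution hH
  obtain ⟨g, hg⟩ : ∃ g : G, g ∉ H := by
    by_contra hcon
    push Not at hcon
    exact hH.1 (eq_top_iff.2 fun g _ => hcon g)
  have hu : orderOf (g * t * g⁻¹) = 2 := by
    have := MulEquiv.orderOf_eq (MulAut.conj g) t
    simpa [MulAut.conj_apply, ht] using this
  have huH : g * t * g⁻¹ ∉ H := by
    intro hcon
    apply hg
    have hcT := mem_of_normalizer (self_mul_self hu) hcon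
    have htT := mem_of_normalizer (self_mul_self ht) htH
    exact mem_normalizer_of_conj h htT (by rintro rfl; simp at ht) hcT
  have h1 := (isComplement h hu huH).card_mul_card
  have hle : (T : Subgroup G) ≤ H := Subgroup.le_normalizer
  have e1 : Nat.card ((T : Subgroup G).subgroupOf H) = Nat.card T :=
    Nat.card_congr (Subgroup.subgroupOfEquivOfLe hle).toEquiv
  have e2 : Nat.card ((H ⊓ H.map (MulAut.conj (g * t * g⁻¹)).toMonoidHom).subgroupOf H) =
      Nat.card T - 1 := by
    rw [← card_D h hu huH]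
    exact Nat.card_congr (Subgroup.subgroupOfEquivOfLe inf_le_left).toEquiv
  rw [← hHdef] at h1
  rw [← h1, e1, e2, mul_comm]

end H25.ElemCent
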