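import Mathlib.GroupTheory.Sylow
import Mathlib.GroupTheory.Complement
import Mathlib.GroupTheory.PGroup
import Mathlib.GroupTheory.GroupAction.SubMulAction
import Mathlib.GroupTheory.GroupAction.Quotient
import Mathlib.GroupTheory.Subgroup.Centralizer
import Mathlib.GroupTheory.OrderOfElement
import Mathlib.Tactic
import Cfsg.Agent.Lib.H25.ElemCent

set_option autoImplicit false

namespace H25.ElemCent

open Cfsg H25.Isolated H25.StrEmb
open scoped Pointwise

/-- A free action of `K` on a finite type has cardinality divisible by the order of `K`. -/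
theorem card_dvd_of_free {K Y : Type*} [Group K] [Finite K] [Finite Y] [MulAction K Y]
    (h : ∀ (k : K) (y : Y), k • y = y → k = 1) : Nat.card K ∣ Nat.card Y := by
  classical
  have : Fintype (MulAction.orbitRel.Quotient K Y) := Fintype.ofFinite _
  rw [Nat.card_congr (MulAction.selfEquivSigmaOrbitsQuotientStabilizer K Y), Nat.card_sigma]
  apply Finset.dvd_sum
  intro ω _
  have : MulAction.stabilizer K (Quotient.out ω) = ⊥ := by
    rw [eq_bot_iff]
    intro k hk
    rw [Subgroup.mem_bot]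
    exact h k _ hk
  have e2 := Subgroup.card_eq_card_quotient_mul_card_subgroup
    (MulAction.stabilizer K (Quotient.out ω))
  rw [this] at e2 ⊢
  rw [Subgroup.card_bot, mul_one] at e2
  rw [e2]

variable {G : Type*} [Group G]

/-- The normalizer of `T`. -/
abbrev NT (T : Sylow 2 G) : Subgroup G := Subgroup.normalizer ((T : Subgroup G) : Set G)

/-- general form of inversion -/
theorem inverts_general [Finite G] {T : Sylow 2 G} (h : Hyp T)
    {x y : G ⧸ (NT T)} (hxy : x ≠ y) {i d : G} (hi : orderOf i = 2)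
    (hixy : i • x = y) (hdx : d • x = x) (hdy : d • y = y) : i * d * i⁻¹ = d⁻¹ := by
  induction x using QuotientGroup.induction_on with
  | H a =>
  have hu : orderOf (a⁻¹ * i * a) = 2 := by
    have := MulEquiv.orderOf_eq (MulAut.conj a⁻¹) i
    simpa [MulAut.conj_apply, hi] using this
  have huH : a⁻¹ * i * a ∉ (NT T) := by
    intro hcon
    apply hxy
    rw [← hixy, eq_comm, smul_mk_eq_iff]
    exact hcon
  have h1 : a⁻¹ * d * a ∈ (NT T) := by
    rw [smul_mk_eq_iff] at hdx; exact hdx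
  have h2 : a⁻¹ * d * a ∈ (NT T).map (MulAut.conj (a⁻¹ * i * a)).toMonoidHom := by
    rw [mem_map_conj]
    rw [← hixy, ← mul_smul, MulAction.Quotient.smul_mk, MulAction.Quotient.smul_mk, eq_comm,
      QuotientGroup.eq] at hdy
    simp only [smul_eq_mul] at hdy
    have : (a⁻¹ * i * a)⁻¹ * (a⁻¹ * d * a) * (a⁻¹ * i * a) = (i * a)⁻¹ * (d * i * a) := by group
    rw [this]; exact hdy
  have h3 := inverts h hu huH _ (Subgroup.mem_inf.2 ⟨h1, h2⟩)
  have h4 : i * d * i⁻¹ = a * (a⁻¹ * i * a * (a⁻¹ * d * a) * (a⁻¹ * i * a)⁻¹) * a⁻¹ := by group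
  rw [h4, h3]; group

theorem exists_swap [Finite G] {T : Sylow 2 G} (h : Hyp T)
    {x y : G ⧸ (NT T)} (hxy : x ≠ y) : ∃ i : G, orderOf i = 2 ∧ i • x = y := by
  have h1 := card_swap (stronglyEmbedded h) x y hxy
  rw [card_involutions h] at h1
  have h4 := four_le_card h
  have h2 : 0 < Nat.card {i : G // orderOf i = 2 ∧ i • x = y} := by omega
  obtain ⟨i⟩ := (Nat.card_pos_iff.1 h2).1
  exact ⟨i.1, i.2⟩

theorem card_pair [Finite G] {T : Sylow 2 G} (h : Hyp T)
    {x y : G ⧸ (NT T)} (hxy : x ≠ y) :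
    Nat.card {d : G // d • x = x ∧ d • y = y} = Nat.card T - 1 := by
  obtain ⟨i, hi, hixy⟩ := exists_swap h hxy
  induction x using QuotientGroup.induction_on with
  | H a =>
  have hu : orderOf (a⁻¹ * i * a) = 2 := by
    have := MulEquiv.orderOf_eq (MulAut.conj a⁻¹) i
    simpa [MulAut.conj_apply, hi] using this
  have huH : a⁻¹ * i * a ∉ (NT T) := by
    intro hcon
    apply hxy
    rw [← hixy, eq_comm, smul_mk_eq_iff]
    exact hcon
  rw [← card_D h hu huH]
  apply Nat.card_congr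
  refine (MulAut.conj a⁻¹).toEquiv.subtypeEquiv ?_
  intro d
  simp only [MulEquiv.toEquiv_eq_coe, EquivLike.coe_coe, MulAut.conj_apply, inv_inv]
  rw [Subgroup.mem_inf, mem_map_conj, smul_mk_eq_iff, ← hixy]
  have e : d • i • (QuotientGroup.mk a : G ⧸ (NT T)) = i • (QuotientGroup.mk a : G ⧸ (NT T)) ↔
      (a⁻¹ * i * a)⁻¹ * (a⁻¹ * d * a) * (a⁻¹ * i * a) ∈ (NT T) := by
    rw [← mul_smul, MulAction.Quotient.smul_mk, MulAction.Quotient.smul_mk, eq_comm,
      QuotientGroup.eq]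
    simp only [smul_eq_mul]
    have : (a⁻¹ * i * a)⁻¹ * (a⁻¹ * d * a) * (a⁻¹ * i * a) = (i * a)⁻¹ * (d * i * a) := by group
    rw [this]
  rw [e]

/-- elements fixing two points have odd order -/
theorem odd_of_two_fixed [Finite G] {T : Sylow 2 G} (h : Hyp T)
    {x y : G ⧸ (NT T)} (hxy : x ≠ y) {d : G} (hdx : d • x = x) (hdy : d • y = y) :
    Odd (orderOf d) := by
  rw [← Nat.not_even_iff_odd, even_iff_two_dvd]
  rintro ⟨k, hk⟩
  have hpos : 0 < orderOf d := orderOf_pos d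
  have h2 : orderOf (d ^ k) = 2 := by
    rw [orderOf_pow' d (by omega), hk]
    rw [Nat.gcd_eq_right (Dvd.intro_left 2 rfl)]
    exact Nat.mul_div_cancel _ (by omega)
  have hpow : ∀ z : G ⧸ (NT T), d • z = z → (d ^ k) • z = z := by
    intro z hz
    clear h2 hk
    induction k with
    | zero => simp
    | succ n ih => rw [pow_succ, mul_smul, hz, ih]
  exact hxy (fixes_unique (stronglyEmbedded h) h2 (hpow x hdx) (hpow y hdy))

/-- commutators of `H` lie in `T` -/
theorem comm_mem [Finite G] {T : Sylow 2 G} (h : Hyp T) {g d : G} (hg : g ∈ NT T) (hd : d ∈ NT T) :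
    g * d * g⁻¹ * d⁻¹ ∈ T := by
  have hH := stronglyEmbedded h
  -- an involution outside
  obtain ⟨u, hu, huH⟩ : ∃ u : G, orderOf u = 2 ∧ u ∉ NT T := by
    obtain ⟨g, hg⟩ : ∃ g : G, g ∉ NT T := by
      by_contra hcon
      push Not at hcon
      exact hH.1 (eq_top_iff.2 fun g _ => hcon g)
    have hne : (QuotientGroup.mk 1 : G ⧸ (NT T)) ≠ QuotientGroup.mk g := by
      rw [Ne, QuotientGroup.eq]; simpa using hg
    obtain ⟨i, hi, hi2⟩ := exists_swap h hne
    refine ⟨i, hi, fun hcon => hne ?_⟩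
    rw [← hi2, eq_comm, smul_mk_eq_iff]; simpa using hcon
  have hinv := inverts h hu huH
  have hcompl := isComplement h hu huH
  set D := (NT T) ⊓ (NT T).map (MulAut.conj u).toMonoidHom with hD
  have hDcomm : ∀ a ∈ D, ∀ b ∈ D, a * b = b * a := by
    intro a ha b hb
    have h1 := hinv _ (mul_mem ha hb)
    have h2 : u * (a * b) * u⁻¹ = (u * a * u⁻¹) * (u * b * u⁻¹) := by group
    rw [h2, hinv a ha, hinv b hb, mul_inv_rev] at h1
    have := congrArg (fun z => z⁻¹) h1
    simpa using this.symm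
  -- decomposition
  have hdec : ∀ g ∈ NT T, ∃ a ∈ D, ∃ t ∈ T, g = a * t := by
    intro g hg
    have h1 : (⟨g, hg⟩ : ↥(NT T)) ∈ ((D.subgroupOf (NT T) : Set ↥(NT T)) *
        ((T : Subgroup G).subgroupOf (NT T) : Set ↥(NT T))) := by
      rw [hcompl.mul_eq]; trivial
    obtain ⟨a, ha, t, ht, hat⟩ := Set.mem_mul.1 h1
    exact ⟨a.1, ha, t.1, ht, (congrArg Subtype.val hat).symm⟩
  obtain ⟨a, ha, t, ht, rfl⟩ := hdec g hg
  obtain ⟨b, hb, s, hs, rfl⟩ := hdec d hd
  have hTn : ∀ c ∈ D, ∀ t ∈ T, c * t * c⁻¹ ∈ T := by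
    intro c hc t ht
    exact (Subgroup.mem_normalizer_iff.1 (Subgroup.mem_inf.1 hc).1 t).1 ht
  -- a t b s t⁻¹ a⁻¹ s⁻¹ b⁻¹
  have hab := hDcomm a ha b hb
  have e : a * t * (b * s) * (a * t)⁻¹ * (b * s)⁻¹ =
      (a * t * a⁻¹) * ((a * b) * (s * t⁻¹) * (a * b)⁻¹) * (a * b * a⁻¹ * s⁻¹ * (a * b * a⁻¹)⁻¹) := by
    have : (a * t * a⁻¹) * ((a * b) * (s * t⁻¹) * (a * b)⁻¹) * (a * b * a⁻¹ * s⁻¹ * (a * b * a⁻¹)⁻¹) =
      a * t * (b * s) * (t⁻¹ * a⁻¹ * s⁻¹ * (a * b * a⁻¹)⁻¹) := by group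
    rw [this, hab]; group
  rw [e]
  have hD3 : a * b * a⁻¹ ∈ D := mul_mem (mul_mem ha hb) (inv_mem ha)
  exact mul_mem (mul_mem (hTn a ha t ht) (hTn _ (mul_mem ha hb) _ (mul_mem hs (inv_mem ht))))
    (hTn _ hD3 _ (inv_mem hs))

/-- if `g` and `d` fix a common point, `d` of odd order and `g` inverts `d` then `d = 1` -/
theorem eq_one_of_inverts [Finite G] {T : Sylow 2 G} (h : Hyp T)
    {z : G ⧸ (NT T)} {g d : G} (hg : g • z = z) (hd : d • z = z) (hodd : Odd (orderOf d))
    (hinv : g * d * g⁻¹ = d⁻¹) : d = 1 := by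
  induction z using QuotientGroup.induction_on with
  | H a =>
  rw [smul_mk_eq_iff] at hg hd
  have h1 := comm_mem h hg hd
  have e : a⁻¹ * g * a * (a⁻¹ * d * a) * (a⁻¹ * g * a)⁻¹ * (a⁻¹ * d * a)⁻¹ =
      a⁻¹ * (g * d * g⁻¹ * d⁻¹) * a := by group
  rw [e, hinv] at h1
  have h2 := sq_one h h1
  have h3 : d⁻¹ * d⁻¹ * (d⁻¹ * d⁻¹) = 1 := by
    have e2 : a⁻¹ * (d⁻¹ * d⁻¹) * a * (a⁻¹ * (d⁻¹ * d⁻¹) * a) =
      a⁻¹ * (d⁻¹ * d⁻¹ * (d⁻¹ * d⁻¹)) * a := by group
    rw [e2] at h2
    have := congrArg (fun z => a * z * a⁻¹) h2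
    calc _ = a * (a⁻¹ * (d⁻¹ * d⁻¹ * (d⁻¹ * d⁻¹)) * a) * a⁻¹ := by group
      _ = _ := this
      _ = 1 := by group
  have h4 : d ^ 4 = 1 := by
    have : d⁻¹ * d⁻¹ * (d⁻¹ * d⁻¹) = (d ^ 4)⁻¹ := by group
    rw [this] at h3
    exact inv_eq_one.1 h3
  have h5 := orderOf_dvd_of_pow_eq_one h4
  have h6 : Nat.Coprime (orderOf d) 4 := by
    have : Nat.Coprime (orderOf d) 2 := hodd.coprime_two_right
    exact Nat.Coprime.pow_right 2 this
  exact orderOf_eq_one_iff.1 (Nat.eq_one_of_dvd_coprimes h6 dvd_rfl h5)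

/-- Only the identity fixes three points. -/
theorem three_fixed [Finite G] {T : Sylow 2 G} (h : Hyp T)
    {x y z : G ⧸ (NT T)} (hxy : x ≠ y) (hxz : x ≠ z) (hyz : y ≠ z) {d : G} (hdx : d • x = x)
    (hdy : d • y = y) (hdz : d • z = z) : d = 1 := by
  obtain ⟨u, hu, hu1⟩ := exists_swap h hxy
  obtain ⟨v, hv, hv1⟩ := exists_swap h hxz
  obtain ⟨i, hi, hi1⟩ := exists_swap h hyz
  have iu := inverts_general h hxy hu hu1 hdx hdy
  have iv := inverts_general h hxz hv hv1 hdx hdz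
  have ii := inverts_general h hyz hi hi1 hdy hdz
  have hvz : v • z = x := by rw [← hv1, ← mul_smul, self_mul_self hv, one_smul]
  have hg : (i * u * v) • z = z := by rw [mul_smul, mul_smul, hvz, hu1, hi1]
  apply eq_one_of_inverts h hg hdz (odd_of_two_fixed h hxy hdx hdy)
  have e : i * u * v * d * (i * u * v)⁻¹ = i * (u * (v * d * v⁻¹) * u⁻¹) * i⁻¹ := by group
  rw [e, iv]
  have e2 : u * d⁻¹ * u⁻¹ = d := by
    calc u * d⁻¹ * u⁻¹ = (u * d * u⁻¹)⁻¹ := by group
      _ = d := by rw [iu, inv_inv]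
  rw [e2, ii]

theorem T_free [Finite G] {T : Sylow 2 G} (h : Hyp T) {t : G} (ht : t ∈ T)
    {y : G ⧸ (NT T)} (hy : y ≠ QuotientGroup.mk 1) (hty : t • y = y) : t = 1 := by
  by_contra h1
  have h2 := orderOf_two h ht h1
  apply hy
  apply fixes_unique (stronglyEmbedded h) h2 hty
  rw [smul_mk_eq_iff]
  have : (1:G)⁻¹ * t * 1 = t := by group
  rw [this]
  exact Subgroup.le_normalizer ht

theorem card_X [Finite G] {T : Sylow 2 G} (h : Hyp T) :
    Nat.card (G ⧸ (NT T)) = Nat.card T + 1 := by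
  classical
  set q := Nat.card T with hq
  have hq4 : 4 ≤ q := four_le_card h
  have hH := stronglyEmbedded h
  set n := Nat.card (G ⧸ (NT T)) with hn
  have : Fintype (G ⧸ (NT T)) := Fintype.ofFinite _
  have hnf : Fintype.card (G ⧸ (NT T)) = n := by rw [hn, Nat.card_eq_fintype_card]
  let x₀ : G ⧸ (NT T) := QuotientGroup.mk 1
  obtain ⟨y₀, hy₀⟩ : ∃ y₀ : G ⧸ (NT T), y₀ ≠ x₀ := by
    by_contra hcon
    push Not at hcon
    apply hH.1
    rw [eq_top_iff]
    intro g _
    have := hcon (QuotientGroup.mk g)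
    rw [eq_comm, QuotientGroup.eq, inv_one, one_mul] at this
    exact this
  -- T acts freely on complement of x₀
  have hdvd1 : q ∣ n - 1 := by
    let S : SubMulAction (T : Subgroup G) (G ⧸ (NT T)) :=
      { carrier := {y | y ≠ x₀}
        smul_mem' := by
          intro t y hy hcon
          apply hy
          have : (t.1)⁻¹ • x₀ = x₀ := by
            rw [smul_mk_eq_iff]
            have : (1:G)⁻¹ * t.1⁻¹ * 1 = t.1⁻¹ := by group
            rw [this]; exact Subgroup.le_normalizer (inv_mem t.2)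
          rw [← this, eq_inv_smul_iff]; exact hcon }
    have h1 := card_dvd_of_free (K := (T : Subgroup G)) (Y := S) (by
      intro t y hty
      apply Subtype.ext
      exact T_free h t.2 y.2 (congrArg Subtype.val hty))
    have h2 : Nat.card S = n - 1 := by
      have : Nat.card S = Nat.card {y : G ⧸ (NT T) // y ≠ x₀} := rfl
      rw [this, Nat.card_eq_fintype_card, Fintype.card_subtype_compl, Fintype.card_subtype_eq, hnf]
    rw [h2] at h1; exact h1
  -- D acts freely on complement of x₀, y₀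
  let D : Subgroup G := MulAction.stabilizer G x₀ ⊓ MulAction.stabilizer G y₀
  have hDcard : Nat.card D = q - 1 := by
    rw [← card_pair h hy₀.symm]
    apply Nat.card_congr
    exact Equiv.subtypeEquivRight (fun g => by
      rw [Subgroup.mem_inf, MulAction.mem_stabilizer_iff, MulAction.mem_stabilizer_iff])
  have hDx : ∀ d : D, d.1 • x₀ = x₀ := fun d => (Subgroup.mem_inf.1 d.2).1
  have hDy : ∀ d : D, d.1 • y₀ = y₀ := fun d => (Subgroup.mem_inf.1 d.2).2
  have hdvd2 : q - 1 ∣ n - 2 := by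
    let S : SubMulAction D (G ⧸ (NT T)) :=
      { carrier := {y | y ≠ x₀ ∧ y ≠ y₀}
        smul_mem' := by
          rintro d y ⟨hy1, hy2⟩
          refine ⟨fun hcon => hy1 ?_, fun hcon => hy2 ?_⟩
          · have := hDx d⁻¹
            rw [← this, Subgroup.coe_inv, eq_inv_smul_iff]; exact hcon
          · have := hDy d⁻¹
            rw [← this, Subgroup.coe_inv, eq_inv_smul_iff]; exact hcon }
    have h1 := card_dvd_of_free (K := D) (Y := S) (by
      intro d y hdy
      apply Subtype.ext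
      exact three_fixed h hy₀.symm y.2.1.symm y.2.2.symm (hDx d) (hDy d)
        (congrArg Subtype.val hdy))
    have h2 : Nat.card S = n - 2 := by
      have h3 : Nat.card S = Nat.card {y : G ⧸ (NT T) // y ≠ x₀ ∧ y ≠ y₀} := rfl
      rw [h3, Nat.card_eq_fintype_card, Fintype.card_subtype]
      have h4 : (Finset.univ.filter fun y : G ⧸ (NT T) => y ≠ x₀ ∧ y ≠ y₀) =
          (Finset.univ.erase x₀).erase y₀ := by
        ext y; simp [and_comm]
      rw [h4, Finset.card_erase_of_mem (by simp [hy₀]), Finset.card_erase_of_mem (by simp),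
        Finset.card_univ, hnf]
      omega
    rw [h2, hDcard] at h1; exact h1
  -- order of G
  have hcardG : Nat.card G = n * (q * (q - 1)) := by
    rw [← card_H h, hn]
    exact Subgroup.card_eq_card_quotient_mul_card_subgroup _
  -- counting
  have hcount : n * (n - 1) * (q - 2) ≤ 2 * (n * (q * (q-1))) := by
    -- pairs (x, y, d)
    let A := Σ p : {p : (G ⧸ (NT T)) × (G ⧸ (NT T)) // p.1 ≠ p.2},
      {d : G // (d • p.1.1 = p.1.1 ∧ d • p.1.2 = p.1.2) ∧ d ≠ 1}
    have : Fintype {p : (G ⧸ (NT T)) × (G ⧸ (NT T)) // p.1 ≠ p.2} := Fintype.ofFinite _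
    have hA : Nat.card A = n * (n - 1) * (q - 2) := by
      rw [Nat.card_sigma]
      have h1 : ∀ p : {p : (G ⧸ (NT T)) × (G ⧸ (NT T)) // p.1 ≠ p.2},
          Nat.card {d : G // (d • p.1.1 = p.1.1 ∧ d • p.1.2 = p.1.2) ∧ d ≠ 1} = q - 2 := by
        intro p
        have h2 := card_pair h p.2
        have : Fintype G := Fintype.ofFinite _
        rw [Nat.card_eq_fintype_card, Fintype.card_subtype] at h2 ⊢
        have h3 : (Finset.univ.filter fun d : G => (d • p.1.1 = p.1.1 ∧ d • p.1.2 = p.1.2) ∧ d ≠ 1) =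
          (Finset.univ.filter fun d : G => (d • p.1.1 = p.1.1 ∧ d • p.1.2 = p.1.2)).erase 1 := by
          ext d; simp [and_comm]
        rw [h3, Finset.card_erase_of_mem (by simp), h2]
        omega
      simp only [h1, Finset.sum_const, Finset.card_univ, smul_eq_mul]
      congr 1
      have h5 : Fintype.card {p : (G ⧸ (NT T)) × (G ⧸ (NT T)) // p.1 ≠ p.2} =
          (Finset.univ.filter fun p : (G ⧸ (NT T)) × (G ⧸ (NT T)) => p.1 ≠ p.2).card := by
        rw [Fintype.card_subtype]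
      rw [h5]
      have h6 : (Finset.univ.filter fun p : (G ⧸ (NT T)) × (G ⧸ (NT T)) => p.1 ≠ p.2) =
          (Finset.univ : Finset (G ⧸ (NT T))).offDiag := by
        ext p; simp
      rw [h6, Finset.offDiag_card, Finset.card_univ, hnf]
      have : n * (n - 1) = n * n - n := by
        rcases Nat.eq_zero_or_pos n with h0 | h0
        · rw [h0]
        · obtain ⟨k, hk⟩ : ∃ k, n = k + 1 := ⟨n - 1, by omega⟩
          rw [hk]; simp; ring_nf; omega
      rw [this]
    have hB : Nat.card A ≤ 2 * Nat.card G := by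
      have : Fintype G := Fintype.ofFinite _
      let B := Σ d : G, {p : (G ⧸ (NT T)) × (G ⧸ (NT T)) // p.1 ≠ p.2 ∧ d ≠ 1 ∧ d • p.1 = p.1 ∧
        d • p.2 = p.2}
      have e : A ≃ B :=
        { toFun := fun a => ⟨a.2.1, ⟨a.1.1, a.1.2, a.2.2.2, a.2.2.1.1, a.2.2.1.2⟩⟩
          invFun := fun b => ⟨⟨b.2.1, b.2.2.1⟩, ⟨b.1, ⟨b.2.2.2.2.1, b.2.2.2.2.2⟩, b.2.2.2.1⟩⟩
          left_inv := fun a => rfl
          right_inv := fun b => rfl }
      rw [Nat.card_congr e, Nat.card_sigma]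
      have hle : ∀ d ∈ (Finset.univ : Finset G), Nat.card {p : (G ⧸ (NT T)) × (G ⧸ (NT T)) //
          p.1 ≠ p.2 ∧ d ≠ 1 ∧ d • p.1 = p.1 ∧ d • p.2 = p.2} ≤ 2 := by
        intro d _
        rw [Nat.card_eq_fintype_card, Fintype.card_subtype]
        rcases Finset.eq_empty_or_nonempty (Finset.univ.filter
          fun p : (G ⧸ (NT T)) × (G ⧸ (NT T)) =>
            p.1 ≠ p.2 ∧ d ≠ 1 ∧ d • p.1 = p.1 ∧ d • p.2 = p.2) with h0 | ⟨⟨a, b⟩, hab⟩
        · rw [h0]; simp
        · simp only [Finset.mem_filter, Finset.mem_univ, true_and] at hab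
          obtain ⟨hab, hd1, hda, hdb⟩ := hab
          refine le_trans (Finset.card_le_card (t := {(a, b), (b, a)}) ?_) Finset.card_le_two
          rintro ⟨c, e⟩ hce
          simp only [Finset.mem_filter, Finset.mem_univ, true_and] at hce
          obtain ⟨hce, -, hdc, hde⟩ := hce
          have hthird : ∀ z : G ⧸ (NT T), d • z = z → z = a ∨ z = b := by
            intro z hz
            by_contra hcon
            push Not at hcon
            exact hd1 (three_fixed h hab hcon.1.symm hcon.2.symm hda hdb hz)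
          rcases hthird c hdc with rfl | rfl <;> rcases hthird e hde with rfl | rfl <;>
            simp_all
      have := Finset.sum_le_card_nsmul _ _ _ hle
      rw [Finset.card_univ, smul_eq_mul, ← Nat.card_eq_fintype_card] at this
      linarith
    rw [hA, hcardG] at hB
    exact hB
  have hn2 : 2 ≤ n := by
    rw [← hnf]
    exact Fintype.one_lt_card_iff.2 ⟨y₀, x₀, hy₀⟩
  obtain ⟨m, hm⟩ := hdvd1
  obtain ⟨k, hk⟩ := hdvd2
  have hnpos : 0 < n := by omega
  have h1 : (n - 1) * (q - 2) ≤ 2 * (q * (q - 1)) := by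
    have : n * ((n - 1) * (q - 2)) ≤ n * (2 * (q * (q-1))) := by
      calc _ = n * (n - 1) * (q - 2) := by ring
        _ ≤ _ := hcount
        _ = _ := by ring
    exact Nat.le_of_mul_le_mul_left this hnpos
  obtain ⟨r, hr⟩ : ∃ r, q = r + 4 := ⟨q - 4, by omega⟩
  have hm1 : 1 ≤ m := by
    rcases Nat.eq_zero_or_pos m with h0 | h0
    · rw [h0] at hm; omega
    · exact h0
  obtain ⟨l, hl⟩ : ∃ l, m = l + 1 := ⟨m - 1, by omega⟩
  rw [hm] at h1
  have e1 : n = q * m + 1 := by omega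
  have e2 : n - 2 = q * m - 1 := by omega
  rw [hr, hl] at e2
  rw [hr] at hk
  rw [e2] at hk
  have hk2 : (r + 4) * (l + 1) = (r + 3) * k + 1 := by
    have : 1 ≤ (r + 4) * (l + 1) := Nat.one_le_iff_ne_zero.2 (by positivity)
    have h5 : r + 4 - 1 = r + 3 := by omega
    rw [h5] at hk
    omega
  -- (r+3) ∣ l
  have hl0 : (r + 3) ∣ l := by
    have : (r + 3) * (l + 1) + l = (r + 3) * k := by nlinarith
    exact (Nat.dvd_add_right (Dvd.intro _ rfl)).1 (this ▸ Dvd.intro _ rfl)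
  obtain ⟨c, hc⟩ := hl0
  rcases Nat.eq_zero_or_pos c with h0 | h0
  · have : l = 0 := by rw [hc, h0]; rfl
    rw [e1, hl, this]; ring
  · exfalso
    have h6 : r + 3 ≤ l := by rw [hc]; exact Nat.le_mul_of_pos_right _ h0
    rw [hr, hl] at h1
    have h7 : r + 4 - 2 = r + 2 := by omega
    have h8 : r + 4 - 1 = r + 3 := by omega
    rw [h7, h8] at h1
    have h9 : (r + 4) * ((l + 1) * (r + 2)) ≤ (r + 4) * (2 * (r + 3)) := by
      calc _ = (r + 4) * (l + 1) * (r + 2) := by ring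
        _ ≤ _ := h1
        _ = _ := by ring
    have h10 := Nat.le_of_mul_le_mul_left h9 (by omega)
    nlinarith

end H25.ElemCent
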