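import Mathlib.GroupTheory.Sylow
import Mathlib.GroupTheory.Complement
import Mathlib.Tactic
import Cfsg.Agent.Lib.H25.ElemCent2

set_option autoImplicit false

namespace H25.ElemCent

open Cfsg H25.Isolated H25.StrEmb

variable {G : Type*} [Group G]

theorem mem_D_iff {H : Subgroup G} {u d : G} :
    d ∈ H ⊓ H.map (MulAut.conj u).toMonoidHom ↔
      d • (QuotientGroup.mk 1 : G ⧸ H) = QuotientGroup.mk 1 ∧
      d • (QuotientGroup.mk u : G ⧸ H) = QuotientGroup.mk u := by
  rw [Subgroup.mem_inf, mem_map_conj, smul_mk_eq_iff, smul_mk_eq_iff]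
  simp

theorem fixed_iff [Finite G] {T : Sylow 2 G} (h : Hyp T) {u : G} (hu : orderOf u = 2)
    (huH : u ∉ NT T) (g : G) :
    (∀ d ∈ NT T ⊓ (NT T).map (MulAut.conj u).toMonoidHom,
      d • (QuotientGroup.mk g : G ⧸ NT T) = QuotientGroup.mk g) ↔
    (QuotientGroup.mk g : G ⧸ NT T) = QuotientGroup.mk 1 ∨
      (QuotientGroup.mk g : G ⧸ NT T) = QuotientGroup.mk u := by
  constructor
  · intro hd
    by_contra hcon
    push Not at hcon
    have hxy : (QuotientGroup.mk 1 : G ⧸ NT T) ≠ QuotientGroup.mk u := by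
      rw [Ne, QuotientGroup.eq, inv_one, one_mul]; exact huH
    have hall : ∀ d ∈ NT T ⊓ (NT T).map (MulAut.conj u).toMonoidHom, d = 1 := by
      intro d hdD
      obtain ⟨h1, h2⟩ := mem_D_iff.1 hdD
      exact three_fixed h hxy hcon.1.symm hcon.2.symm h1 h2 (hd d hdD)
    have hc := card_D h hu huH
    have hbot : (NT T ⊓ (NT T).map (MulAut.conj u).toMonoidHom) = ⊥ :=
      (Subgroup.eq_bot_iff_forall _).2 hall
    have h4 := four_le_card h
    rw [hbot, Subgroup.card_bot] at hc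
    omega
  · rintro (h1 | h1) d hd
    · rw [h1]; exact (mem_D_iff.1 hd).1
    · rw [h1]; exact (mem_D_iff.1 hd).2

theorem normalizer_D [Finite G] {T : Sylow 2 G} (h : Hyp T) {u : G} (hu : orderOf u = 2)
    (huH : u ∉ NT T) :
    Subgroup.normalizer ((NT T ⊓ (NT T).map (MulAut.conj u).toMonoidHom : Subgroup G) : Set G) =
      (NT T ⊓ (NT T).map (MulAut.conj u).toMonoidHom) ⊔ Subgroup.zpowers u := by
  set D := NT T ⊓ (NT T).map (MulAut.conj u).toMonoidHom with hD
  have hu2 := self_mul_self hu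
  have hinv := inverts h hu huH
  apply le_antisymm
  · intro n hn
    have hnorm : ∀ d ∈ D, n⁻¹ * d * n ∈ D := fun d hd =>
      (Subgroup.mem_normalizer_iff''.1 hn d).1 hd
    have key : ∀ z : G, (∀ d ∈ D, d • (QuotientGroup.mk z : G ⧸ NT T) = QuotientGroup.mk z) →
        (∀ d ∈ D, d • (QuotientGroup.mk (n * z) : G ⧸ NT T) = QuotientGroup.mk (n * z)) := by
      intro z hz d hd
      have h1 := hz _ (hnorm d hd)
      rw [smul_mk_eq_iff] at h1 ⊢
      have : (n * z)⁻¹ * d * (n * z) = z⁻¹ * (n⁻¹ * d * n) * z := by group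
      rw [this]; exact h1
    have h1 := (fixed_iff h hu huH (n * 1)).1 (key 1 ((fixed_iff h hu huH 1).2 (Or.inl rfl)))
    have h2 := (fixed_iff h hu huH (n * u)).1 (key u ((fixed_iff h hu huH u).2 (Or.inr rfl)))
    rw [mul_one] at h1
    rcases h1 with h1 | h1
    · apply Subgroup.mem_sup_left
      rcases h2 with h2 | h2
      · exfalso; apply huH
        rw [← h1, QuotientGroup.eq] at h2
        have : (n * u)⁻¹ * n = u⁻¹ := by group
        rw [this] at h2
        simpa using inv_mem h2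
      · rw [hD, mem_D_iff]
        refine ⟨?_, ?_⟩
        · rw [MulAction.Quotient.smul_mk, smul_eq_mul, mul_one, h1]
        · rw [MulAction.Quotient.smul_mk, smul_eq_mul, h2]
    · have hun : u * n ∈ D := by
        rw [hD, mem_D_iff]
        rcases h2 with h2 | h2
        · refine ⟨?_, ?_⟩
          · rw [MulAction.Quotient.smul_mk, smul_eq_mul, mul_one]
            have : (QuotientGroup.mk (u * n) : G ⧸ NT T) = u • QuotientGroup.mk n := rfl
            rw [this, h1]
            have : u • (QuotientGroup.mk u : G ⧸ NT T) = QuotientGroup.mk (u * u) := rfl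
            rw [this, hu2]
          · have : (u * n) • (QuotientGroup.mk u : G ⧸ NT T) = u • QuotientGroup.mk (n * u) := by
              rw [mul_smul]; rfl
            rw [this, h2]
            have : u • (QuotientGroup.mk 1 : G ⧸ NT T) = QuotientGroup.mk (u * 1) := rfl
            rw [this, mul_one]
        · exfalso; apply huH
          rw [← h1, QuotientGroup.eq] at h2
          have : (n * u)⁻¹ * n = u⁻¹ := by group
          rw [this] at h2
          simpa using inv_mem h2
      have : n = u⁻¹ * (u * n) := by group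
      rw [this]
      exact mul_mem (inv_mem (Subgroup.mem_sup_right (Subgroup.mem_zpowers u)))
        (Subgroup.mem_sup_left hun)
  · rw [sup_le_iff]
    refine ⟨Subgroup.le_normalizer, ?_⟩
    rw [Subgroup.zpowers_le, Subgroup.mem_normalizer_iff]
    intro d
    constructor
    · intro hd
      rw [hinv d hd]; exact inv_mem hd
    · intro hd
      have h1 := hinv _ hd
      have : u * (u * d * u⁻¹) * u⁻¹ = (u * u) * d * (u * u)⁻¹ := by group
      rw [this, hu2] at h1
      simp only [one_mul, inv_one, mul_one] at h1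
      rw [h1]; exact inv_mem hd

theorem regular [Finite G] {T : Sylow 2 G} (h : Hyp T) (x y : G ⧸ NT T)
    (hx : x ≠ QuotientGroup.mk 1) (hy : y ≠ QuotientGroup.mk 1) : ∃! t : G, t ∈ T ∧ t • x = y := by
  classical
  have : Fintype (G ⧸ NT T) := Fintype.ofFinite _
  have hfix : ∀ t ∈ T, t • (QuotientGroup.mk 1 : G ⧸ NT T) = QuotientGroup.mk 1 := by
    intro t ht
    rw [smul_mk_eq_iff]
    have : (1:G)⁻¹ * t * 1 = t := by group
    rw [this]; exact Subgroup.le_normalizer ht
  let f : ↥(T : Subgroup G) → {y : G ⧸ NT T // y ≠ QuotientGroup.mk 1} := fun t =>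
    ⟨t.1 • x, fun hcon => hx (by
      rw [← hfix t.1 t.2] at hcon
      exact smul_left_cancel _ hcon)⟩
  have hf : Function.Injective f := by
    intro s t hst
    have h1 : s.1 • x = t.1 • x := congrArg Subtype.val hst
    have h2 : (t.1⁻¹ * s.1) • x = x := by rw [mul_smul, h1, inv_smul_smul]
    have h3 := T_free h (mul_mem (inv_mem t.2) s.2) hx h2
    apply Subtype.ext
    exact (inv_mul_eq_one.1 h3).symm
  have hcard : Nat.card (T : Subgroup G) = Nat.card {y : G ⧸ NT T // y ≠ QuotientGroup.mk 1} := by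
    have h1 := card_X h
    rw [Nat.card_eq_fintype_card] at h1
    rw [Nat.card_eq_fintype_card (α := {y : G ⧸ NT T // y ≠ QuotientGroup.mk 1}),
      Fintype.card_subtype_compl, Fintype.card_subtype_eq, h1]
    rfl
  have hb := (Nat.bijective_iff_injective_and_card f).2 ⟨hf, hcard⟩
  obtain ⟨t, ht⟩ := hb.2 ⟨y, hy⟩
  refine ⟨t.1, ⟨t.2, congrArg Subtype.val ht⟩, ?_⟩
  rintro s ⟨hs, hsx⟩
  have : f ⟨s, hs⟩ = f t := by
    rw [ht]; exact Subtype.ext hsx
  exact congrArg Subtype.val (hf this)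

theorem card_G [Finite G] {T : Sylow 2 G} (h : Hyp T) :
    Nat.card G = (Nat.card T + 1) * (Nat.card T * (Nat.card T - 1)) := by
  rw [← card_H h, ← card_X h]
  exact Subgroup.card_eq_card_quotient_mul_card_subgroup _

theorem triply_transitive [Finite G] {T : Sylow 2 G} (h : Hyp T)
    (x₁ x₂ x₃ y₁ y₂ y₃ : G ⧸ NT T) (h12 : x₁ ≠ x₂) (h13 : x₁ ≠ x₃) (h23 : x₂ ≠ x₃)
    (k12 : y₁ ≠ y₂) (k13 : y₁ ≠ y₃) (k23 : y₂ ≠ y₃) :
    ∃ g : G, g • x₁ = y₁ ∧ g • x₂ = y₂ ∧ g • x₃ = y₃ := by
  classical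
  have : Fintype (G ⧸ NT T) := Fintype.ofFinite _
  let P := {p : (G ⧸ NT T) × (G ⧸ NT T) × (G ⧸ NT T) // p.1 ≠ p.2.1 ∧ p.1 ≠ p.2.2 ∧ p.2.1 ≠ p.2.2}
  let f : G → P := fun g => ⟨(g • x₁, g • x₂, g • x₃),
    fun hc => h12 (smul_left_cancel _ hc), fun hc => h13 (smul_left_cancel _ hc),
    fun hc => h23 (smul_left_cancel _ hc)⟩
  have hf : Function.Injective f := by
    intro g k hgk
    have e := congrArg Subtype.val hgk
    simp only [f, Prod.mk.injEq] at e
    obtain ⟨e1, e2, e3⟩ := e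
    have := three_fixed h h12 h13 h23 (d := k⁻¹ * g) (by rw [mul_smul, e1, inv_smul_smul])
      (by rw [mul_smul, e2, inv_smul_smul]) (by rw [mul_smul, e3, inv_smul_smul])
    exact (inv_mul_eq_one.1 this).symm
  have hcard : Nat.card G = Nat.card P := by
    have hn : Fintype.card (G ⧸ NT T) = Nat.card T + 1 := by
      rw [← card_X h, Nat.card_eq_fintype_card]
    have e : P ≃ Σ p : {p : (G ⧸ NT T) × (G ⧸ NT T) // p.1 ≠ p.2}, {z : G ⧸ NT T // z ≠ p.1.1 ∧ z ≠ p.1.2} :=
      { toFun := fun p => ⟨⟨(p.1.1, p.1.2.1), p.2.1⟩, ⟨p.1.2.2, p.2.2.1.symm, p.2.2.2.symm⟩⟩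
        invFun := fun q => ⟨(q.1.1.1, q.1.1.2, q.2.1), q.1.2, q.2.2.1.symm, q.2.2.2.symm⟩
        left_inv := fun p => rfl
        right_inv := fun q => rfl }
    have : Fintype {p : (G ⧸ NT T) × (G ⧸ NT T) // p.1 ≠ p.2} := Fintype.ofFinite _
    rw [Nat.card_congr e, Nat.card_sigma]
    have h1 : ∀ p : {p : (G ⧸ NT T) × (G ⧸ NT T) // p.1 ≠ p.2},
        Nat.card {z : G ⧸ NT T // z ≠ p.1.1 ∧ z ≠ p.1.2} = Nat.card T - 1 := by
      intro p
      rw [Nat.card_eq_fintype_card, Fintype.card_subtype]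
      have h4 : (Finset.univ.filter fun y : G ⧸ NT T => y ≠ p.1.1 ∧ y ≠ p.1.2) =
          (Finset.univ.erase p.1.1).erase p.1.2 := by
        ext y; simp [and_comm]
      rw [h4, Finset.card_erase_of_mem (by simp [p.2.symm]), Finset.card_erase_of_mem (by simp),
        Finset.card_univ, hn]
      rfl
    simp only [h1, Finset.sum_const, Finset.card_univ, smul_eq_mul]
    have h5 : Fintype.card {p : (G ⧸ NT T) × (G ⧸ NT T) // p.1 ≠ p.2} =
        (Finset.univ.filter fun p : (G ⧸ NT T) × (G ⧸ NT T) => p.1 ≠ p.2).card := by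
      rw [Fintype.card_subtype]
    have h6 : (Finset.univ.filter fun p : (G ⧸ NT T) × (G ⧸ NT T) => p.1 ≠ p.2) =
        (Finset.univ : Finset (G ⧸ NT T)).offDiag := by
      ext p; simp
    rw [h5, h6, Finset.offDiag_card, Finset.card_univ, hn, card_G h]
    have h7 : (Nat.card T + 1) * (Nat.card T + 1) - (Nat.card T + 1) =
      (Nat.card T + 1) * Nat.card T := by
      rw [mul_add (Nat.card T + 1) (Nat.card T) 1, mul_one, Nat.add_sub_cancel]
    rw [h7]; ring
  have hb := (Nat.bijective_iff_injective_and_card f).2 ⟨hf, hcard⟩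
  obtain ⟨g, hg⟩ := hb.2 ⟨(y₁, y₂, y₃), k12, k13, k23⟩
  have e := congrArg Subtype.val hg
  simp only [f, Prod.mk.injEq] at e
  exact ⟨g, e⟩

end H25.ElemCent
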