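import Mathlib.GroupTheory.Sylow
import Mathlib.Tactic
import Cfsg.Agent.Lib.H25.ElemCent3
import Cfsg.Agent.Lib.H25.RegField
import Cfsg.Agent.Lib.H25.PSL2Recog
import Cfsg.Agent.Lib.H25.SL2Card

set_option autoImplicit false

namespace H25.ElemCent

open Cfsg H25.Isolated H25.StrEmb
open scoped OnePoint

variable {G : Type*} [Group G]

/-- the two point stabilizer -/
abbrev DD (T : Sylow 2 G) (u : G) : Subgroup G := NT T ⊓ (NT T).map (MulAut.conj u).toMonoidHom

theorem exists_outside [Finite G] {T : Sylow 2 G} (h : Hyp T) : ∃ u : G, orderOf u = 2 ∧ u ∉ NT T := by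
  have hH := stronglyEmbedded h
  obtain ⟨g, hg⟩ : ∃ g : G, g ∉ NT T := by
    by_contra hcon
    push Not at hcon
    exact hH.1 (eq_top_iff.2 fun g _ => hcon g)
  have hne : (QuotientGroup.mk 1 : G ⧸ NT T) ≠ QuotientGroup.mk g := by
    rw [Ne, QuotientGroup.eq, inv_one, one_mul]; exact hg
  obtain ⟨i, hi, hi2⟩ := exists_swap h hne
  refine ⟨i, hi, fun hcon => hne ?_⟩
  rw [← hi2, eq_comm, smul_mk_eq_iff]
  have : (1:G)⁻¹ * i * 1 = i := by group
  rw [this]; exact hcon

theorem D_comm [Finite G] {T : Sylow 2 G} (h : Hyp T) {u : G} (hu : orderOf u = 2)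
    (huH : u ∉ NT T) : ∀ a ∈ NT T ⊓ (NT T).map (MulAut.conj u).toMonoidHom,
      ∀ b ∈ NT T ⊓ (NT T).map (MulAut.conj u).toMonoidHom, a * b = b * a := by
  have hinv := inverts h hu huH
  intro a ha b hb
  have h1 := hinv _ (mul_mem ha hb)
  have h2 : u * (a * b) * u⁻¹ = (u * a * u⁻¹) * (u * b * u⁻¹) := by group
  rw [h2, hinv a ha, hinv b hb, mul_inv_rev] at h1
  have := congrArg (fun z => z⁻¹) h1
  simpa using this.symm

theorem exists_coord [Finite G] {T : Sylow 2 G} (h : Hyp T) {u : G} (hu : orderOf u = 2)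
    (huH : u ∉ NT T) :
    ∃ (F : Type) (_ : Field F) (_ : Fintype F) (φ : ↥(T : Subgroup G) ≃ F)
      (g : ↥(DD T u) → F),
      (∀ s t, φ (s * t) = φ s + φ t) ∧
      (∀ (d : ↥(DD T u)) (s t : ↥(T : Subgroup G)),
        s.1 = d.1 * t.1 * d.1⁻¹ → φ s = g d * φ t) ∧
      (∀ k : F, k ≠ 0 → ∃ d, g d = k) ∧ (∀ d c, g (d * c) = g d * g c) ∧ (∀ d, g d ≠ 0) := by
  set D := NT T ⊓ (NT T).map (MulAut.conj u).toMonoidHom with hD
  have hDc := D_comm h hu huH
  rw [← hD] at hDc
  have hDT : ∀ d ∈ D, ∀ t ∈ (T : Subgroup G), d * t * d⁻¹ ∈ (T : Subgroup G) := fun d hd t ht =>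
    (Subgroup.mem_normalizer_iff.1 (Subgroup.mem_inf.1 hd).1 t).1 ht
  let iT : CommGroup ↥(T : Subgroup G) :=
    { (inferInstance : Group ↥(T : Subgroup G)) with
      mul_comm := fun a b => Subtype.ext (comm h a.2 b.2) }
  let iD : CommGroup ↥D :=
    { (inferInstance : Group ↥D) with
      mul_comm := fun a b => Subtype.ext (hDc a.1 a.2 b.1 b.2) }
  let act : DistribMulAction ↥D (Additive ↥(T : Subgroup G)) :=
    { smul := fun d a => Additive.ofMul ⟨d.1 * (a.toMul).1 * d.1⁻¹, hDT d.1 d.2 _ (a.toMul).2⟩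
      one_smul := by
        intro a
        apply Additive.toMul.injective
        apply Subtype.ext
        show (1 : G) * (a.toMul).1 * (1 : G)⁻¹ = (a.toMul).1
        group
      mul_smul := by
        intro d c a
        apply Additive.toMul.injective
        apply Subtype.ext
        show (d.1 * c.1) * (a.toMul).1 * (d.1 * c.1)⁻¹ = d.1 * (c.1 * (a.toMul).1 * c.1⁻¹) * d.1⁻¹
        group
      smul_zero := by
        intro d
        apply Additive.toMul.injective
        apply Subtype.ext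
        show d.1 * (1 : G) * d.1⁻¹ = 1
        group
      smul_add := by
        intro d a b
        apply Additive.toMul.injective
        apply Subtype.ext
        show d.1 * ((a.toMul).1 * (b.toMul).1) * d.1⁻¹ =
          (d.1 * (a.toMul).1 * d.1⁻¹) * (d.1 * (b.toMul).1 * d.1⁻¹)
        group }
  obtain ⟨z, hz, hzT, -⟩ := exists_central h
  have hz1 : z ≠ 1 := by rintro rfl; simp at hz
  let e : Additive ↥(T : Subgroup G) := Additive.ofMul ⟨z, hzT⟩
  have he : e ≠ 0 := by
    intro h0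
    apply hz1
    have := congrArg (fun a : Additive ↥(T : Subgroup G) => (a.toMul).1) h0
    exact this
  have hH := stronglyEmbedded h
  have hreg : ∀ a : Additive ↥(T : Subgroup G), a ≠ 0 → ∃! d : ↥D, d • e = a := by
    intro a ha
    have ha1 : (a.toMul).1 ≠ 1 := by
      intro h1; apply ha
      apply Additive.toMul.injective
      exact Subtype.ext h1
    have ha2 := orderOf_two h (a.toMul).2 ha1
    obtain ⟨d, hd, hdz⟩ := exists_conj_of_mem hH hu huH hz (Subgroup.le_normalizer hzT) ha2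
      (Subgroup.le_normalizer (a.toMul).2)
    refine ⟨⟨d, hd⟩, ?_, ?_⟩
    · apply Additive.toMul.injective
      apply Subtype.ext
      exact hdz
    · intro c hc
      have hcz : c.1 * z * c.1⁻¹ = (a.toMul).1 :=
        congrArg (fun b : Additive ↥(T : Subgroup G) => (b.toMul).1) hc
      have h2 : d⁻¹ * c.1 ∈ Subgroup.centralizer ({z} : Set G) := by
        rw [Subgroup.mem_centralizer_singleton_iff]
        have : d⁻¹ * c.1 * z = d⁻¹ * (c.1 * z * c.1⁻¹) * c.1 := by group
        rw [this, hcz, ← hdz]; group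
      have h3 := (centralizer_eq h hzT hz1).le h2
      have h4 := not_mem_of_odd h (odd_of_mem_D h huH (mul_mem (inv_mem hd) c.2)) h3
      apply Subtype.ext
      exact (inv_mul_eq_one.1 h4).symm
  obtain ⟨F, iF, iFt, f, g, -, hf2, hg1, hg2, hg3⟩ := H25.RegField.exists_field e he hreg
  refine ⟨F, iF, iFt, Additive.ofMul.trans f.toEquiv, g, ?_, ?_, hg1, hg2, hg3⟩
  · intro s t
    exact f.map_add (Additive.ofMul s) (Additive.ofMul t)
  · intro d s t hst
    have h1 := hf2 d (Additive.ofMul t)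
    have h2 : d • (Additive.ofMul t) = Additive.ofMul s := by
      apply Additive.toMul.injective
      apply Subtype.ext
      exact hst.symm
    rw [h2] at h1
    exact h1

theorem isPSL2 [Finite G] {T : Sylow 2 G} (h : Hyp T) :
    ∃ (F : Type) (_ : Field F) (_ : Fintype F), Fintype.card F = Nat.card T ∧
      Nonempty (G ≃* Matrix.ProjectiveSpecialLinearGroup (Fin 2) F) := by
  classical
  obtain ⟨u, hu, huH⟩ := exists_outside h
  have hu2 := self_mul_self hu
  obtain ⟨F, iF, iFt, φ, g, hφ, hφd, hg1, hg2, hg3⟩ := exists_coord h hu huH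
  have hcard : Fintype.card F = Nat.card T := by
    rw [← Nat.card_eq_fintype_card]; exact (Nat.card_congr φ).symm
  refine ⟨F, iF, iFt, hcard, ?_⟩
  -- characteristic two
  have hφ1 : φ 1 = 0 := by
    have := hφ 1 1
    rw [mul_one] at this
    simpa using this
  have hchar : CharP F 2 := by
    have hF4 := four_le_card h
    obtain ⟨z, hz, hzT, -⟩ := exists_central h
    apply CharTwo.of_one_ne_zero_of_two_eq_zero one_ne_zero
    have h1 : ∀ k : F, k + k = 0 := by
      intro k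
      obtain ⟨t, rfl⟩ := φ.surjective k
      rw [← hφ, show t * t = 1 from Subtype.ext (sq_one h t.2), hφ1]
    have := h1 1
    rw [one_add_one_eq_two] at this
    exact this
  -- points
  set x₀ : G ⧸ NT T := QuotientGroup.mk 1 with hx₀
  set y₀ : G ⧸ NT T := QuotientGroup.mk u with hy₀
  have hxy : y₀ ≠ x₀ := by
    rw [hx₀, hy₀, Ne, eq_comm, QuotientGroup.eq, inv_one, one_mul]; exact huH
  have hux : u • x₀ = y₀ := by
    rw [hx₀, hy₀, MulAction.Quotient.smul_mk, smul_eq_mul, mul_one]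
  have huy : u • y₀ = x₀ := by rw [← hux, ← mul_smul, hu2, one_smul]
  have hTx : ∀ t ∈ T, t • x₀ = x₀ := by
    intro t ht
    rw [hx₀, smul_mk_eq_iff]
    have : (1:G)⁻¹ * t * 1 = t := by group
    rw [this]; exact Subgroup.le_normalizer ht
  have hDx : ∀ d ∈ DD T u, d • x₀ = x₀ := fun d hd => (mem_D_iff.1 hd).1
  have hDy : ∀ d ∈ DD T u, d • y₀ = y₀ := fun d hd => (mem_D_iff.1 hd).2
  have hDT : ∀ d ∈ DD T u, ∀ t ∈ T, d * t * d⁻¹ ∈ T := fun d hd t ht =>
    (Subgroup.mem_normalizer_iff.1 (Subgroup.mem_inf.1 hd).1 t).1 ht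
  -- the bijection
  let σ₀ : OnePoint F → G ⧸ NT T := fun p => p.elim x₀ (fun k => (φ.symm k).1 • y₀)
  have hσi : σ₀ ∞ = x₀ := rfl
  have hσk : ∀ t : ↥(T : Subgroup G), σ₀ ((φ t : F) : OnePoint F) = t.1 • y₀ := by
    intro t
    show (φ.symm (φ t)).1 • y₀ = t.1 • y₀
    rw [Equiv.symm_apply_apply]
  have hne : ∀ t : ↥(T : Subgroup G), t.1 • y₀ ≠ x₀ := by
    intro t hcon
    apply hxy
    have : t.1 • y₀ = t.1 • x₀ := by rw [hcon, hTx t.1 t.2]
    exact smul_left_cancel _ this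
  have hσ : Function.Bijective σ₀ := by
    constructor
    · intro p q hpq
      cases p with
      | infty =>
        cases q with
        | infty => rfl
        | coe k =>
          exfalso
          obtain ⟨t, rfl⟩ := φ.surjective k
          rw [hσk, hσi] at hpq
          exact hne t hpq.symm
      | coe k =>
        obtain ⟨t, rfl⟩ := φ.surjective k
        cases q with
        | infty =>
          exfalso
          rw [hσk, hσi] at hpq
          exact hne t hpq
        | coe l =>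
          obtain ⟨s, rfl⟩ := φ.surjective l
          rw [hσk, hσk] at hpq
          obtain ⟨r, -, hr⟩ := regular h y₀ (t.1 • y₀) hxy (hne t)
          have e1 := hr t.1 ⟨t.2, rfl⟩
          have e2 := hr s.1 ⟨s.2, hpq.symm⟩
          have : t = s := Subtype.ext (e1.trans e2.symm)
          rw [this]
    · intro x
      by_cases hx : x = x₀
      · exact ⟨∞, hx.symm⟩
      · obtain ⟨t, ⟨ht, htx⟩, -⟩ := regular h y₀ x hxy hx
        exact ⟨((φ ⟨t, ht⟩ : F) : OnePoint F), by rw [hσk]; exact htx⟩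
  let σ : OnePoint F ≃ G ⧸ NT T := Equiv.ofBijective σ₀ hσ
  let π : G →* Equiv.Perm (OnePoint F) :=
    (Equiv.permCongrHom σ.symm).toMonoidHom.comp (MulAction.toPermHom G (G ⧸ NT T))
  have hπ : ∀ (a : G) (p q : OnePoint F), a • σ₀ p = σ₀ q → π a p = q := by
    intro a p q hpq
    show σ.symm (a • σ₀ p) = q
    rw [hpq]
    exact σ.symm_apply_apply q
  have hinj : Function.Injective π := by
    rw [injective_iff_map_eq_one]
    intro a ha
    have hfix : ∀ x : G ⧸ NT T, a • x = x := by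
      intro x
      obtain ⟨p, rfl⟩ := σ.surjective x
      have h1 : π a p = p := by rw [ha]; rfl
      have h2 : σ.symm (a • σ₀ p) = p := h1
      have h3 := congrArg σ h2
      rw [Equiv.apply_symm_apply] at h3
      exact h3
    obtain ⟨z, hz, hzT, -⟩ := exists_central h
    have hz1 : z ≠ 1 := by rintro rfl; simp at hz
    have hz3 : z • y₀ ≠ y₀ := fun hc => hz1 (T_free h hzT hxy hc)
    exact three_fixed h hxy.symm (hne ⟨z, hzT⟩).symm hz3.symm (hfix _) (hfix _) (hfix _)
  refine H25.PSL2Recog.iso_of_mobius π hinj ?_ ?_ ?_ ?_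
  · -- translations
    intro b
    obtain ⟨s, rfl⟩ := φ.surjective b
    refine ⟨s.1, hπ _ _ _ ?_, ?_⟩
    · rw [hσi]; exact hTx s.1 s.2
    · intro k
      obtain ⟨t, rfl⟩ := φ.surjective k
      apply hπ
      rw [add_comm, ← hφ, hσk, hσk, ← mul_smul]
      rfl
  · -- multiplications
    intro a ha
    obtain ⟨d, hd⟩ := hg1 (a ^ 2) (pow_ne_zero 2 ha)
    refine ⟨d.1, hπ _ _ _ ?_, ?_⟩
    · rw [hσi]; exact hDx d.1 d.2
    · intro k
      obtain ⟨t, rfl⟩ := φ.surjective k
      apply hπ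
      have h1 := hφd d ⟨d.1 * t.1 * d.1⁻¹, hDT d.1 d.2 t.1 t.2⟩ t rfl
      rw [← hd, ← h1, hσk, hσk]
      show d.1 • t.1 • y₀ = (d.1 * t.1 * d.1⁻¹) • y₀
      rw [mul_smul, mul_smul]
      congr 2
      rw [eq_inv_smul_iff]
      exact hDy d.1 d.2
  · -- inversion
    -- e with φ e = 1
    obtain ⟨e, he⟩ := φ.surjective 1
    have he1 : e.1 ≠ 1 := by
      intro hcon
      have : e = 1 := Subtype.ext hcon
      rw [this, hφ1] at he
      exact zero_ne_one he
    -- u e y₀ = s y₀ with s ≠ 1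
    have hue : u • e.1 • y₀ ≠ x₀ := by
      intro hcon
      rw [← huy] at hcon
      have := smul_left_cancel _ hcon
      exact he1 (T_free h e.2 hxy this)
    obtain ⟨s, ⟨hs, hsu⟩, -⟩ := regular h y₀ _ hxy hue
    have hs1 : (⟨s, hs⟩ : ↥(T : Subgroup G)) ≠ 1 := by
      intro hcon
      have hcon' : s = 1 := congrArg Subtype.val hcon
      rw [hcon', one_smul] at hsu
      exact hne e (smul_left_cancel u (hsu.symm.trans hux.symm))
    have hφs : φ ⟨s, hs⟩ ≠ 0 := by
      intro hcon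
      rw [← hφ1] at hcon
      exact hs1 (φ.injective hcon)
    obtain ⟨d₀, hd₀⟩ := hg1 _ hφs
    -- φ(d₀ e d₀⁻¹) = g d₀ * 1 = φ s
    have hse : s = d₀.1 * e.1 * d₀.1⁻¹ := by
      have h1 := hφd d₀ ⟨d₀.1 * e.1 * d₀.1⁻¹, hDT d₀.1 d₀.2 e.1 e.2⟩ e rfl
      rw [he, mul_one, hd₀] at h1
      exact (congrArg Subtype.val (φ.injective h1)).symm
    have hde : ∀ d : ↥(DD T u), (d.1 * e.1 * d.1⁻¹) • y₀ = d.1 • e.1 • y₀ := by
      intro d
      rw [mul_smul, mul_smul]
      congr 2
      rw [inv_smul_eq_iff]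
      exact (hDy d.1 d.2).symm
    have hue' : u • e.1 • y₀ = d₀.1 • e.1 • y₀ := by
      rw [← hsu, hse, hde]
    have hinv := inverts h hu huH
    refine ⟨d₀.1⁻¹ * u, hπ _ _ _ ?_, hπ _ _ _ ?_, ?_⟩
    · rw [hσi, ← hφ1, hσk, mul_smul, hux, inv_smul_eq_iff]
      show y₀ = d₀.1 • (1 : G) • y₀
      rw [one_smul]
      exact (hDy d₀.1 d₀.2).symm
    · rw [hσi, ← hφ1, hσk, mul_smul]
      show d₀.1⁻¹ • u • (1 : G) • y₀ = x₀
      rw [one_smul, huy, inv_smul_eq_iff]
      exact (hDx d₀.1 d₀.2).symm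
    · intro k hk
      obtain ⟨d, hd⟩ := hg1 k hk
      apply hπ
      have h1 := hφd d ⟨d.1 * e.1 * d.1⁻¹, hDT d.1 d.2 e.1 e.2⟩ e rfl
      rw [he, mul_one, hd] at h1
      have h2 := hφd d⁻¹ ⟨(d⁻¹).1 * e.1 * (d⁻¹).1⁻¹, hDT (d⁻¹).1 (d⁻¹).2 e.1 e.2⟩ e rfl
      rw [he, mul_one] at h2
      have hg0 : g 1 = 1 := by
        have := hg2 1 1
        rw [mul_one] at this
        exact (mul_eq_left₀ (hg3 1)).1 this.symm
      have h3 : g d⁻¹ = k⁻¹ := by
        apply eq_inv_of_mul_eq_one_left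
        rw [← hd, ← hg2, inv_mul_cancel, hg0]
      rw [h3] at h2
      have h4 : (-k⁻¹ : F) = k⁻¹ := CharTwo.neg_eq _
      rw [h4, ← h2, ← h1, hσk, hσk, hde d, hde d⁻¹, ← mul_smul]
      have h5 : u * d.1 = d.1⁻¹ * u := by
        have := hinv d.1 d.2
        rw [← this]; group
      have h6 : d₀.1⁻¹ * d.1⁻¹ = d.1⁻¹ * d₀.1⁻¹ := by
        have := D_comm h hu huH (d₀⁻¹).1 (d₀⁻¹).2 (d⁻¹).1 (d⁻¹).2
        exact this
      have h7 : d₀.1⁻¹ * u * d.1 = d.1⁻¹ * d₀.1⁻¹ * u := by
        rw [mul_assoc, h5, ← mul_assoc, h6]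
      rw [h7, mul_smul, hue', mul_smul, inv_smul_smul]
      rfl
  · rw [H25.SL2Card.card_PSL2_char_two, card_G h, hcard]
    set q := Nat.card T
    apply le_of_eq
    have : q ^ 2 - 1 = (q + 1) * (q - 1) := by
      have := Nat.sq_sub_sq q 1
      simpa using this
    rw [this]; ring

end H25.ElemCent
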