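import Cfsg.Agent.Lib.H56.BmZ
import Cfsg.Agent.Lib.H52.BB4
import Cfsg.Agent.Lib.H25.BzA1c

/-! S2987, piece A1. -/

set_option autoImplicit false
set_option linter.all false

namespace H25.BZ

open Subgroup Cfsg H51.FF H51.OG H52.PRes H52.PCore H51.Bau H1.Coprime2 H56.BmP H56.BmQ H56.BmV
open scoped commutatorElement MatrixGroups

variable {G : Type*} [Group G] [Finite G]

/-- transitivity of the alternating group -/
theorem alt_tr {n : ℕ} (hn : 3 ≤ n) (i j : Fin n) : ∃ σ ∈ alternatingGroup (Fin n), σ i = j := by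
  classical
  by_cases hij : i = j
  · exact ⟨1, one_mem _, by rw [hij]; rfl⟩
  · obtain ⟨k, hk⟩ : ∃ k : Fin n, k ∉ ({i, j} : Finset (Fin n)) := by
      by_contra hcon
      push Not at hcon
      have h1 : (Finset.univ : Finset (Fin n)) ⊆ {i, j} := fun x _ => hcon x
      have h2 := Finset.card_le_card h1
      rw [Finset.card_univ, Fintype.card_fin] at h2
      have h3 : ({i, j} : Finset (Fin n)).card ≤ 2 := Finset.card_le_two
      omega
    rw [Finset.mem_insert, Finset.mem_singleton] at hk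
    push Not at hk
    refine ⟨Equiv.swap i j * Equiv.swap j k, ?_, ?_⟩
    · rw [Equiv.Perm.mem_alternatingGroup, map_mul, Equiv.Perm.sign_swap hij, Equiv.Perm.sign_swap (Ne.symm hk.2)]
      rfl
    · rw [Equiv.Perm.mul_apply, Equiv.swap_apply_of_ne_of_ne hij (Ne.symm hk.1), Equiv.swap_apply_left]

theorem alt_Z (hG : centralizer (pCore 2 G : Set G) ≤ pCore 2 G) {T : Sylow 2 G} {E : Subgroup G} {m : ℕ} (hm : 2 ≤ m)
    (hE : IsBaumannBlock 2 (T : Subgroup G) E)
    (hiso : Nonempty (↥E ⧸ pCore 2 ↥E ≃* ↥(alternatingGroup (Fin (2 * m + 1)))))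
    (hact : ActsAsOddPermModuleOnSection (2 * m + 1) (alternatingGroup (Fin (2 * m + 1))) E
          (omegaOneCenter 2 (pCoreOf 2 E)) (omegaOneCenter 2 (pCoreOf 2 E) ⊓ centralizer (E : Set G))) :
    WB 2 E ⊓ centralizer (E : Set G) = ⊥ := by
  obtain ⟨hEn, hU0, ρ, ψ, hρ, hev, hsurj, hker0, heq0⟩ := hact
  have hEW : E ≤ normalizer (omegaOneCenter 2 (pCoreOf 2 E) : Set G) := hEn
  have hWU : WB 2 E ≤ omegaOneCenter 2 (pCoreOf 2 E) := commutator_le_left hEW
  have hEN : E ≤ normalizer ((WB 2 E : Subgroup G) : Set G) := Subgroup.le_normalizer.trans nz_WE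
  have hel : IsElementaryAbelian 2 (omegaOneCenter 2 (pCoreOf 2 E)) := H13.Omega.isElementaryAbelian_omegaZ _
  have hUc : ∀ a ∈ omegaOneCenter 2 (pCoreOf 2 E), ∀ b ∈ omegaOneCenter 2 (pCoreOf 2 E), a * b = b * a := by
    intro a ha b hb
    have h1 := hel.1
    have h2 := h1.is_comm.comm (⟨a, ha⟩ : ↥(omegaOneCenter 2 (pCoreOf 2 E))) ⟨b, hb⟩
    exact congrArg Subtype.val h2
  have hWn : ∀ e ∈ E, ∀ w ∈ WB 2 E, e * w * e⁻¹ ∈ WB 2 E := fun e he w hw =>
    (Subgroup.mem_normalizer_iff.mp (hEN he) w).mp hw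
  letI : CommGroup ↥(WB 2 E) :=
    { (inferInstance : Group ↥(WB 2 E)) with
      mul_comm := fun a b => Subtype.ext (hUc a (hWU a.2) b (hWU b.2)) }
  let α : ↥E →* MulAut ↥(WB 2 E) :=
    { toFun := fun e =>
        { toFun := fun w => ⟨e * w * (e : G)⁻¹, hWn e e.2 w w.2⟩
          invFun := fun w => ⟨(e : G)⁻¹ * w * e, by
            have := hWn (e : G)⁻¹ (inv_mem e.2) w w.2
            rwa [inv_inv] at this⟩
          left_inv := fun w => Subtype.ext (by simp [mul_assoc])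
          right_inv := fun w => Subtype.ext (by simp [mul_assoc])
          map_mul' := fun a b => Subtype.ext (by
            change (e : G) * ((a : G) * b) * (e : G)⁻¹ = (e * a * (e : G)⁻¹) * (e * b * (e : G)⁻¹)
            group) }
      map_one' := by
        apply MulEquiv.ext
        intro w
        apply Subtype.ext
        change (1 : G) * w * (1 : G)⁻¹ = w
        rw [one_mul, inv_one, mul_one]
      map_mul' := by
        intro a b
        apply MulEquiv.ext
        intro w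
        apply Subtype.ext
        change ((a : G) * b) * w * ((a : G) * b)⁻¹ = a * (b * w * (b : G)⁻¹) * (a : G)⁻¹
        group }
  have hα : ∀ e w, ((α e w : ↥(WB 2 E)) : G) = e * w * (e : G)⁻¹ := fun e w => rfl
  let ι : ↥(WB 2 E) →* ↥(omegaOneCenter 2 (pCoreOf 2 E)) :=
    { toFun := fun w => ⟨w, hWU w.2⟩
      map_one' := rfl
      map_mul' := fun a b => rfl }
  have key : ∀ z : ↥(WB 2 E), (ψ.comp ι) z = 1 → z = 1 := by
    refine core (W := ↥(WB 2 E)) (E := ↥E) ?_ ⟨m, rfl⟩ α ρ hρ ?_ (ψ.comp ι) (fun w => hev _) ?_ ?_ ?_ ?_ ?_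
    · intro w
      apply Subtype.ext
      have h1 := hel.2 w (hWU w.2)
      rwa [pow_two] at h1
    · intro i j
      obtain ⟨σ, hσ, hij⟩ := alt_tr (n := 2 * m + 1) (by omega) i j
      rw [← hρ] at hσ
      obtain ⟨e, rfl⟩ := hσ
      exact ⟨e, hij⟩
    · intro v hv
      obtain ⟨u, hu⟩ := hsurj v hv
      obtain ⟨a, ha, z, hz, hu2⟩ := H52.BB.Wdec hE u.2
      refine ⟨⟨a, ha⟩, ?_⟩
      have hzU := hU0 hz
      have h1 : u = ι ⟨a, ha⟩ * ⟨z, hzU⟩ := Subtype.ext hu2
      have h2 : ψ ⟨z, hzU⟩ = 1 := (hker0 _).mpr hz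
      rw [h1, map_mul, h2, mul_one] at hu
      exact hu
    · intro e w i
      obtain ⟨w', hw', h1⟩ := heq0 e (ι w)
      have h2 : w' = ι (α e w) := Subtype.ext hw'
      rw [h2] at h1
      exact h1 i
    · intro e he w
      apply Subtype.ext
      rw [hα]
      have h1 : (e : G) ∈ pCoreOf 2 E := by
        apply H52.BB.ker_sec hE e.2
        intro u hu
        obtain ⟨u', hu', h2⟩ := heq0 e ⟨u, hu⟩
        have h3 : ψ u' = ψ ⟨u, hu⟩ := by
          apply Multiplicative.toAdd.injective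
          funext i
          rw [h2 i, he]
          rfl
        have h4 : (u' * (⟨u, hu⟩ : ↥(omegaOneCenter 2 (pCoreOf 2 E)))⁻¹ : ↥(omegaOneCenter 2 (pCoreOf 2 E))) =
            ⟨(e : G) * u * (e : G)⁻¹ * u⁻¹, by
              have h5 := mul_mem u'.2 (inv_mem hu)
              rw [hu'] at h5
              exact h5⟩ := by
          apply Subtype.ext
          exact congrArg (fun x : G => x * u⁻¹) hu'
        have h5 := (hker0 (u' * (⟨u, hu⟩ : ↥(omegaOneCenter 2 (pCoreOf 2 E)))⁻¹)).mp (by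
          rw [map_mul, map_inv, h3, mul_inv_cancel])
        rw [h4] at h5
        exact h5
      have h2 := H52.BB.QWc (p := 2) h1 (hWU w.2)
      rw [h2, mul_inv_cancel_right]
    · intro z hz e
      have h1 := (hker0 (ι z)).mp hz
      apply Subtype.ext
      rw [hα]
      have h2 : (e : G) * z = z * e := mem_centralizer_iff.1 (Subgroup.mem_inf.1 h1).2 e e.2
      rw [h2, mul_inv_cancel_right]
    · intro S hS
      have h1 : ⁅(WB 2 E : Subgroup G), E⁆ ≤ S.map (WB 2 E).subtype := by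
        rw [Subgroup.commutator_le]
        intro w hw e he
        have h2 := hS ⟨e, he⟩ ⟨w, hw⟩
        refine ⟨(α ⟨e, he⟩ ⟨w, hw⟩ * (⟨w, hw⟩ : ↥(WB 2 E))⁻¹)⁻¹, S.inv_mem h2, ?_⟩
        change ((e * w * e⁻¹) * w⁻¹)⁻¹ = w * e * w⁻¹ * e⁻¹
        group
      rw [(block_main hG hE).2.2] at h1
      rw [eq_top_iff]
      intro w _
      obtain ⟨s, hs, hsw⟩ := h1 w.2
      have h3 : s = w := Subtype.ext hsw
      rw [← h3]
      exact hs
  rw [eq_bot_iff]
  intro z hz
  obtain ⟨hzW, hzC⟩ := Subgroup.mem_inf.1 hz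
  have h1 : ψ (ι ⟨z, hzW⟩) = 1 := (hker0 _).mpr (Subgroup.mem_inf.2 ⟨hWU hzW, hzC⟩)
  have h2 := key ⟨z, hzW⟩ h1
  exact Subgroup.mem_bot.mpr (congrArg Subtype.val h2)

end H25.BZ
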