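import Mathlib
import Cfsg.Agent.Lib.H25.MacW2

/-!
MacWilliams's theorem, part 3: `A` of type (4,4), the squaring map.
-/

set_option autoImplicit false
set_option linter.unusedSectionVars false
set_option linter.all false

namespace H25.MacW

open Subgroup

namespace AD

variable {P : Type*} [Group P] {A : Subgroup P} (hA : AD A)

/-- `A` is of type (4,4) -/
structure II (v₁ v₂ a₁ a₂ : P) : Prop extends hA.VD v₁ v₂ where
  h1 : a₁ ∈ A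
  h2 : a₂ ∈ A
  s1 : a₁ ^ 2 = v₁
  s2 : a₂ ^ 2 = v₂
  n1 : v₁ ≠ 1
  n2 : v₂ ≠ 1
  n12 : v₁ ≠ v₂
  cV : Nat.card hA.V = 4
  cA : Nat.card A = 16

/-- the values of the commutator with `t` -/
structure X (a₁ a₂ t x y : P) : Prop where
  k : t ∈ hA.KK
  x1 : t * a₁ * t⁻¹ * a₁⁻¹ = x
  x2 : t * a₂ * t⁻¹ * a₂⁻¹ = y

namespace II

variable {v₁ v₂ a₁ a₂ : P} (hv : hA.II v₁ v₂ a₁ a₂)
include hv

theorem pp : v₁ * v₁ = 1 := hA.V_mul_self hv.m1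
theorem qq : v₂ * v₂ = 1 := hA.V_mul_self hv.m2
theorem qp : v₂ * v₁ = v₁ * v₂ := hA.comm _ hv.m2.1 _ hv.m1.1
theorem pp' (z : P) : v₁ * (v₁ * z) = z := by rw [← mul_assoc, hv.pp, one_mul]
theorem qq' (z : P) : v₂ * (v₂ * z) = z := by rw [← mul_assoc, hv.qq, one_mul]
theorem qp' (z : P) : v₂ * (v₁ * z) = v₁ * (v₂ * z) := by rw [← mul_assoc, hv.qp, mul_assoc]
theorem m12 : v₁ * v₂ ∈ hA.V := mul_mem hv.m1 hv.m2

/-- the four elements are distinct -/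
theorem n3 : v₁ * v₂ ≠ 1 := by
  intro h
  apply hv.n12
  rw [mul_eq_one_iff_eq_inv.1 h, hA.V_inv hv.m2]

theorem n13 : v₁ * v₂ ≠ v₁ := by
  intro h
  exact hv.n2 (mul_eq_left.1 h)

theorem n23 : v₁ * v₂ ≠ v₂ := by
  intro h
  exact hv.n1 (mul_eq_right.1 h)

theorem s12 : (a₁ * a₂) ^ 2 = v₁ * v₂ := by
  rw [(show Commute a₁ a₂ from hA.comm _ hv.h1 _ hv.h2).mul_pow, hv.s1, hv.s2]

theorem mem_C_iff {k : P} (hk : k ∈ hA.KK) :
    k ∈ centralizer (A : Set P) ↔ k * a₁ * k⁻¹ * a₁⁻¹ = 1 ∧ k * a₂ * k⁻¹ * a₂⁻¹ = 1 := by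
  constructor
  · intro h
    rw [hA.mem_C] at h
    rw [h a₁ hv.h1, h a₂ hv.h2]
    constructor <;> group
  · rintro ⟨e1, e2⟩
    rw [hA.mem_C]
    intro a ha
    rcases hv.all _ (hA.sq_mem_V ha) with h | h | h | h
    · exact (hA.mem_K).1 hk a ⟨ha, h⟩
    · exact br_eq_one (by rw [hA.br_eq hk ha hv.h1 (by rw [h, hv.s1]), e1])
    · exact br_eq_one (by rw [hA.br_eq hk ha hv.h2 (by rw [h, hv.s2]), e2])
    · refine br_eq_one ?_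
      rw [hA.br_eq hk ha (A.mul_mem hv.h1 hv.h2) (by rw [h, hv.s12]), hA.br_mul_right hk hv.h1 hv.h2,
        e1, e2, one_mul]

theorem x3 {t x y : P} (h : hA.X a₁ a₂ t x y) :
    t * (a₁ * a₂) * t⁻¹ * (a₁ * a₂)⁻¹ = x * y := by
  rw [hA.br_mul_right h.k hv.h1 hv.h2, h.x1, h.x2]

theorem Xmul {t x y t' x' y' : P} (h : hA.X a₁ a₂ t x y) (h' : hA.X a₁ a₂ t' x' y') :
    hA.X a₁ a₂ (t * t') (x * x') (y * y') where
  k := mul_mem h.k h'.k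
  x1 := by rw [hA.br_mul_left h.k h'.k hv.h1, h.x1, h'.x1]
  x2 := by rw [hA.br_mul_left h.k h'.k hv.h2, h.x2, h'.x2]

theorem mx {t x y : P} (h : hA.X a₁ a₂ t x y) : x ∈ hA.V := by
  rw [← h.x1]; exact hA.br_mem h.k hv.h1

theorem my {t x y : P} (h : hA.X a₁ a₂ t x y) : y ∈ hA.V := by
  rw [← h.x2]; exact hA.br_mem h.k hv.h2

theorem exX {t : P} (h : t ∈ hA.KK) : hA.X a₁ a₂ t (t * a₁ * t⁻¹ * a₁⁻¹) (t * a₂ * t⁻¹ * a₂⁻¹) :=
  ⟨h, rfl, rfl⟩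

/-- no element of order 4 of `A` is inverted -/
theorem star1 {t x y : P} (h : hA.X a₁ a₂ t x y) (e1 : x ≠ v₁) (e2 : y ≠ v₂) (e3 : x * y ≠ v₁ * v₂) :
    ∀ a ∈ A, t * a * t⁻¹ = a⁻¹ → a ^ 2 = 1 := by
  intro a ha hta
  have h0 : t * a * t⁻¹ * a⁻¹ = a ^ 2 := by
    rw [hta]
    calc a⁻¹ * a⁻¹ = (a ^ 2)⁻¹ := by rw [pow_two]; group
      _ = a ^ 2 := hA.V_inv (hA.sq_mem_V ha)
  rcases hv.all _ (hA.sq_mem_V ha) with h' | h' | h' | h'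
  · exact h'
  · exfalso
    apply e1
    rw [← h.x1, ← hA.br_eq h.k ha hv.h1 (by rw [h', hv.s1]), h0, h']
  · exfalso
    apply e2
    rw [← h.x2, ← hA.br_eq h.k ha hv.h2 (by rw [h', hv.s2]), h0, h']
  · exfalso
    apply e3
    rw [← hv.x3 hA h, ← hA.br_eq h.k ha (A.mul_mem hv.h1 hv.h2) (by rw [h', hv.s12]), h0, h']

/-- no element of order 4 of `A` is centralized -/
theorem star2 {t x y : P} (h : hA.X a₁ a₂ t x y) (e1 : x ≠ 1) (e2 : y ≠ 1) (e3 : x * y ≠ 1) :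
    ∀ a ∈ A, t * a * t⁻¹ = a → a ^ 2 = 1 := by
  intro a ha hta
  have h0 : t * a * t⁻¹ * a⁻¹ = 1 := by rw [hta, mul_inv_cancel]
  rcases hv.all _ (hA.sq_mem_V ha) with h' | h' | h' | h'
  · exact h'
  · exfalso
    apply e1
    rw [← h.x1, ← hA.br_eq h.k ha hv.h1 (by rw [h', hv.s1]), h0]
  · exfalso
    apply e2
    rw [← h.x2, ← hA.br_eq h.k ha hv.h2 (by rw [h', hv.s2]), h0]
  · exfalso
    apply e3
    rw [← hv.x3 hA h, ← hA.br_eq h.k ha (A.mul_mem hv.h1 hv.h2) (by rw [h', hv.s12]), h0]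

omit hv in
theorem conj_inv_of {g x y : P} (h : g * x * g⁻¹ = y) : g⁻¹ * y * g = x := by
  rw [← h]; group

/-- conjugation, fixing `v₂` -/
theorem X_conj1 {g t x y : P} (hg : g ∈ hA.KK) (h : hA.X a₁ a₂ t x y) :
    hA.X a₁ a₂ (g * t * g⁻¹) (g * x * g⁻¹) (g * y * g⁻¹) where
  k := hA.K_norm g h.k
  x1 := by
    have hm : g⁻¹ * a₁ * g ∈ A := by simpa using hA.norm g⁻¹ a₁ hv.h1
    have e : (g⁻¹ * a₁ * g) ^ 2 = a₁ ^ 2 := by
      have : (g⁻¹ * a₁ * g) ^ 2 = g⁻¹ * a₁ ^ 2 * g := by rw [pow_two, pow_two]; group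
      rw [this, hv.s1]
      exact conj_inv_of (hA.K_conj hg hv.m1)
    rw [br_conj, hA.br_eq h.k hm hv.h1 e, h.x1]
  x2 := by
    have hm : g⁻¹ * a₂ * g ∈ A := by simpa using hA.norm g⁻¹ a₂ hv.h2
    have e : (g⁻¹ * a₂ * g) ^ 2 = a₂ ^ 2 := by
      have : (g⁻¹ * a₂ * g) ^ 2 = g⁻¹ * a₂ ^ 2 * g := by rw [pow_two, pow_two]; group
      rw [this, hv.s2]
      exact conj_inv_of (hA.K_conj hg hv.m2)
    rw [br_conj, hA.br_eq h.k hm hv.h2 e, h.x2]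

/-- conjugation, moving `v₂` -/
theorem X_conj2 {g t x y : P} (hg : g ∉ hA.KK) (h : hA.X a₁ a₂ t x y) :
    hA.X a₁ a₂ (g * t * g⁻¹) (g * x * g⁻¹) (g * (x * y) * g⁻¹) where
  k := hA.K_norm g h.k
  x1 := by
    have hm : g⁻¹ * a₁ * g ∈ A := by simpa using hA.norm g⁻¹ a₁ hv.h1
    have e : (g⁻¹ * a₁ * g) ^ 2 = a₁ ^ 2 := by
      have : (g⁻¹ * a₁ * g) ^ 2 = g⁻¹ * a₁ ^ 2 * g := by rw [pow_two, pow_two]; group
      rw [this, hv.s1]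
      exact conj_inv_of (hv.c1 g)
    rw [br_conj, hA.br_eq h.k hm hv.h1 e, h.x1]
  x2 := by
    have hm : g⁻¹ * a₂ * g ∈ A := by simpa using hA.norm g⁻¹ a₂ hv.h2
    have e : (g⁻¹ * a₂ * g) ^ 2 = (a₁ * a₂) ^ 2 := by
      have : (g⁻¹ * a₂ * g) ^ 2 = g⁻¹ * a₂ ^ 2 * g := by rw [pow_two, pow_two]; group
      rw [this, hv.s2, hv.s12]
      apply conj_inv_of
      have e2 := hv.c2' hA hg
      calc g * (v₁ * v₂) * g⁻¹ = (g * v₁ * g⁻¹) * (g * v₂ * g⁻¹) := by group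
        _ = v₂ := by rw [hv.c1, e2, hv.pp']
    rw [br_conj, hA.br_eq h.k hm (A.mul_mem hv.h1 hv.h2) e, hv.x3 hA h]

theorem X_ext {t t' x y : P} (h : hA.X a₁ a₂ t x y) (h' : hA.X a₁ a₂ t' x y) :
    t * t'⁻¹ ∈ centralizer (A : Set P) := by
  have hk : t * t'⁻¹ ∈ hA.KK := mul_mem h.k (inv_mem h'.k)
  rw [hv.mem_C_iff hA hk]
  have e : t = (t * t'⁻¹) * t' := by group
  constructor
  · have h1 := h.x1
    have h2 := hA.br_mul_left hk h'.k hv.h1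
    rw [← e, h.x1, h'.x1] at h2
    exact (mul_eq_right.1 h2.symm)
  · have h2 := hA.br_mul_left hk h'.k hv.h2
    rw [← e, h.x2, h'.x2] at h2
    exact (mul_eq_right.1 h2.symm)

/-- `b` is invariant -/
theorem b_inv {t : P} (h : hA.X a₁ a₂ t 1 v₁) (g : P) : g * t * g⁻¹ * t⁻¹ ∈ centralizer (A : Set P) := by
  by_cases hg : g ∈ hA.KK
  · have h1 := hv.X_conj1 hA hg h
    rw [mul_one, mul_inv_cancel, hv.c1] at h1
    exact hv.X_ext hA h1 h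
  · have h1 := hv.X_conj2 hA hg h
    rw [one_mul, mul_one, mul_inv_cancel, hv.c1] at h1
    exact hv.X_ext hA h1 h

theorem sq_mem_C {t : P} (h : t ∈ hA.KK) : t ^ 2 ∈ centralizer (A : Set P) := by
  have h1 := hv.Xmul hA (hv.exX hA h) (hv.exX hA h)
  rw [pow_two, hv.mem_C_iff hA (mul_mem h h), h1.x1, h1.x2]
  exact ⟨hA.V_mul_self (hA.br_mem h hv.h1), hA.V_mul_self (hA.br_mem h hv.h2)⟩

theorem comm_mem_C {g t : P} (hg : g ∈ hA.KK) (h : t ∈ hA.KK) :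
    g * t * g⁻¹ * t⁻¹ ∈ centralizer (A : Set P) := by
  have h1 := hv.X_conj1 hA hg (hv.exX hA h)
  rw [hA.K_conj hg (hA.br_mem h hv.h1), hA.K_conj hg (hA.br_mem h hv.h2)] at h1
  exact hv.X_ext hA h1 (hv.exX hA h)

theorem exists_root {v : P} (h : v ∈ hA.V) : ∃ a ∈ A, a ^ 2 = v := by
  rcases hv.all v h with rfl | rfl | rfl | rfl
  · exact ⟨1, A.one_mem, by simp⟩
  · exact ⟨a₁, hv.h1, hv.s1⟩
  · exact ⟨a₂, hv.h2, hv.s2⟩
  · exact ⟨_, A.mul_mem hv.h1 hv.h2, hv.s12⟩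

section omega

variable [Finite P] (hP : IsPGroup 2 P)
include hP

/-- an element acting as `ω` -/
theorem omega {t : P} (h : hA.X a₁ a₂ t v₂ (v₁ * v₂)) :
    t ∉ centralizer (A : Set P) ∧ (∀ a ∈ A, t * a * t⁻¹ = a⁻¹ → a ^ 2 = 1) ∧
      (∀ a ∈ A, t * a * t⁻¹ = a → a ^ 2 = 1) ∧ t ^ 2 ∈ hA.V := by
  have h1 := hv.star1 hA h hv.n12.symm (hv.n23 hA) (by
    rw [hv.qp' hA, hv.qq hA, mul_one]
    exact (hv.n13 hA).symm)
  have h2 := hv.star2 hA h hv.n2 (hv.n3 hA) (by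
    rw [hv.qp' hA, hv.qq hA, mul_one]
    exact hv.n1)
  refine ⟨?_, h1, h2, ?_⟩
  · intro hC
    rw [hv.mem_C_iff hA h.k, h.x1] at hC
    exact hv.n2 hC.1
  · have h3 := hv.sq_mem_C hA h.k
    exact hA.mem_V_of_C h3 (hA.sq_of_fix hP (t := t) h3 (by rw [pow_two]; group) h2)

theorem C_eq {t : P} (h : hA.X a₁ a₂ t v₂ (v₁ * v₂)) {c : P} (hc : c ∈ centralizer (A : Set P)) : c ∈ A := by
  obtain ⟨-, h1, h2, h3⟩ := hv.omega hA hP h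
  have hy : t * c * t⁻¹ * c⁻¹ ∈ centralizer (A : Set P) := mul_mem (hA.C_norm t hc) (inv_mem hc)
  have ht2 : t * t * c = c * (t * t) := by
    rw [pow_two] at h3
    exact ((hA.mem_C).1 hc _ h3.1).symm
  have hyV : t * c * t⁻¹ * c⁻¹ ∈ hA.V := by
    refine hA.mem_V_of_C hy (hA.sq_of_inv hP (t := t) hy ?_ h1)
    calc t * (t * c * t⁻¹ * c⁻¹) * t⁻¹ = (t * t * c) * (t * t)⁻¹ * (t * c⁻¹ * t⁻¹) := by group
      _ = (t * c * t⁻¹ * c⁻¹)⁻¹ := by rw [ht2]; group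
  obtain ⟨a, ha, hav⟩ := hA.surj_br hv.cV hv.cA h.k h2 hyV
  have hac : c * a⁻¹ ∈ centralizer (A : Set P) := mul_mem hc (inv_mem (hA.A_le_C ha))
  have hcaV : c * a⁻¹ ∈ hA.V := by
    refine hA.mem_V_of_C hac (hA.sq_of_fix hP (t := t) hac ?_ h2)
    have e1 : t * c * t⁻¹ = (t * a * t⁻¹ * a⁻¹) * c := by rw [hav]; group
    have e2 : Commute c (t * a * t⁻¹) := (hA.mem_C).1 hc _ (hA.norm t a ha)
    have e3 : Commute c a := (hA.mem_C).1 hc _ ha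
    calc t * (c * a⁻¹) * t⁻¹ = (t * c * t⁻¹) * (t * a * t⁻¹)⁻¹ := by group
      _ = (t * a * t⁻¹) * (a⁻¹ * c) * (t * a * t⁻¹)⁻¹ := by rw [e1]; group
      _ = (t * a * t⁻¹) * (c * a⁻¹) * (t * a * t⁻¹)⁻¹ := by rw [e3.inv_right.eq]
      _ = c * a⁻¹ := by
        have e4 : Commute (t * a * t⁻¹) (c * a⁻¹) :=
          e2.symm.mul_right ((show Commute (t * a * t⁻¹) a from hA.comm _ (hA.norm t a ha) _ ha).inv_right)
        rw [e4.eq]; group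
  have : c = (c * a⁻¹) * a := by group
  rw [this]
  exact A.mul_mem hcaV.1 ha

end omega

end II

end AD

end H25.MacW
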