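import Mathlib
import Cfsg.Agent.Lib.H25.MacW3

/-!
MacWilliams's theorem, part 4: the squaring map for `A` of type (4,4) and the final bound in this case.
-/

set_option autoImplicit false
set_option linter.unusedSectionVars false
set_option linter.all false

namespace H25.MacW

open Subgroup

theorem prod_mem_of_index {M : Type*} [Group M] [Finite M] (S : Subgroup M) (h : S.index ≤ 2) {x y : M}
    (hx : x ∉ S) (hy : y ∉ S) : x * y ∈ S := by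
  have h0 : S.index ≠ 0 := Subgroup.index_ne_zero_of_finite
  have : S.index = 1 ∨ S.index = 2 := by omega
  rcases this with h1 | h2
  · rw [Subgroup.index_eq_one] at h1
    rw [h1] at hx; exact absurd (mem_top x) hx
  · rw [Subgroup.mul_mem_iff_of_index_two h2]
    exact iff_of_false hx hy

namespace AD

variable {P : Type*} [Group P] {A : Subgroup P} (hA : AD A)

namespace II

variable {v₁ v₂ a₁ a₂ : P} (hv : hA.II v₁ v₂ a₁ a₂)
include hv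

section quad

variable (hCA : ∀ c ∈ centralizer (A : Set P), c ∈ A)
include hCA

theorem sqA {t : P} (h : t ∈ hA.KK) : t ^ 2 ∈ A := hCA _ (hv.sq_mem_C hA h)

theorem commA {s t : P} (hs : s ∈ hA.KK) (ht : t ∈ hA.KK) : s * t * s⁻¹ * t⁻¹ ∈ A :=
  hCA _ (hv.comm_mem_C hA hs ht)

theorem q_mem {t : P} (h : t ∈ hA.KK) : t ^ 4 ∈ hA.V := by
  have := hA.sq_mem_V (hv.sqA hA hCA h)
  rwa [← pow_mul] at this

theorem q_mul {s t : P} (hs : s ∈ hA.KK) (ht : t ∈ hA.KK) :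
    (s * t) ^ 4 = s ^ 4 * t ^ 4 * (t * s * t⁻¹ * s⁻¹) ^ 2 := by
  have h1 := hv.commA hA hCA ht hs
  have h2 := hv.sqA hA hCA hs
  have h3 := hv.sqA hA hCA ht
  have h4 := hA.norm s _ h1
  have e0 : (s * t) ^ 2 = (s * (t * s * t⁻¹ * s⁻¹) * s⁻¹) * s ^ 2 * t ^ 2 := by
    rw [pow_two, pow_two, pow_two]; group
  have c1 : Commute (s * (t * s * t⁻¹ * s⁻¹) * s⁻¹) (s ^ 2) := hA.comm _ h4 _ h2
  have c2 : Commute ((s * (t * s * t⁻¹ * s⁻¹) * s⁻¹) * s ^ 2) (t ^ 2) :=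
    hA.comm _ (A.mul_mem h4 h2) _ h3
  have e1 : (s * (t * s * t⁻¹ * s⁻¹) * s⁻¹) ^ 2 = (t * s * t⁻¹ * s⁻¹) ^ 2 := by
    rw [conj_pow]
    exact hA.K_conj hs (hA.sq_mem_V h1)
  have h5 := (hA.sq_mem_V h1)
  calc (s * t) ^ 4 = ((s * t) ^ 2) ^ 2 := by rw [← pow_mul]
    _ = (t * s * t⁻¹ * s⁻¹) ^ 2 * (s ^ 2) ^ 2 * (t ^ 2) ^ 2 := by
      rw [e0, c2.mul_pow, c1.mul_pow, e1]
    _ = (t * s * t⁻¹ * s⁻¹) ^ 2 * (s ^ 4 * t ^ 4) := by rw [← pow_mul, ← pow_mul, mul_assoc]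
    _ = _ := hA.comm _ h5.1 _ (A.mul_mem (hv.q_mem hA hCA hs).1 (hv.q_mem hA hCA ht).1)

theorem beta_mul {r s t : P} (hr : r ∈ hA.KK) (hs : s ∈ hA.KK) (ht : t ∈ hA.KK) :
    (r * (s * t) * r⁻¹ * (s * t)⁻¹) ^ 2 = (r * s * r⁻¹ * s⁻¹) ^ 2 * (r * t * r⁻¹ * t⁻¹) ^ 2 := by
  have h1 := hv.commA hA hCA hr hs
  have h2 := hv.commA hA hCA hr ht
  have h3 := hA.norm s _ h2
  have e0 : r * (s * t) * r⁻¹ * (s * t)⁻¹
      = (r * s * r⁻¹ * s⁻¹) * (s * (r * t * r⁻¹ * t⁻¹) * s⁻¹) := by group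
  rw [e0, (show Commute (r * s * r⁻¹ * s⁻¹) (s * (r * t * r⁻¹ * t⁻¹) * s⁻¹) from
    hA.comm _ h1 _ h3).mul_pow, conj_pow, hA.K_conj hs (hA.sq_mem_V h2)]

/-- `t⁴` is in the kernel -/
theorem q_ker {t x y : P} (h : hA.X a₁ a₂ t x y) :
    (t ^ 4 = v₁ → x = 1) ∧ (t ^ 4 = v₂ → y = 1) ∧ (t ^ 4 = v₁ * v₂ → x * y = 1) := by
  have h2 := hv.sqA hA hCA h.k
  have h0 : t * t ^ 2 * t⁻¹ * (t ^ 2)⁻¹ = 1 := by rw [pow_two]; group
  have e4 : (t ^ 2) ^ 2 = t ^ 4 := by rw [← pow_mul]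
  refine ⟨fun h' => ?_, fun h' => ?_, fun h' => ?_⟩
  · rw [← h.x1, ← hA.br_eq h.k h2 hv.h1 (by rw [e4, h', hv.s1]), h0]
  · rw [← h.x2, ← hA.br_eq h.k h2 hv.h2 (by rw [e4, h', hv.s2]), h0]
  · rw [← hv.x3 hA h, ← hA.br_eq h.k h2 (A.mul_mem hv.h1 hv.h2) (by rw [e4, h', hv.s12]), h0]

theorem q_one {t x y : P} (h : hA.X a₁ a₂ t x y) (e1 : x ≠ 1) (e2 : y ≠ 1) (e3 : x * y ≠ 1) :
    t ^ 4 = 1 := by
  obtain ⟨k1, k2, k3⟩ := hv.q_ker hA hCA h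
  rcases hv.all _ (hv.q_mem hA hCA h.k) with h' | h' | h' | h'
  · exact h'
  · exact absurd (k1 h') e1
  · exact absurd (k2 h') e2
  · exact absurd (k3 h') e3

theorem link {s t r x : P} (hs : hA.X a₁ a₂ s 1 v₁) (ht : hA.X a₁ a₂ t x 1)
    (hr : hA.X a₁ a₂ r (x * v₁) (x * v₁)) (x1 : x ≠ 1) (xv : x ≠ v₁) (hs4 : s ^ 4 ≠ 1) :
    s ^ 4 = v₁ ∧ t ^ 4 = v₂ ∧ r ^ 4 = v₁ * v₂ := by
  have hxV : x ∈ hA.V := hv.mx hA ht
  have hxx : x * x = 1 := hA.V_mul_self hxV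
  have hxv : x * v₁ ≠ 1 := by
    intro h
    rw [mul_eq_one_iff_eq_inv, hA.V_inv hv.m1] at h
    exact xv h
  have hvx : v₁ * x = x * v₁ := hA.comm _ hv.m1.1 _ hxV.1
  have hst := hv.Xmul hA hs ht
  rw [one_mul, mul_one] at hst
  have qst := hv.q_one hA hCA hst x1 hv.n1 hxv
  have hsr := hv.Xmul hA hs hr
  rw [one_mul] at hsr
  have e1 : v₁ * (x * v₁) = x := by rw [← mul_assoc, hvx, mul_assoc, hv.pp, mul_one]
  have e2 : x * (x * v₁) = v₁ := by rw [← mul_assoc, hxx, one_mul]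
  rw [e1] at hsr
  have qsr := hv.q_one hA hCA hsr hxv x1 (by
    rw [mul_assoc, hvx, e2]; exact hv.n1)
  have htr := hv.Xmul hA ht hr
  rw [one_mul, e2] at htr
  have qtr := hv.q_one hA hCA htr hv.n1 hxv (by rw [e1]; exact x1)
  have hstr := hv.Xmul hA hst hr
  rw [e1, e2] at hstr
  have qstr := hv.q_one hA hCA hstr hv.n1 x1 (by rw [hvx]; exact hxv)
  -- multiplicativity
  have m1 := hv.q_mul hA hCA hs.k ht.k
  have m2 := hv.q_mul hA hCA hs.k hr.k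
  have m3 := hv.q_mul hA hCA ht.k hr.k
  have m4 := hv.q_mul hA hCA hst.k hr.k
  rw [hv.beta_mul hA hCA hr.k hs.k ht.k] at m4
  rw [qst] at m1
  rw [qsr] at m2
  rw [qtr] at m3
  rw [qstr, qst, one_mul] at m4
  have qs := hv.q_mem hA hCA hs.k
  have qt := hv.q_mem hA hCA ht.k
  have qr := hv.q_mem hA hCA hr.k
  have b2 : (r * s * r⁻¹ * s⁻¹) ^ 2 = s ^ 4 * r ^ 4 := by
    rw [← inv_eq_of_mul_eq_one_right m2.symm]
    exact (hA.V_inv (mul_mem qs qr))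
  have b3 : (r * t * r⁻¹ * t⁻¹) ^ 2 = t ^ 4 * r ^ 4 := by
    rw [← inv_eq_of_mul_eq_one_right m3.symm]
    exact (hA.V_inv (mul_mem qt qr))
  rw [b2, b3] at m4
  have hq : s ^ 4 * (t ^ 4 * r ^ 4) = 1 := by
    have c1 := hA.comm _ qr.1 _ qs.1
    have c2 := hA.comm _ qr.1 _ qt.1
    have r1 := hA.V_mul_self qr
    rw [m4]
    calc s ^ 4 * (t ^ 4 * r ^ 4) = s ^ 4 * (1 * (t ^ 4 * r ^ 4)) := by rw [one_mul]
      _ = s ^ 4 * ((r ^ 4 * r ^ 4) * (t ^ 4 * r ^ 4)) := by rw [r1]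
      _ = (s ^ 4 * r ^ 4) * r ^ 4 * (t ^ 4 * r ^ 4) := by simp only [mul_assoc]
      _ = (r ^ 4 * s ^ 4) * r ^ 4 * (t ^ 4 * r ^ 4) := by rw [c1]
      _ = _ := by simp only [mul_assoc]
  obtain ⟨s1, s2, s3⟩ := hv.q_ker hA hCA hs
  obtain ⟨t1, t2, t3⟩ := hv.q_ker hA hCA ht
  obtain ⟨r1, r2, r3⟩ := hv.q_ker hA hCA hr
  have es : s ^ 4 = v₁ := by
    rcases hv.all _ qs with h | h | h | h
    · exact absurd h hs4
    · exact h
    · exact absurd (s2 h) hv.n1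
    · exact absurd (s3 h) (by rw [one_mul]; exact hv.n1)
  have et : t ^ 4 = 1 ∨ t ^ 4 = v₂ := by
    rcases hv.all _ qt with h | h | h | h
    · exact Or.inl h
    · exact absurd (t1 h) x1
    · exact Or.inr h
    · exact absurd (t3 h) (by rw [mul_one]; exact x1)
  have er : r ^ 4 = 1 ∨ r ^ 4 = v₁ * v₂ := by
    rcases hv.all _ qr with h | h | h | h
    · exact Or.inl h
    · exact absurd (r1 h) hxv
    · exact absurd (r2 h) hxv
    · exact Or.inr h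
  refine ⟨es, ?_⟩
  rw [es] at hq
  rcases et with et | et <;> rcases er with er | er
  · rw [et, er, mul_one, mul_one] at hq
    exact absurd hq hv.n1
  · rw [et, er, one_mul, hv.pp'] at hq
    exact absurd hq hv.n2
  · rw [et, er, mul_one] at hq
    exact absurd hq (hv.n3 hA)
  · exact ⟨et, er⟩

end quad

/-! ### the homomorphism to `V × V` -/

/-- the action on `A` -/
def phi (hv : hA.II v₁ v₂ a₁ a₂) : hA.KK →* hA.V × hA.V :=
  (hA.brHom a₁ hv.h1).prod (hA.brHom a₂ hv.h2)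

theorem phi_iff {t x y : P} (ht : t ∈ hA.KK) (hx : x ∈ hA.V) (hy : y ∈ hA.V) :
    hv.phi hA ⟨t, ht⟩ = (⟨x, hx⟩, ⟨y, hy⟩) ↔ hA.X a₁ a₂ t x y := by
  constructor
  · intro h
    have h1 := congrArg (fun z => ((z.1 : hA.V) : P)) h
    have h2 := congrArg (fun z => ((z.2 : hA.V) : P)) h
    exact ⟨ht, h1, h2⟩
  · intro h
    apply Prod.ext
    · exact Subtype.ext h.x1
    · exact Subtype.ext h.x2

theorem mem_im_iff {Z : Subgroup P} {x y : P} (hx : x ∈ hA.V) (hy : y ∈ hA.V) :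
    ((⟨x, hx⟩, ⟨y, hy⟩) : hA.V × hA.V) ∈ im (hv.phi hA) Z ↔ ∃ t ∈ Z, hA.X a₁ a₂ t x y := by
  rw [mem_im]
  constructor
  · rintro ⟨⟨t, ht⟩, htZ, h⟩
    exact ⟨t, htZ, (hv.phi_iff hA ht hx hy).1 h⟩
  · rintro ⟨t, ht, h⟩
    exact ⟨⟨t, h.k⟩, ht, (hv.phi_iff hA h.k hx hy).2 h⟩

theorem phi_ker (k : hA.KK) : hv.phi hA k = 1 ↔ (k : P) ∈ centralizer (A : Set P) := by
  rw [hv.mem_C_iff hA k.2]
  constructor
  · intro h
    exact ⟨congrArg (fun z => ((z.1 : hA.V) : P)) h, congrArg (fun z => ((z.2 : hA.V) : P)) h⟩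
  · rintro ⟨h1, h2⟩
    apply Prod.ext
    · exact Subtype.ext h1
    · exact Subtype.ext h2

theorem card_VV [Finite P] : Nat.card (hA.V × hA.V) = 16 := by
  rw [Nat.card_prod, hv.cV]

theorem index_le [Finite P] (S : Subgroup (hA.V × hA.V)) (h : 4 < Nat.card S) : S.index ≤ 2 := by
  have h1 : Nat.card S * S.index = 16 := by rw [← hv.card_VV hA]; exact S.card_mul_index
  have h2 : S.index ≤ 3 := by
    by_contra hlt
    push Not at hlt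
    have := Nat.mul_le_mul h.le hlt
    nlinarith
  by_contra h3
  have h4 : S.index = 3 := by omega
  rw [h4] at h1
  omega

end II

end AD

end H25.MacW
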