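import Mathlib
import Cfsg.Agent.Lib.H25.MacW4

/-!
MacWilliams's theorem, part 5: the bound for `A` of type (4,4).
-/

set_option autoImplicit false
set_option linter.unusedSectionVars false
set_option linter.all false

namespace H25.MacW

open Subgroup

namespace AD

variable {P : Type*} [Group P] {A : Subgroup P} (hA : AD A)

namespace II

variable {v₁ v₂ a₁ a₂ : P} (hv : hA.II v₁ v₂ a₁ a₂)
include hv

section fin
variable [Finite P]

theorem five (S : Subgroup (hA.V × hA.V)) (hS : S.index ≤ 2) :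
    ∃ (x y : P) (hx : x ∈ hA.V) (hy : y ∈ hA.V), ((⟨x, hx⟩, ⟨y, hy⟩) : hA.V × hA.V) ∈ S ∧ x ≠ v₁ ∧ y ≠ v₂ ∧
      x * y ≠ v₁ * v₂ ∧ ¬(x = 1 ∧ y = 1) := by
  have m12 := hv.m12 hA
  by_contra hcon
  push Not at hcon
  have t1 : ((⟨1, one_mem _⟩, ⟨v₁, hv.m1⟩) : hA.V × hA.V) ∉ S := fun h =>
    hv.n1 (hcon 1 v₁ (one_mem _) hv.m1 h hv.n1.symm hv.n12
      (by rw [one_mul]; exact (hv.n13 hA).symm)).2
  have t2 : ((⟨v₂, hv.m2⟩, ⟨1, one_mem _⟩) : hA.V × hA.V) ∉ S := fun h =>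
    hv.n2 (hcon v₂ 1 hv.m2 (one_mem _) h hv.n12.symm hv.n2.symm
      (by rw [mul_one]; exact (hv.n23 hA).symm)).1
  have t3 : ((⟨v₁ * v₂, m12⟩, ⟨v₁ * v₂, m12⟩) : hA.V × hA.V) ∉ S := fun h =>
    hv.n3 hA (hcon (v₁ * v₂) (v₁ * v₂) m12 m12 h (hv.n13 hA) (hv.n23 hA)
      (by rw [hA.V_mul_self m12]; exact (hv.n3 hA).symm)).1
  have t4 : ((⟨v₂, hv.m2⟩, ⟨v₁ * v₂, m12⟩) : hA.V × hA.V) ∉ S := fun h =>
    hv.n2 (hcon v₂ (v₁ * v₂) hv.m2 m12 h hv.n12.symm (hv.n23 hA)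
      (by rw [hv.qp' hA, hv.qq hA, mul_one]; exact (hv.n13 hA).symm)).1
  have t5 : ((⟨v₁ * v₂, m12⟩, ⟨v₁, hv.m1⟩) : hA.V × hA.V) ∉ S := fun h =>
    hv.n1 (hcon (v₁ * v₂) v₁ m12 hv.m1 h (hv.n13 hA) hv.n12
      (by rw [mul_assoc, hv.qp hA, hv.pp' hA]; exact (hv.n23 hA).symm)).2
  apply t3
  have h1 := prod_mem_of_index S hS t1 t2
  have h2 := prod_mem_of_index S hS t4 t5
  have h3 := S.mul_mem h1 h2
  convert h3 using 1
  apply Prod.ext
  · apply Subtype.ext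
    change v₁ * v₂ = 1 * v₂ * (v₂ * (v₁ * v₂))
    simp only [one_mul, mul_one, mul_assoc, hv.pp hA, hv.qq hA, hv.qp hA, hv.pp' hA, hv.qq' hA, hv.qp' hA]
  · apply Subtype.ext
    change v₁ * v₂ = v₁ * 1 * (v₁ * v₂ * v₁)
    simp only [one_mul, mul_one, mul_assoc, hv.pp hA, hv.qq hA, hv.qp hA, hv.pp' hA, hv.qq' hA, hv.qp' hA]

theorem four (S : Subgroup (hA.V × hA.V)) (hS : S.index ≤ 2)
    (hb : ((⟨1, one_mem _⟩, ⟨v₁, hv.m1⟩) : hA.V × hA.V) ∉ S) :
    ∃ (x : P) (hx : x ∈ hA.V), x ≠ 1 ∧ x ≠ v₁ ∧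
      (((⟨x, hx⟩, ⟨1, one_mem _⟩) : hA.V × hA.V) ∈ S ∨
        ((⟨x * v₁, mul_mem hx hv.m1⟩, ⟨x * v₁, mul_mem hx hv.m1⟩) : hA.V × hA.V) ∈ S) := by
  have m12 := hv.m12 hA
  by_contra hcon
  push Not at hcon
  obtain ⟨t1, t2⟩ := hcon v₂ hv.m2 hv.n2 hv.n12.symm
  obtain ⟨t3, t4⟩ := hcon (v₁ * v₂) m12 (hv.n3 hA) (hv.n13 hA)
  apply hb
  have h1 := prod_mem_of_index S hS t1 t3
  have h2 := prod_mem_of_index S hS t2 t4
  have h3 := S.mul_mem h1 h2
  convert h3 using 1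
  apply Prod.ext
  · apply Subtype.ext
    change 1 = v₂ * (v₁ * v₂) * (v₂ * v₁ * (v₁ * v₂ * v₁))
    simp only [one_mul, mul_one, mul_assoc, hv.pp hA, hv.qq hA, hv.qp hA, hv.pp' hA, hv.qq' hA, hv.qp' hA]
  · apply Subtype.ext
    change v₁ = 1 * 1 * (v₂ * v₁ * (v₁ * v₂ * v₁))
    simp only [one_mul, mul_one, mul_assoc, hv.pp hA, hv.qq hA, hv.qp hA, hv.pp' hA, hv.qq' hA, hv.qp' hA]

theorem two (S : Subgroup (hA.V × hA.V)) (hS : S.index ≤ 2)
    (hb : ((⟨1, one_mem _⟩, ⟨v₁, hv.m1⟩) : hA.V × hA.V) ∉ S) :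
    ∃ (y : P) (hy : y ∈ hA.V), (y = 1 ∨ y = v₁) ∧ ((⟨v₁, hv.m1⟩, ⟨y, hy⟩) : hA.V × hA.V) ∈ S := by
  by_contra hcon
  push Not at hcon
  have t1 := hcon 1 (one_mem _) (Or.inl rfl)
  have t2 := hcon v₁ hv.m1 (Or.inr rfl)
  apply hb
  have h3 := prod_mem_of_index S hS t1 t2
  convert h3 using 1
  apply Prod.ext
  · apply Subtype.ext
    change 1 = v₁ * v₁
    rw [hv.pp hA]
  · apply Subtype.ext
    change v₁ = 1 * v₁
    rw [one_mul]

variable (hP : IsPGroup 2 P)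
  (hE : ∀ B : Subgroup P, B.Normal → IsMulCommutative B → (∀ b ∈ B, b ^ 2 = 1) → Nat.card B ≤ 4)
include hP hE

theorem keyb {t : P} (h : hA.X a₁ a₂ t 1 v₁) {c : P} (hc : c ∈ centralizer (A : Set P)) :
    t ^ 2 ≠ c ^ 2 := by
  intro htc
  refine hA.key hP hE hv.cV hv.cA h.k ?_ (hv.star1 hA h hv.n1.symm hv.n12 ?_) (hv.b_inv hA h) hc htc
  · intro hC
    rw [hv.mem_C_iff hA h.k, h.x2] at hC
    exact hv.n1 hC.2
  · rw [one_mul]; exact (hv.n13 hA).symm

theorem keyq {t : P} (h : hA.X a₁ a₂ t 1 v₁) : t ^ 4 ≠ 1 := by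
  intro h4
  have h1 := hA.mem_V_of_C (hv.sq_mem_C hA h.k) (by rw [← pow_mul]; exact h4)
  obtain ⟨a, ha, ha2⟩ := hv.exists_root hA h1
  exact hv.keyb hA hP hE h (hA.A_le_C ha) ha2.symm

/-- the bound when `H` centralizes the involutions of `A` -/
theorem caseII_le {H N : Subgroup P} (hHK : H ≤ hA.KK) (hNH : N ≤ H) (hsq : ∀ x ∈ H, x ^ 2 ∈ N) :
    N.relIndex H ≤ 16 := by
  obtain ⟨hd4, hd⟩ := hA.dich hP hv.cV.le hNH hsq
  have hC := hv.phi_ker hA
  have hT : 0 < Nat.card (im (hv.phi hA) (N ⊓ hA.KK)) := Nat.card_pos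
  have hinf : H ⊓ hA.KK = H := inf_eq_left.2 hHK
  set S := im (hv.phi hA) H with hSdef
  have B : ∀ κ a : ℕ, Nat.card S ≤ κ →
      Nat.card (H ⊓ centralizer (A : Set P) : Subgroup P)
        ≤ a * Nat.card (N ⊓ centralizer (A : Set P) : Subgroup P) → N.relIndex H ≤ κ * a := by
    intro κ a h1 h2
    have := bound (hv.phi hA) hC hA.C_le_K hNH (l := 1) (κ := κ) (a := a) (by rw [one_mul, hinf])
      (by
        rw [hinf]
        calc Nat.card S ≤ κ := h1
          _ = κ * 1 := (mul_one _).symm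
          _ ≤ _ := Nat.mul_le_mul_left _ hT) h2
    simpa using this
  by_cases h4 : Nat.card S ≤ 4
  · exact B 4 4 h4 hd4
  have hidx : S.index ≤ 2 := hv.index_le hA S (by omega)
  have hcardS : Nat.card S * S.index = 16 := by rw [← hv.card_VV hA]; exact S.card_mul_index
  have hS16 : Nat.card S ≤ 16 := by
    rw [← hv.card_VV hA]; exact Nat.card_le_card_of_injective _ Subtype.val_injective
  have hS8 : S ≠ ⊤ → Nat.card S ≤ 8 := by
    intro hne
    have h1 : S.index ≠ 1 := fun h => hne (Subgroup.index_eq_one.1 h)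
    have h0 : S.index ≠ 0 := Subgroup.index_ne_zero_of_finite
    have h2 : S.index = 2 := by omega
    rw [h2] at hcardS
    omega
  have m12 := hv.m12 hA
  by_cases hK : ∀ g : P, g ∈ hA.KK
  · rcases hd with hd | hd
    swap
    · exfalso
      obtain ⟨x, y, hx, hy, hxyS, e1, e2, e3, e4⟩ := hv.five hA S hidx
      obtain ⟨t, htH, ht⟩ := (hv.mem_im_iff hA hx hy).1 hxyS
      obtain ⟨d, hdH, hdC, hd⟩ := hd (t ^ 2) (hsq t htH) (hv.sq_mem_C hA ht.k)
      refine hA.key hP hE hv.cV hv.cA ht.k ?_ (hv.star1 hA ht e1 e2 e3)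
        (fun g => hv.comm_mem_C hA (hK g) ht.k) hdC hd.symm
      intro hC'
      rw [hv.mem_C_iff hA ht.k, ht.x1, ht.x2] at hC'
      exact e4 hC'
    · refine B 8 2 (hS8 ?_) hd
      intro hS
      obtain ⟨t, htH, ht⟩ := (hv.mem_im_iff hA hv.m2 m12).1 (show _ ∈ S by rw [hS]; exact mem_top _)
      obtain ⟨htC, s1, s2, ht2⟩ := hv.omega hA hP ht
      obtain ⟨a, ha, ha2⟩ := hv.exists_root hA ht2
      exact hA.key hP hE hv.cV hv.cA ht.k htC s1 (fun g => hv.comm_mem_C hA (hK g) ht.k)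
        (hA.A_le_C ha) ha2.symm
  · push Not at hK
    obtain ⟨g, hg⟩ := hK
    by_cases hb : ((⟨1, one_mem _⟩, ⟨v₁, hv.m1⟩) : hA.V × hA.V) ∈ S
    · obtain ⟨tb, htbH, htb⟩ := (hv.mem_im_iff hA (one_mem _) hv.m1).1 hb
      have hd2 := hd.resolve_right (fun h => by
        obtain ⟨d, hdH, hdC, hd⟩ := h (tb ^ 2) (hsq tb htbH) (hv.sq_mem_C hA htb.k)
        exact hv.keyb hA hP hE htb hdC hd.symm)
      by_cases hS : S = ⊤
      · obtain ⟨t, htH, ht⟩ := (hv.mem_im_iff hA hv.m2 m12).1 (show _ ∈ S by rw [hS]; exact mem_top _)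
        have hCA : ∀ c ∈ centralizer (A : Set P), c ∈ A := fun c hc => hv.C_eq hA hP ht hc
        obtain ⟨t1, ht1H, ht1⟩ := (hv.mem_im_iff hA hv.m2 (one_mem _)).1
          (show _ ∈ S by rw [hS]; exact mem_top _)
        obtain ⟨r1, hr1H, hr1⟩ := (hv.mem_im_iff hA (mul_mem hv.m2 hv.m1) (mul_mem hv.m2 hv.m1)).1
          (show _ ∈ S by rw [hS]; exact mem_top _)
        obtain ⟨q1, q2, -⟩ := hv.link hA hCA htb ht1 hr1 hv.n2 hv.n12.symm (hv.keyq hA hP hE htb)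
        have n1 := hsq tb htbH
        have n2 := hsq t1 ht1H
        have k1 := hv.sqA hA hCA htb.k
        have k2 := hv.sqA hA hCA ht1.k
        have e1 : (tb ^ 2) ^ 2 = v₁ := by rw [← pow_mul]; exact q1
        have e2 : (t1 ^ 2) ^ 2 = v₂ := by rw [← pow_mul]; exact q2
        have w1 : v₁ ∈ N := by rw [← e1]; exact N.pow_mem n1 2
        have w2 : v₂ ∈ N := by rw [← e2]; exact N.pow_mem n2 2
        have hVN : hA.V ≤ N := by
          intro v hvV
          rcases hv.all v hvV with rfl | rfl | rfl | rfl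
          · exact N.one_mem
          · exact w1
          · exact w2
          · exact N.mul_mem w1 w2
        have hlem : ∀ a ∈ A, ∀ b ∈ A, b ∈ N → a ^ 2 = b ^ 2 → a ∈ N := by
          intro a ha b hb hbN hab
          have h1 : a * b⁻¹ ∈ hA.V := by
            refine ⟨A.mul_mem ha (A.inv_mem hb), ?_⟩
            rw [(show Commute a b⁻¹ from hA.comm _ ha _ (A.inv_mem hb)).mul_pow, hab, inv_pow,
              mul_inv_cancel]
          have : a = (a * b⁻¹) * b := by group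
          rw [this]
          exact N.mul_mem (hVN h1) hbN
        have hAN : A ≤ N := by
          intro a ha
          rcases hv.all _ (hA.sq_mem_V ha) with h | h | h | h
          · exact hVN ⟨ha, h⟩
          · exact hlem a ha _ k1 n1 (by rw [h, e1])
          · exact hlem a ha _ k2 n2 (by rw [h, e2])
          · refine hlem a ha _ (A.mul_mem k1 k2) (N.mul_mem n1 n2) ?_
            rw [h, (show Commute (tb ^ 2) (t1 ^ 2) from hA.comm _ k1 _ k2).mul_pow, e1, e2]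
        have hle : H ⊓ centralizer (A : Set P) ≤ N ⊓ centralizer (A : Set P) :=
          fun x hx => ⟨hAN (hCA x hx.2), hx.2⟩
        have := B 16 1 hS16 (by
          rw [one_mul]
          exact Nat.le_of_dvd Nat.card_pos (Subgroup.card_dvd_of_le hle))
        simpa using this
      · exact B 8 2 (hS8 hS) hd2
    · have hS : S ≠ ⊤ := by
        intro h
        apply hb
        rw [h]; exact mem_top _
      rcases hd with hd | hd
      · exact B 8 2 (hS8 hS) hd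
      · exfalso
        have hSK : S ≤ im (hv.phi hA) hA.KK := im_mono hHK
        obtain ⟨y, hy, hy', hyS⟩ := hv.two hA S hidx hb
        obtain ⟨t0, ht0H, ht0⟩ := (hv.mem_im_iff hA hv.m1 hy).1 hyS
        have ht0g := hv.X_conj2 hA hg ht0
        -- `b` is in the image of `K`
        obtain ⟨tb, htb⟩ : ∃ tb : P, hA.X a₁ a₂ tb 1 v₁ := by
          refine ⟨t0 * (g * t0 * g⁻¹), ?_⟩
          · have h1 := hv.Xmul hA ht0 ht0g
            rw [hv.c1, hv.pp hA] at h1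
            rcases hy' with rfl | rfl
            · rwa [one_mul, mul_one, hv.c1] at h1
            · rwa [hv.pp hA, mul_one, mul_inv_cancel, mul_one] at h1
        have hbK : ((⟨1, one_mem _⟩, ⟨v₁, hv.m1⟩) : hA.V × hA.V) ∈ im (hv.phi hA) hA.KK :=
          (hv.mem_im_iff hA (one_mem _) hv.m1).2 ⟨tb, htb.k, htb⟩
        have htop : ∀ m : hA.V × hA.V, m ∈ im (hv.phi hA) hA.KK := by
          intro m
          by_cases hm : m ∈ S
          · exact hSK hm
          · have h1 := hSK (prod_mem_of_index S hidx hm hb)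
            exact ((im (hv.phi hA) hA.KK).mul_mem_cancel_right hbK).1 h1
        obtain ⟨t, -, ht⟩ := (hv.mem_im_iff hA hv.m2 m12).1 (htop _)
        have hCA : ∀ c ∈ centralizer (A : Set P), c ∈ A := fun c hc => hv.C_eq hA hP ht hc
        have hfin : ∀ u ∈ H, u ∈ hA.KK → u ^ 4 = 1 := by
          intro u huH huK
          obtain ⟨d, hdH, hdC, hd⟩ := hd (u ^ 2) (hsq u huH) (hv.sq_mem_C hA huK)
          have e4 : u ^ 4 = (u ^ 2) ^ 2 := by rw [← pow_mul]
          rw [e4, ← hd, ← pow_mul]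
          exact hA.pow4 d (hCA d hdC)
        obtain ⟨x, hx, x1, xv, hxS⟩ := hv.four hA S hidx hb
        have hxv := mul_mem hx hv.m1
        rcases hxS with hxS | hxS
        · obtain ⟨t1, ht1H, ht1⟩ := (hv.mem_im_iff hA hx (one_mem _)).1 hxS
          obtain ⟨r1, -, hr1⟩ := (hv.mem_im_iff hA hxv hxv).1 (htop _)
          obtain ⟨-, q2, -⟩ := hv.link hA hCA htb ht1 hr1 x1 xv (hv.keyq hA hP hE htb)
          rw [hfin t1 ht1H ht1.k] at q2
          exact hv.n2 q2.symm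
        · obtain ⟨r1, hr1H, hr1⟩ := (hv.mem_im_iff hA hxv hxv).1 hxS
          obtain ⟨t1, -, ht1⟩ := (hv.mem_im_iff hA hx (one_mem _)).1 (htop _)
          obtain ⟨-, -, q3⟩ := hv.link hA hCA htb ht1 hr1 x1 xv (hv.keyq hA hP hE htb)
          rw [hfin r1 hr1H hr1.k] at q3
          exact hv.n3 hA q3.symm

/-- the bound when `H` does not centralize the involutions of `A` -/
theorem caseII_nle {H N : Subgroup P} {g : P} (hgH : g ∈ H) (hg : g ∉ hA.KK) (hNH : N ≤ H)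
    (hcomm : ∀ x ∈ H, ∀ y ∈ H, x * y * x⁻¹ * y⁻¹ ∈ N) (hsq : ∀ x ∈ H, x ^ 2 ∈ N) :
    N.relIndex H ≤ 16 := by
  obtain ⟨hd4, hd⟩ := hA.dich hP hv.cV.le hNH hsq
  have hC := hv.phi_ker hA
  set S := im (hv.phi hA) (H ⊓ hA.KK) with hSdef
  have hVV : ∀ x ∈ hA.V, ∀ y ∈ hA.V, x * y = y * x := fun x hx y hy => hA.comm x hx.1 y hy.1
  let θ : hA.V × hA.V →* hA.V × hA.V :=
    { toFun := fun z => (⟨g * z.1 * g⁻¹ * z.1, mul_mem (hA.V_norm g z.1.2) z.1.2⟩,
        ⟨g * (z.1 * z.2) * g⁻¹ * z.2, mul_mem (hA.V_norm g (mul_mem z.1.2 z.2.2)) z.2.2⟩)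
      map_one' := by
        apply Prod.ext
        · apply Subtype.ext; simp
        · apply Subtype.ext; simp
      map_mul' := by
        rintro ⟨⟨x, hx⟩, ⟨y, hy⟩⟩ ⟨⟨x', hx'⟩, ⟨y', hy'⟩⟩
        have aux : ∀ p ∈ hA.V, ∀ q ∈ hA.V, ∀ p' ∈ hA.V, ∀ q' ∈ hA.V,
            g * (p * p') * g⁻¹ * (q * q') = (g * p * g⁻¹ * q) * (g * p' * g⁻¹ * q') := by
          intro p hp q hq p' hp' q' hq'
          calc g * (p * p') * g⁻¹ * (q * q') = (g * p * g⁻¹) * ((g * p' * g⁻¹) * q) * q' := by group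
            _ = (g * p * g⁻¹) * (q * (g * p' * g⁻¹)) * q' := by rw [hVV _ (hA.V_norm g hp') q hq]
            _ = _ := by group
        apply Prod.ext
        · apply Subtype.ext
          exact aux x hx x hx x' hx' x' hx'
        · apply Subtype.ext
          change g * ((x * x') * (y * y')) * g⁻¹ * (y * y')
            = (g * (x * y) * g⁻¹ * y) * (g * (x' * y') * g⁻¹ * y')
          rw [← aux _ (mul_mem hx hy) _ hy _ (mul_mem hx' hy') _ hy']
          congr 3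
          calc (x * x') * (y * y') = x * (x' * y) * y' := by group
            _ = x * (y * x') * y' := by rw [hVV x' hx' y hy]
            _ = _ := by group }
  have hθS : ∀ s ∈ S, θ s ∈ im (hv.phi hA) (N ⊓ hA.KK) := by
    rintro ⟨⟨x, hx⟩, ⟨y, hy⟩⟩ hs
    obtain ⟨t, ht, hX⟩ := (hv.mem_im_iff hA hx hy).1 hs
    have h1 := hv.X_conj2 hA hg hX
    have hX' : hA.X a₁ a₂ t⁻¹ x y := by
      have h2 := hv.exX hA (inv_mem hX.k)
      have h3 := hv.Xmul hA hX h2
      rw [mul_inv_cancel] at h3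
      have e1 := h3.x1
      have e2 := h3.x2
      rw [one_mul, inv_one, mul_one, mul_inv_cancel] at e1 e2
      refine ⟨h2.k, ?_, ?_⟩
      · rw [← inv_eq_of_mul_eq_one_right e1.symm, hA.V_inv hx]
      · rw [← inv_eq_of_mul_eq_one_right e2.symm, hA.V_inv hy]
    have h2 := hv.Xmul hA h1 hX'
    exact (hv.mem_im_iff hA (mul_mem (hA.V_norm g hx) hx)
      (mul_mem (hA.V_norm g (mul_mem hx hy)) hy)).2 ⟨_, ⟨hcomm g hgH t ht.1, h2.k⟩, h2⟩
  -- the kernel
  have hker : ∀ (x y : P) (hx : x ∈ hA.V) (hy : y ∈ hA.V),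
      ((⟨x, hx⟩, ⟨y, hy⟩) : hA.V × hA.V) ∈ (S ⊓ θ.ker : Subgroup (hA.V × hA.V)) →
      (x = 1 ∨ x = v₁) ∧ g * (x * y) * g⁻¹ = y := by
    intro x y hx hy h
    have h1 : g * x * g⁻¹ * x = 1 := congrArg (fun z => ((z.1 : hA.V) : P)) h.2
    have h2 : g * (x * y) * g⁻¹ * y = 1 := congrArg (fun z => ((z.2 : hA.V) : P)) h.2
    refine ⟨hv.fix_of hA hg hx ?_, ?_⟩
    · rw [mul_eq_one_iff_eq_inv.1 h1, hA.V_inv hx]
    · rw [mul_eq_one_iff_eq_inv.1 h2, hA.V_inv hy]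
  by_cases hb : ((⟨1, one_mem _⟩, ⟨v₁, hv.m1⟩) : hA.V × hA.V) ∈ S
  · have hd2 := hd.resolve_right (fun h => by
      obtain ⟨tb, htbH, htb⟩ := (hv.mem_im_iff hA (one_mem _) hv.m1).1 hb
      obtain ⟨d, hdH, hdC, hd⟩ := h (tb ^ 2) (hsq tb htbH.1) (hv.sq_mem_C hA htb.k)
      exact hv.keyb hA hP hE htb hdC hd.symm)
    have h4 : Nat.card (S ⊓ θ.ker : Subgroup (hA.V × hA.V)) ≤ 4 := by
      rw [← hv.cV]
      refine Nat.card_le_card_of_injective
        (fun z : (S ⊓ θ.ker : Subgroup (hA.V × hA.V)) => z.1.2) ?_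
      rintro ⟨⟨⟨x, hx⟩, ⟨y, hy⟩⟩, hz⟩ ⟨⟨⟨x', hx'⟩, ⟨y', hy'⟩⟩, hz'⟩ hzz
      have hyy : y = y' := congrArg Subtype.val hzz
      subst hyy
      have e1 := (hker x y hx hy hz).2
      have e2 := (hker x' y hx' hy hz').2
      have e3 : g * (x * y) * g⁻¹ = g * (x' * y) * g⁻¹ := e1.trans e2.symm
      have e4 : x = x' := by
        have := mul_left_cancel (mul_right_cancel e3)
        exact mul_right_cancel this
      subst e4
      rfl
    have := bound (hv.phi hA) hC hA.C_le_K hNH (l := 2) (κ := 4) (a := 2) (hv.card_H hA)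
      (card_le_of_theta θ _ _ hθS h4) hd2
    simpa using this
  · have h2 : Nat.card (S ⊓ θ.ker : Subgroup (hA.V × hA.V)) ≤ 2 := by
      have hle : Nat.card (S ⊓ θ.ker : Subgroup (hA.V × hA.V)) ≤ Nat.card Bool := by
        classical
        refine Nat.card_le_card_of_injective
          (fun z : (S ⊓ θ.ker : Subgroup (hA.V × hA.V)) => decide (((z.1.1 : hA.V) : P) = 1)) ?_
        rintro ⟨⟨⟨x, hx⟩, ⟨y, hy⟩⟩, hz⟩ ⟨⟨⟨x', hx'⟩, ⟨y', hy'⟩⟩, hz'⟩ hzz
        have hxx : (x = 1 ↔ x' = 1) := by simpa using hzz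
        have e1 := hker x y hx hy hz
        have e2 := hker x' y' hx' hy' hz'
        have hxe : x = x' := by
          rcases e1.1 with h | h <;> rcases e2.1 with h' | h'
          · rw [h, h']
          · rw [h, hxx.1 h]
          · rw [hxx.2 h', h']
          · rw [h, h']
        subst hxe
        have hprod := (S ⊓ θ.ker).mul_mem hz ((S ⊓ θ.ker).inv_mem hz')
        have hprod' : ((⟨1, one_mem _⟩, ⟨y * y'⁻¹, mul_mem hy (inv_mem hy')⟩) : hA.V × hA.V)
            ∈ (S ⊓ θ.ker : Subgroup (hA.V × hA.V)) := by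
          convert hprod using 1
          apply Prod.ext
          · apply Subtype.ext
            change 1 = x * x⁻¹
            rw [mul_inv_cancel]
          · rfl
        have e3 := (hker _ _ _ _ hprod').2
        rw [one_mul] at e3
        rcases hv.fix_of hA hg (mul_mem hy (inv_mem hy')) e3 with h | h
        · have : y = y' := mul_inv_eq_one.1 h
          subst this; rfl
        · exfalso
          apply hb
          have h5 : ((⟨1, one_mem _⟩, ⟨v₁, hv.m1⟩) : hA.V × hA.V)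
              = (⟨1, one_mem _⟩, ⟨y * y'⁻¹, mul_mem hy (inv_mem hy')⟩) := by
            apply Prod.ext
            · rfl
            · exact Subtype.ext h.symm
          rw [h5]
          exact hprod'.1
      simpa using hle
    have := bound (hv.phi hA) hC hA.C_le_K hNH (l := 2) (κ := 2) (a := 4) (hv.card_H hA)
      (card_le_of_theta θ _ _ hθS h2) hd4
    simpa using this

theorem caseII {H N : Subgroup P} (hNH : N ≤ H)
    (hcomm : ∀ x ∈ H, ∀ y ∈ H, x * y * x⁻¹ * y⁻¹ ∈ N) (hsq : ∀ x ∈ H, x ^ 2 ∈ N) :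
    N.relIndex H ≤ 16 := by
  by_cases hHK : H ≤ hA.KK
  · exact hv.caseII_le hA hP hE hHK hNH hsq
  · obtain ⟨g, hgH, hgK⟩ := SetLike.not_le_iff_exists.1 hHK
    exact hv.caseII_nle hA hP hE hgH hgK hNH hcomm hsq

end fin

end II

end AD

end H25.MacW
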