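import Cfsg.Agent.Lib.H5.ZStar
import Cfsg.Agent.Lib.H1.Coprime2
import Cfsg.Agent.Lib.H1.Cores
import Cfsg.Agent.S4364

set_option autoImplicit false
set_option linter.unusedSectionVars false

/-! An involution whose conjugates have products of `p`-power order. -/

universe u

namespace H25.PInvClass

variable {G : Type u} [Group G] [Finite G]

theorem index_centralizer {p : ℕ} (hp : p.Prime) (hp2 : p ≠ 2)
    (d : G) (hd : orderOf d = 2)
    (hprod : ∀ a ∈ conjugatesOf d, ∀ b ∈ conjugatesOf d, ∃ k : ℕ, orderOf (a * b) = p ^ k) :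
    ∃ a : ℕ, (Subgroup.centralizer ({d} : Set G)).index = p ^ a := by
  have hpf : Fact p.Prime := ⟨hp⟩
  have hd2 : d * d = 1 := by have := pow_orderOf_eq_one d; rwa [hd, pow_two] at this
  have hdi : d⁻¹ = d := inv_eq_of_mul_eq_one_left hd2
  have hcj : ∀ g : G, g * d * g⁻¹ ∈ conjugatesOf d := fun g => (isConj_iff.2 ⟨g, rfl⟩ : IsConj d _)
  have hdd : d ∈ conjugatesOf d := mem_conjugatesOf_self
  have hodd : ∀ k : ℕ, Odd (p ^ k) := fun k => (hp.odd_of_ne_two hp2).pow
  have hiso : H5.ZStar1.IsoInv d := by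
    refine ⟨hd, fun g => ?_⟩
    obtain ⟨k, hk⟩ := hprod d hdd _ (hcj g)
    rw [hk]; exact hodd k
  set K := Cfsg.pPrimeCore 2 G with hK
  have hmem : ∀ g : G, d * (g * d * g⁻¹) ∈ K := fun g => H5.ZStar.zstar hiso g
  set C := Subgroup.centralizer ({d} : Set G) with hC
  -- `G = C K`
  have hCK : C ⊔ K = ⊤ := by
    rw [eq_top_iff]
    intro g _
    set x := d * (g * d * g⁻¹) with hx
    obtain ⟨k, hk⟩ := hprod d hdd _ (hcj g)
    obtain ⟨m, hm⟩ := hodd k
    -- conjugation by a power of `x`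
    have hinv : d * x * d = x⁻¹ := by
      rw [hx]
      have : (d * (g * d * g⁻¹))⁻¹ = (g * d⁻¹ * g⁻¹) * d⁻¹ := by group
      rw [this, hdi]
      calc d * (d * (g * d * g⁻¹)) * d = (d * d) * (g * d * g⁻¹) * d := by group
        _ = g * d * g⁻¹ * d := by rw [hd2, one_mul]
    have hinvk : ∀ n : ℕ, d * x ^ n * d = (x ^ n)⁻¹ := by
      intro n
      have h1 : d * x ^ n * d⁻¹ = (d * x * d⁻¹) ^ n := (conj_pow).symm
      rw [hdi] at h1
      rw [h1, hinv, inv_pow]
    -- `x^(m+1)` conjugates `g d g⁻¹ = d x` to `d`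
    have hgx : g * d * g⁻¹ = d * x := by
      rw [hx]
      calc g * d * g⁻¹ = 1 * (g * d * g⁻¹) := by group
        _ = d * d * (g * d * g⁻¹) := by rw [hd2]
        _ = _ := by group
    have hxord : x ^ (2 * m + 1) = 1 := by rw [← hm, ← hk, pow_orderOf_eq_one]
    have hy : (x ^ (m + 1)) * (g * d * g⁻¹) * (x ^ (m + 1))⁻¹ = d := by
      rw [hgx]
      have h1 := hinvk (m + 1)
      have h2 : x ^ (m + 1) * d = d * (x ^ (m + 1))⁻¹ := by
        rw [← h1]
        calc x ^ (m + 1) * d = (d * d) * x ^ (m + 1) * d := by rw [hd2, one_mul]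
          _ = _ := by group
      calc x ^ (m + 1) * (d * x) * (x ^ (m + 1))⁻¹ = (x ^ (m + 1) * d) * x * (x ^ (m + 1))⁻¹ := by group
        _ = d * (x ^ (m + 1))⁻¹ * x * (x ^ (m + 1))⁻¹ := by rw [h2]
        _ = d * (x ^ (2 * m + 1))⁻¹ := by
            have : (x ^ (m + 1))⁻¹ * x * (x ^ (m + 1))⁻¹ = (x ^ (2 * m + 1))⁻¹ := by group
            calc d * (x ^ (m + 1))⁻¹ * x * (x ^ (m + 1))⁻¹ = d * ((x ^ (m + 1))⁻¹ * x * (x ^ (m + 1))⁻¹) := by group
              _ = _ := by rw [this]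
        _ = d := by rw [hxord]; group
    have h3 : x ^ (m + 1) * g ∈ C := by
      rw [hC, Subgroup.mem_centralizer_singleton_iff]
      have h4 : (x ^ (m + 1) * g) * d * (x ^ (m + 1) * g)⁻¹ = d := by
        calc (x ^ (m + 1) * g) * d * (x ^ (m + 1) * g)⁻¹ = (x ^ (m + 1)) * (g * d * g⁻¹) * (x ^ (m + 1))⁻¹ := by group
          _ = d := hy
      exact (mul_inv_eq_iff_eq_mul.1 h4)
    have h4 : g = (x ^ (m + 1))⁻¹ * (x ^ (m + 1) * g) := by group
    rw [h4]
    exact (C ⊔ K).mul_mem (le_sup_right (a := C) (K.inv_mem (K.pow_mem (hmem g) _))) (le_sup_left (b := K) h3)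
  have hKn : K.Normal := inferInstance
  have hcard : C.index * Nat.card (C ⊓ K : Subgroup G) = Nat.card K := by
    have h1 : K.index = K.relIndex C := by
      rw [← Subgroup.relIndex_top_right, ← hCK, Subgroup.relIndex_sup_right]
    have h2 := Subgroup.card_mul_index K
    have h3 := Subgroup.card_mul_index C
    have h4 : Nat.card (C ⊓ K : Subgroup G) * K.relIndex C = Nat.card C := by
      have h6 : Nat.card (K.subgroupOf C) * K.relIndex C = Nat.card C := Subgroup.card_mul_index (K.subgroupOf C)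
      have e : K.subgroupOf C = (C ⊓ K).subgroupOf C := by rw [inf_comm, Subgroup.inf_subgroupOf_right]
      rw [e, H1.SZ.card_subgroupOf_of_le (inf_le_left : C ⊓ K ≤ C)] at h6
      exact h6
    have h5 : 0 < K.relIndex C := Nat.pos_of_ne_zero (by rw [← h1]; exact Subgroup.index_ne_zero_of_finite)
    apply Nat.eq_of_mul_eq_mul_right h5
    rw [mul_assoc, h4, ← h1, h2, mul_comm, h3]
  have hcopA : (Nat.card (Subgroup.zpowers d)).Coprime (Nat.card K) := by
    rw [Nat.card_zpowers, hd]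
    exact (H1.Cores.coprime_card_pPrimeCore (G := G) 2).symm
  -- every prime divisor of the index is `p`
  have hq : ∀ q : ℕ, q.Prime → q ∣ C.index → q = p := by
    intro q hq hqd
    by_contra hqp
    have hqf : Fact q.Prime := ⟨hq⟩
    obtain ⟨T, hT, hTn⟩ := H1.Coprime2.exists_invariant_sylow (Subgroup.zpowers d) K
      (by rw [Subgroup.normalizer_eq_top]; exact le_top) hcopA (Or.inl inferInstance) q
    have hTp : IsPGroup q T := hT.isPGroup
    have hTC : T ≤ C := by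
      intro y hy
      have hdn : d ∈ Subgroup.normalizer (T : Set G) := hTn (Subgroup.mem_zpowers d)
      have h1 : y * d * y⁻¹ * d ∈ T := by
        have h2 := (Subgroup.mem_normalizer_iff.1 hdn y⁻¹).1 (T.inv_mem hy)
        have h3 : y * d * y⁻¹ * d = y * (d * y⁻¹ * d⁻¹) := by rw [hdi]; group
        rw [h3]; exact T.mul_mem hy h2
      obtain ⟨k, hk⟩ := hprod _ (hcj y) d hdd
      obtain ⟨j, hj⟩ := (IsPGroup.iff_orderOf.1 hTp) ⟨_, h1⟩
      rw [Subgroup.orderOf_mk, hk] at hj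
      have hk0 : k = 0 := by
        by_contra hk0
        have h4 : p ∣ q ^ j := by rw [← hj]; exact dvd_pow_self p hk0
        exact hqp ((Nat.prime_dvd_prime_iff_eq hp hq).1 (hp.dvd_of_dvd_pow h4)).symm
      rw [hk0, pow_zero, orderOf_eq_one_iff] at hk
      rw [hC, Subgroup.mem_centralizer_singleton_iff]
      have h5 : y * d * y⁻¹ = d := by
        have := eq_inv_of_mul_eq_one_left hk
        rw [this, hdi]
      exact mul_inv_eq_iff_eq_mul.1 h5
    have hTCK : T ≤ C ⊓ K := le_inf hTC hT.1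
    have h6 : Nat.card T ∣ Nat.card (C ⊓ K : Subgroup G) := Subgroup.card_dvd_of_le hTCK
    rw [hT.2] at h6
    have h7 : q ^ ((Nat.card K).factorization q + 1) ∣ Nat.card K := by
      have h9 := mul_dvd_mul hqd h6
      rw [hcard, ← pow_succ'] at h9
      exact h9
    have h8 := (hq.pow_dvd_iff_le_factorization Nat.card_pos.ne').1 h7
    omega
  have h0 : C.index ≠ 0 := Subgroup.index_ne_zero_of_finite
  exact ⟨_, Nat.eq_prime_pow_of_unique_prime_dvd h0 (fun {q} hq1 hq2 => hq q hq1 hq2)⟩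

theorem main {p : ℕ} (hp : p.Prime) (hp2 : p ≠ 2)
    (d : G) (hd : orderOf d = 2)
    (hprod : ∀ a ∈ conjugatesOf d, ∀ b ∈ conjugatesOf d, ∃ k : ℕ, orderOf (a * b) = p ^ k) :
    ∀ a ∈ conjugatesOf d, ∀ b ∈ conjugatesOf d, a * b ∈ Cfsg.pCore p G := by
  have hpf : Fact p.Prime := ⟨hp⟩
  intro a ha b hb
  obtain ⟨k, hk⟩ := hprod a ha b hb
  obtain ⟨m, hm⟩ := ((hp.odd_of_ne_two hp2).pow : Odd (p ^ k))
  obtain ⟨g, hg⟩ := isConj_iff.1 (ha : IsConj d a)
  obtain ⟨h, hh⟩ := isConj_iff.1 (hb : IsConj d b)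
  have h1 := Cfsg.Agent.S4364.result p d (index_centralizer hp hp2 d hd hprod) g h
  rw [hg, hh] at h1
  have hinv : ∀ y : G, y ∈ conjugatesOf d → y⁻¹ = y := by
    intro y hy
    obtain ⟨x, hx⟩ := isConj_iff.1 (hy : IsConj d y)
    have hd2 : d * d = 1 := by have := pow_orderOf_eq_one d; rwa [hd, pow_two] at this
    have hdi : d⁻¹ = d := inv_eq_of_mul_eq_one_left hd2
    rw [← hx]
    have : (x * d * x⁻¹)⁻¹ = x * d⁻¹ * x⁻¹ := by group
    rw [this, hdi]
  rw [hinv a ha, hinv b hb] at h1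
  have h2 : (a * b) ^ 2 ∈ Cfsg.pCore p G := by
    rw [pow_two]
    have : a * b * a * b = a * b * (a * b) := by group
    rw [← this]; exact h1
  have h3 : a * b = ((a * b) ^ 2) ^ (m + 1) := by
    rw [← pow_mul, show 2 * (m + 1) = (2 * m + 1) + 1 by ring, pow_succ, ← hm, ← hk, pow_orderOf_eq_one, one_mul]
  rw [h3]
  exact Subgroup.pow_mem _ h2 _

end H25.PInvClass
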