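import Cfsg.Agent.Lib.H60.MaxClassTwo
import Cfsg.Agent.Lib.H26.ZStarUse
import Cfsg.Agent.Lib.H38.Goldschmidt
import Cfsg.Prelude.Def_TwoFusion

set_option autoImplicit false
set_option linter.unusedSectionVars false

/-! No simple group has a Sylow 2-subgroup `Q × R` with `Q` generalized quaternion and the involutions of `R`
central in `R`. -/

universe u

namespace H25.QuatFactor

variable {G : Type u} [Group G] [Finite G]

theorem quat_comm (n : ℕ) (hn : 1 ≤ n) : ∃ a b : QuaternionGroup (2 ^ n),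
    a * b * a⁻¹ * b⁻¹ = QuaternionGroup.a ((2 ^ n : ℕ) : ZMod (2 * 2 ^ n)) := by
  refine ⟨QuaternionGroup.a ((2 ^ (n - 1) : ℕ) : ZMod (2 * 2 ^ n)), QuaternionGroup.xa 0, ?_⟩
  obtain ⟨m, rfl⟩ : ∃ m, n = m + 1 := ⟨n - 1, by omega⟩
  have h1 : ((2 ^ (m + 1) : ℕ) : ZMod (2 * 2 ^ (m + 1))) = ((2 ^ m : ℕ) : ZMod (2 * 2 ^ (m + 1))) +
      ((2 ^ m : ℕ) : ZMod (2 * 2 ^ (m + 1))) := by
    push_cast; ring
  have h2 : ((2 ^ (m + 1) : ℕ) : ZMod (2 * 2 ^ (m + 1))) + ((2 ^ (m + 1) : ℕ) : ZMod (2 * 2 ^ (m + 1))) = 0 := by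
    rw [← Nat.cast_add, ZMod.natCast_eq_zero_iff]
    exact ⟨1, by ring⟩
  rw [Nat.add_sub_cancel]
  change QuaternionGroup.a _ * QuaternionGroup.xa _ * QuaternionGroup.a _ * QuaternionGroup.xa _ = _
  simp only [QuaternionGroup.a_mul_xa, QuaternionGroup.xa_mul_a, QuaternionGroup.xa_mul_xa]
  congr 1
  rw [h1] at h2 ⊢
  linear_combination h2

/-- data: `Q` commutes with `R`, `Q ∩ R = 1`, `z` the unique involution of `Q` and a commutator in `Q`. -/
theorem not_simple (hZ : H26.ZStarUse.ZStarHyp.{u}) (S : Sylow 2 G) (Q R : Subgroup G)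
    (hQS : Q ≤ (S : Subgroup G)) (hRS : R ≤ (S : Subgroup G)) (hcomm : ∀ a ∈ Q, ∀ b ∈ R, a * b = b * a)
    (hinf : Q ⊓ R = ⊥) (hsup : Q ⊔ R = (S : Subgroup G))
    (z : G) (hzQ : z ∈ Q) (hz1 : z ≠ 1) (hz2 : z * z = 1) (hzu : ∀ q ∈ Q, q * q = 1 → q = 1 ∨ q = z)
    (c d : G) (hc : c ∈ Q) (hd : d ∈ Q) (hcd : c * d * c⁻¹ * d⁻¹ = z)
    (hR : ∀ r ∈ R, orderOf r = 2 → ∀ s ∈ R, r * s = s * r) : ¬ IsSimpleGroup G := by
  intro hsimp
  have hF2 : Fact (Nat.Prime 2) := ⟨Nat.prime_two⟩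
  have hinf' : ∀ x ∈ Q, x ∈ R → x = 1 := fun x hx hx' => by
    have : x ∈ Q ⊓ R := ⟨hx, hx'⟩
    rw [hinf] at this
    exact Subgroup.mem_bot.1 this
  -- decomposition
  have hdec : ∀ s ∈ (S : Subgroup G), ∃ q ∈ Q, ∃ r ∈ R, s = q * r := by
    intro s hs
    rw [← hsup] at hs
    have hn : Q ≤ Subgroup.normalizer (R : Set G) := by
      intro q hq
      rw [Subgroup.mem_normalizer_iff]
      intro r
      have h0 : ∀ t : G, t ∈ R → q * t * q⁻¹ = t := fun t ht => by rw [hcomm q hq t ht]; group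
      have h0' : ∀ t : G, t ∈ R → q⁻¹ * t * q = t := fun t ht => by
        have := hcomm q⁻¹ (Q.inv_mem hq) t ht
        rw [this]; group
      constructor
      · intro hr
        rw [h0 r hr]; exact hr
      · intro hr
        have h2 := h0' _ hr
        have h3 : q⁻¹ * (q * r * q⁻¹) * q = r := by group
        rw [h3] at h2
        rw [h2]; exact hr
    obtain ⟨r, hr, q, hq, h⟩ := (H38.Goldschmidt.mem_sup_iff_of_le_normalizer hn).1 hs
    exact ⟨q, hq, r, hr, by rw [h, hcomm q hq r hr]⟩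
  -- involutions are central in `S`
  have hzc : ∀ q ∈ Q, q * z = z * q := by
    intro q hq
    have h1 : q * z * q⁻¹ ∈ Q := Q.mul_mem (Q.mul_mem hq hzQ) (Q.inv_mem hq)
    rcases hzu _ h1 (by
      calc q * z * q⁻¹ * (q * z * q⁻¹) = q * (z * z) * q⁻¹ := by group
        _ = 1 := by rw [hz2]; group) with h | h
    · exfalso; apply hz1
      have : z = q⁻¹ * (q * z * q⁻¹) * q := by group
      rw [this, h]; group
    · exact mul_inv_eq_iff_eq_mul.1 h
  have hinvc : ∀ y ∈ (S : Subgroup G), y * y = 1 → ∀ s ∈ (S : Subgroup G), y * s = s * y := by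
    intro y hy hy2 s hs
    obtain ⟨q, hq, r, hr, rfl⟩ := hdec y hy
    obtain ⟨q', hq', r', hr', rfl⟩ := hdec s hs
    have h1 : q * q * (r * r) = 1 := by
      calc q * q * (r * r) = q * (q * r) * r := by group
        _ = q * (r * q) * r := by rw [hcomm q hq r hr]
        _ = q * r * (q * r) := by group
        _ = 1 := hy2
    have h2 : q * q = 1 := by
      apply hinf' _ (Q.mul_mem hq hq)
      have : q * q = (r * r)⁻¹ := eq_inv_of_mul_eq_one_left h1
      rw [this]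
      exact R.inv_mem (R.mul_mem hr hr)
    have h3 : r * r = 1 := by rw [h2, one_mul] at h1; exact h1
    have h4 : q * q' = q' * q := by
      rcases hzu q hq h2 with h | h
      · rw [h, one_mul, mul_one]
      · rw [h]; exact (hzc q' hq').symm
    have h5 : r * r' = r' * r := by
      by_cases hr1 : r = 1
      · rw [hr1, one_mul, mul_one]
      · exact hR r hr (orderOf_eq_prime (by rw [pow_two]; exact h3) hr1) r' hr'
    calc q * r * (q' * r') = q * (r * q') * r' := by group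
      _ = q * (q' * r) * r' := by rw [hcomm q' hq' r hr]
      _ = (q * q') * (r * r') := by group
      _ = (q' * q) * (r' * r) := by rw [h4, h5]
      _ = q' * (q * r') * r := by group
      _ = q' * (r' * q) * r := by rw [hcomm q hq r' hr']
      _ = q' * r' * (q * r) := by group
  -- the conjugates of `z` under the normalizer
  have hconj : ∀ x ∈ Subgroup.normalizer ((S : Subgroup G) : Set G), x * z * x⁻¹ ∉ R → x * z * x⁻¹ = z := by
    intro x hx hxR
    have hxS : ∀ s ∈ (S : Subgroup G), x * s * x⁻¹ ∈ (S : Subgroup G) := fun s hs =>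
      (Subgroup.mem_normalizer_iff.1 hx s).1 hs
    have hxS' : ∀ s ∈ (S : Subgroup G), x⁻¹ * s * x ∈ (S : Subgroup G) := fun s hs => by
      have h1 := (Subgroup.mem_normalizer_iff.1 hx (x⁻¹ * s * x)).2
      apply h1
      have : x * (x⁻¹ * s * x) * x⁻¹ = s := by group
      rw [this]; exact hs
    -- `Q` and `R` are normalised by `S`
    have hQn : ∀ s ∈ (S : Subgroup G), ∀ q ∈ Q, s * q * s⁻¹ ∈ Q := by
      intro s hs q hq
      obtain ⟨q', hq', r', hr', rfl⟩ := hdec s hs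
      have : q' * r' * q * (q' * r')⁻¹ = q' * q * q'⁻¹ := by
        calc q' * r' * q * (q' * r')⁻¹ = q' * (r' * q) * r'⁻¹ * q'⁻¹ := by group
          _ = q' * (q * r') * r'⁻¹ * q'⁻¹ := by rw [hcomm q hq r' hr']
          _ = _ := by group
      rw [this]
      exact Q.mul_mem (Q.mul_mem hq' hq) (Q.inv_mem hq')
    have hRn : ∀ s ∈ (S : Subgroup G), ∀ r ∈ R, s * r * s⁻¹ ∈ R := by
      intro s hs r hr
      obtain ⟨q', hq', r', hr', rfl⟩ := hdec s hs
      have h1 : r' * r * r'⁻¹ ∈ R := R.mul_mem (R.mul_mem hr' hr) (R.inv_mem hr')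
      have : q' * r' * r * (q' * r')⁻¹ = r' * r * r'⁻¹ := by
        calc q' * r' * r * (q' * r')⁻¹ = q' * (r' * r * r'⁻¹) * q'⁻¹ := by group
          _ = (r' * r * r'⁻¹) * q' * q'⁻¹ := by rw [hcomm q' hq' _ h1]
          _ = _ := by group
      rw [this]; exact h1
    -- `Q^x ∩ R = 1`
    have htriv : ∀ q ∈ Q, x * q * x⁻¹ ∈ R → q = 1 := by
      intro q hq hqR
      by_contra hq1
      -- a power of `q` is `z`
      have h2 : IsPGroup 2 Q := S.2.to_le hQS
      obtain ⟨k, hk⟩ := (IsPGroup.iff_orderOf.1 h2) ⟨q, hq⟩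
      have hk' : orderOf q = 2 ^ k := by rw [← hk, Subgroup.orderOf_mk]
      have hk0 : k ≠ 0 := by
        rintro rfl
        rw [pow_zero, orderOf_eq_one_iff] at hk'
        exact hq1 hk'
      have h3 : q ^ 2 ^ (k - 1) = z := by
        rcases hzu (q ^ 2 ^ (k - 1)) (Q.pow_mem hq _) (by
          rw [← pow_add, ← two_mul, ← pow_succ', show k - 1 + 1 = k by omega, ← hk', pow_orderOf_eq_one]) with h | h
        · exfalso
          have := orderOf_dvd_of_pow_eq_one h
          rw [hk'] at this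
          have h5 := (Nat.pow_dvd_pow_iff_le_right (by norm_num : 1 < 2)).1 this
          omega
        · exact h
      apply hxR
      have h4 : x * z * x⁻¹ = (x * q * x⁻¹) ^ 2 ^ (k - 1) := by rw [conj_pow, h3]
      rw [h4]
      exact R.pow_mem hqR _
    -- hence `Q^x` commutes with `R`
    have hcen : ∀ q ∈ Q, ∀ r ∈ R, (x * q * x⁻¹) * r = r * (x * q * x⁻¹) := by
      intro q hq r hr
      have h1 : r * (x * q * x⁻¹) * r⁻¹ * (x * q * x⁻¹)⁻¹ ∈ R := by
        have h2 := hRn (x * q * x⁻¹) (hxS q (hQS hq)) r⁻¹ (R.inv_mem hr)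
        have h3 : r * (x * q * x⁻¹) * r⁻¹ * (x * q * x⁻¹)⁻¹ = r * ((x * q * x⁻¹) * r⁻¹ * (x * q * x⁻¹)⁻¹) := by group
        rw [h3]
        exact R.mul_mem hr h2
      have h4 := hQn (x⁻¹ * r * x) (hxS' r (hRS hr)) q hq
      have h5 : r * (x * q * x⁻¹) * r⁻¹ * (x * q * x⁻¹)⁻¹ =
          x * (x⁻¹ * r * x * q * (x⁻¹ * r * x)⁻¹ * q⁻¹) * x⁻¹ := by group
      rw [h5] at h1
      have h6 := htriv _ (Q.mul_mem h4 (Q.inv_mem hq)) h1
      rw [h6] at h5
      have h7 : r * (x * q * x⁻¹) * r⁻¹ * (x * q * x⁻¹)⁻¹ = 1 := by rw [h5]; group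
      have h8 := mul_inv_eq_one.1 h7
      exact (mul_inv_eq_iff_eq_mul.1 h8).symm
    -- so `Q^x ≤ Q Z(R)`
    have hform : ∀ q ∈ Q, ∃ q' ∈ Q, ∃ r' ∈ R, (∀ r ∈ R, r' * r = r * r') ∧ x * q * x⁻¹ = q' * r' := by
      intro q hq
      obtain ⟨q', hq', r', hr', h⟩ := hdec _ (hxS q (hQS hq))
      refine ⟨q', hq', r', hr', ?_, h⟩
      intro r hr
      have h1 := hcen q hq r hr
      rw [h] at h1
      have h2 : q' * (r' * r) = q' * (r * r') := by
        calc q' * (r' * r) = q' * r' * r := by group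
          _ = r * (q' * r') := h1
          _ = (r * q') * r' := by group
          _ = (q' * r) * r' := by rw [hcomm q' hq' r hr]
          _ = _ := by group
      exact mul_left_cancel h2
    obtain ⟨q1, hq1, r1, hr1, hr1c, h1⟩ := hform c hc
    obtain ⟨q2, hq2, r2, hr2, hr2c, h2⟩ := hform d hd
    have h3 : x * z * x⁻¹ = q1 * q2 * q1⁻¹ * q2⁻¹ := by
      have e1 : x * z * x⁻¹ = (x * c * x⁻¹) * (x * d * x⁻¹) * (x * c * x⁻¹)⁻¹ * (x * d * x⁻¹)⁻¹ := by
        rw [← hcd]; group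
      rw [e1, h1, h2]
      have c1 : r1 * q2 = q2 * r1 := (hcomm q2 hq2 r1 hr1).symm
      have c2 : r1 * r2 = r2 * r1 := hr1c r2 hr2
      have c3 : r1⁻¹ * q1⁻¹ = q1⁻¹ * r1⁻¹ := (hcomm _ (Q.inv_mem hq1) _ (R.inv_mem hr1)).symm
      have c4 : r2 * q1⁻¹ = q1⁻¹ * r2 := (hcomm _ (Q.inv_mem hq1) r2 hr2).symm
      calc q1 * r1 * (q2 * r2) * (q1 * r1)⁻¹ * (q2 * r2)⁻¹
          = q1 * (r1 * q2) * r2 * (r1⁻¹ * q1⁻¹) * r2⁻¹ * q2⁻¹ := by group
        _ = q1 * (q2 * r1) * r2 * (q1⁻¹ * r1⁻¹) * r2⁻¹ * q2⁻¹ := by rw [c1, c3]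
        _ = q1 * q2 * (r1 * r2) * q1⁻¹ * r1⁻¹ * r2⁻¹ * q2⁻¹ := by group
        _ = q1 * q2 * (r2 * r1) * q1⁻¹ * r1⁻¹ * r2⁻¹ * q2⁻¹ := by rw [c2]
        _ = q1 * q2 * r2 * (r1 * q1⁻¹) * r1⁻¹ * r2⁻¹ * q2⁻¹ := by group
        _ = q1 * q2 * r2 * (q1⁻¹ * r1) * r1⁻¹ * r2⁻¹ * q2⁻¹ := by
            rw [hcomm _ (Q.inv_mem hq1) r1 hr1]
        _ = q1 * q2 * (r2 * q1⁻¹) * r2⁻¹ * q2⁻¹ := by group
        _ = q1 * q2 * (q1⁻¹ * r2) * r2⁻¹ * q2⁻¹ := by rw [c4]
        _ = q1 * q2 * q1⁻¹ * q2⁻¹ := by group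
    have h4 : x * z * x⁻¹ ∈ Q := by
      rw [h3]
      exact Q.mul_mem (Q.mul_mem (Q.mul_mem hq1 hq2) (Q.inv_mem hq1)) (Q.inv_mem hq2)
    rcases hzu _ h4 (by
      calc x * z * x⁻¹ * (x * z * x⁻¹) = x * (z * z) * x⁻¹ := by group
        _ = 1 := by rw [hz2]; group) with h | h
    · exfalso; apply hz1
      have : z = x⁻¹ * (x * z * x⁻¹) * x := by group
      rw [this, h]; group
    · exact h
  -- the product of the conjugates, in the centre of `S`
  have hzS : z ∈ (S : Subgroup G) := hQS hzQ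
  have hconjS : ∀ x ∈ Subgroup.normalizer ((S : Subgroup G) : Set G), x * z * x⁻¹ ∈ (S : Subgroup G) :=
    fun x hx => (Subgroup.mem_normalizer_iff.1 hx z).1 hzS
  have hconj2 : ∀ x : G, x * z * x⁻¹ * (x * z * x⁻¹) = 1 := fun x => by
    calc x * z * x⁻¹ * (x * z * x⁻¹) = x * (z * z) * x⁻¹ := by group
      _ = 1 := by rw [hz2]; group
  classical
  let Z := Subgroup.center (S : Subgroup G)
  let hZcomm : CommGroup Z := { (inferInstance : Group Z) with
    mul_comm := fun a b => Subtype.ext ((Subgroup.mem_center_iff.1 b.2 a.1)) }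
  have hmemZ : ∀ y (hy : y ∈ (S : Subgroup G)), y * y = 1 → (⟨y, hy⟩ : (S : Subgroup G)) ∈ Z := by
    intro y hy hy2
    rw [Subgroup.mem_center_iff]
    rintro ⟨s, hs⟩
    exact Subtype.ext (hinvc y hy hy2 s hs).symm
  let O : Set Z := {y | ∃ x ∈ Subgroup.normalizer ((S : Subgroup G) : Set G), ((y : (S : Subgroup G)) : G) = x * z * x⁻¹}
  let zZ : Z := ⟨⟨z, hzS⟩, hmemZ z hzS hz2⟩
  have hzO : zZ ∈ O := ⟨1, one_mem _, by change z = 1 * z * 1⁻¹; group⟩
  have hOfin : O.Finite := Set.toFinite O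
  let w : Z := ∏ y ∈ hOfin.toFinset, y
  have hw2 : w * w = 1 := by
    change (∏ y ∈ hOfin.toFinset, y) * (∏ y ∈ hOfin.toFinset, y) = 1
    rw [← Finset.prod_mul_distrib]
    apply Finset.prod_eq_one
    intro y hy
    obtain ⟨x, hx, hyx⟩ := hOfin.mem_toFinset.1 hy
    apply Subtype.ext
    apply Subtype.ext
    change ((y : (S : Subgroup G)) : G) * ((y : (S : Subgroup G)) : G) = 1
    rw [hyx]; exact hconj2 x
  -- `w ≡ z` modulo `R`
  let RZ : Subgroup Z := (R.subgroupOf (S : Subgroup G)).subgroupOf Z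
  have hw1 : ((w : (S : Subgroup G)) : G) ≠ 1 := by
    intro h
    have h1 : w = zZ * ∏ y ∈ hOfin.toFinset.erase zZ, y :=
      (Finset.mul_prod_erase _ _ (hOfin.mem_toFinset.2 hzO)).symm
    have h2 : (∏ y ∈ hOfin.toFinset.erase zZ, y) ∈ RZ := by
      apply Subgroup.prod_mem
      intro y hy
      obtain ⟨hne, hy⟩ := Finset.mem_erase.1 hy
      obtain ⟨x, hx, hyx⟩ := hOfin.mem_toFinset.1 hy
      change ((y : (S : Subgroup G)) : G) ∈ R
      by_contra hyR
      rw [hyx] at hyR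
      have h3 := hconj x hx hyR
      apply hne
      apply Subtype.ext
      apply Subtype.ext
      rw [hyx, h3]
    have h3 : w = 1 := Subtype.ext (Subtype.ext h)
    rw [h3] at h1
    have h4 : zZ ∈ RZ := by
      have : zZ = (∏ y ∈ hOfin.toFinset.erase zZ, y)⁻¹ := eq_inv_of_mul_eq_one_left h1.symm
      rw [this]
      exact RZ.inv_mem h2
    exact hz1 (hinf' z hzQ h4)
  set ww : G := ((w : (S : Subgroup G)) : G) with hww
  have hwwS : ww ∈ (S : Subgroup G) := (w : (S : Subgroup G)).2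
  have hww2 : ww * ww = 1 := congrArg (fun t : Z => ((t : (S : Subgroup G)) : G)) hw2
  -- `w` is invariant under the normalizer
  have hwinv : ∀ x ∈ Subgroup.normalizer ((S : Subgroup G) : Set G), x * ww * x⁻¹ = ww := by
    intro x hx
    have hxS : ∀ s ∈ (S : Subgroup G), x * s * x⁻¹ ∈ (S : Subgroup G) := fun s hs =>
      (Subgroup.mem_normalizer_iff.1 hx s).1 hs
    let f : Z →* G := (MulAut.conj x).toMonoidHom.comp ((S : Subgroup G).subtype.comp Z.subtype)
    let g : Z →* G := (S : Subgroup G).subtype.comp Z.subtype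
    have hf : ∀ y : Z, ∃ y' : Z, g y' = f y := by
      intro y
      refine ⟨⟨⟨x * ((y : (S : Subgroup G)) : G) * x⁻¹, hxS _ (y : (S : Subgroup G)).2⟩, ?_⟩, rfl⟩
      rw [Subgroup.mem_center_iff]
      rintro ⟨s, hs⟩
      apply Subtype.ext
      change s * (x * ((y : (S : Subgroup G)) : G) * x⁻¹) = x * ((y : (S : Subgroup G)) : G) * x⁻¹ * s
      have h1 : x⁻¹ * s * x ∈ (S : Subgroup G) := by
        apply (Subgroup.mem_normalizer_iff.1 hx (x⁻¹ * s * x)).2
        have : x * (x⁻¹ * s * x) * x⁻¹ = s := by group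
        rw [this]; exact hs
      have h2 := Subgroup.mem_center_iff.1 y.2 ⟨x⁻¹ * s * x, h1⟩
      have h3 : x⁻¹ * s * x * ((y : (S : Subgroup G)) : G) = ((y : (S : Subgroup G)) : G) * (x⁻¹ * s * x) :=
        congrArg Subtype.val h2
      calc s * (x * ((y : (S : Subgroup G)) : G) * x⁻¹) = x * (x⁻¹ * s * x * ((y : (S : Subgroup G)) : G)) * x⁻¹ := by group
        _ = x * (((y : (S : Subgroup G)) : G) * (x⁻¹ * s * x)) * x⁻¹ := by rw [h3]
        _ = _ := by group
    choose φ hφ using hf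
    have hginj : Function.Injective g := fun a b hab => Subtype.ext (Subtype.ext hab)
    have hφinj : Function.Injective φ := by
      intro a b hab
      have h1 : f a = f b := by rw [← hφ a, ← hφ b, hab]
      have h2 : x * g a * x⁻¹ = x * g b * x⁻¹ := h1
      exact hginj (mul_left_cancel (mul_right_cancel h2))
    have hφmul : ∀ a b, φ (a * b) = φ a * φ b := fun a b => hginj (by
      rw [map_mul, hφ, hφ, hφ, map_mul])
    let Φ : Z →* Z := ⟨⟨φ, hginj (by rw [hφ, map_one, map_one])⟩, hφmul⟩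
    have hφO : ∀ y ∈ hOfin.toFinset, φ y ∈ hOfin.toFinset := by
      intro y hy
      obtain ⟨x', hx', hyx⟩ := hOfin.mem_toFinset.1 hy
      rw [hOfin.mem_toFinset]
      refine ⟨x * x', mul_mem hx hx', ?_⟩
      have h1 : g (φ y) = f y := hφ y
      have h2 : f y = x * ((y : (S : Subgroup G)) : G) * x⁻¹ := rfl
      change g (φ y) = _
      rw [h1, h2, hyx]; group
    have himg : hOfin.toFinset.image φ = hOfin.toFinset := by
      apply Finset.eq_of_subset_of_card_le
      · intro y hy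
        obtain ⟨y', hy', rfl⟩ := Finset.mem_image.1 hy
        exact hφO y' hy'
      · rw [Finset.card_image_of_injective _ hφinj]
    have hΦw : Φ w = w := by
      change Φ (∏ y ∈ hOfin.toFinset, y) = ∏ y ∈ hOfin.toFinset, y
      rw [map_prod]
      conv_rhs => rw [← himg]
      rw [Finset.prod_image (fun a _ b _ h => hφinj h)]
      rfl
    have h1 : g (Φ w) = f w := hφ w
    rw [hΦw] at h1
    exact h1.symm
  -- `w` is isolated
  have hiso : ∀ g : G, g * ww * g⁻¹ ∈ (S : Subgroup G) → g * ww * g⁻¹ = ww := by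
    intro g hg
    have h1 : ww ∈ Subgroup.centralizer ((S : Subgroup G) : Set G) := by
      rw [Subgroup.mem_centralizer_iff]
      intro s hs
      exact (hinvc ww hwwS hww2 s hs).symm
    have h2 : (g⁻¹)⁻¹ * ww * g⁻¹ ∈ Subgroup.centralizer ((S : Subgroup G) : Set G) := by
      rw [inv_inv, Subgroup.mem_centralizer_iff]
      intro s hs
      refine (hinvc _ hg ?_ s hs).symm
      calc g * ww * g⁻¹ * (g * ww * g⁻¹) = g * (ww * ww) * g⁻¹ := by group
        _ = 1 := by rw [hww2]; group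
    obtain ⟨n, hn, h3⟩ := S.conj_eq_normalizer_conj_of_mem_centralizer ww g⁻¹ h1 h2
    rw [inv_inv] at h3
    rw [h3]
    have h4 := hwinv n⁻¹ (inv_mem hn)
    rw [inv_inv] at h4
    exact h4
  have hord : orderOf ww = 2 := orderOf_eq_prime (by rw [pow_two]; exact hww2) hw1
  obtain ⟨N, hN, hodd, hcom⟩ := hZ G S ww hord hwwS hiso
  rcases hN.eq_bot_or_eq_top with h | h
  · subst h
    -- `w` is central
    have hcen : ww ∈ Subgroup.center G := by
      rw [Subgroup.mem_center_iff]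
      intro x
      have h1 := Subgroup.mem_bot.1 (hcom x)
      have h2 := mul_inv_eq_one.1 h1
      exact (mul_inv_eq_iff_eq_mul.1 h2).symm
    rcases (inferInstance : (Subgroup.center G).Normal).eq_bot_or_eq_top with h | h
    · rw [h] at hcen
      exact hw1 (Subgroup.mem_bot.1 hcen)
    · apply hz1
      have h1 : d ∈ Subgroup.center G := by rw [h]; exact Subgroup.mem_top d
      have h2 := Subgroup.mem_center_iff.1 h1 c
      rw [← hcd, h2]; group
  · subst h
    rw [Subgroup.card_top] at hodd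
    have h1 : 2 ∣ Nat.card G := by rw [← hord]; exact orderOf_dvd_natCard ww
    exact (Nat.not_even_iff_odd.2 hodd) (even_iff_two_dvd.2 h1)

theorem s3269 (hZ : H26.ZStarUse.ZStarHyp.{u}) (S : Sylow 2 G) (Q R : Subgroup G)
    (hQR : Cfsg.IsInternalDirectProduct Q R (S : Subgroup G))
    (n : ℕ) (hn : 1 ≤ n) (eQ : ↥Q ≃* QuaternionGroup (2 ^ n))
    (hR : ∀ r ∈ R, orderOf r = 2 → ∀ s ∈ R, r * s = s * r) :
    ¬ IsSimpleGroup G := by
  obtain ⟨hQS, hRS, hcomm, hinf, hsup⟩ := hQR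
  obtain ⟨a, b, hab⟩ := quat_comm n hn
  have hpos : (2 ^ n : ℕ) ≠ 0 := by positivity
  let zz : Q := eQ.symm (QuaternionGroup.a ((2 ^ n : ℕ) : ZMod (2 * 2 ^ n)))
  have hzz : zz ≠ 1 := by
    intro h
    have h1 : eQ zz = 1 := by rw [h, map_one]
    rw [MulEquiv.apply_symm_apply] at h1
    have h2 : ((2 ^ n : ℕ) : ZMod (2 * 2 ^ n)) = 0 := by
      have : QuaternionGroup.a ((2 ^ n : ℕ) : ZMod (2 * 2 ^ n)) = QuaternionGroup.a 0 := h1
      exact QuaternionGroup.a.inj this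
    rw [ZMod.natCast_eq_zero_iff] at h2
    have := Nat.le_of_dvd (by positivity) h2
    have : 0 < 2 ^ n := by positivity
    omega
  have hzz2 : zz * zz = 1 := by
    apply eQ.injective
    rw [map_mul, MulEquiv.apply_symm_apply, map_one, QuaternionGroup.a_mul_a]
    change QuaternionGroup.a _ = QuaternionGroup.a 0
    congr 1
    rw [← Nat.cast_add, ZMod.natCast_eq_zero_iff]
    exact ⟨1, by ring⟩
  have hu : ∀ q : Q, q * q = 1 → q = 1 ∨ q = zz := by
    intro q hq
    by_cases h1 : q = 1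
    · exact Or.inl h1
    · right
      have h2 := H60.MaxClassTwo.quaternion_involution hpos (eQ q)
        (fun h => h1 ((map_eq_one_iff eQ eQ.injective).1 h)) (by rw [← map_mul, hq, map_one])
      apply eQ.injective
      rw [h2, MulEquiv.apply_symm_apply]
  refine not_simple hZ S Q R hQS hRS hcomm hinf hsup (zz : G) zz.2 (fun h => hzz (Subtype.ext h))
    (congrArg Subtype.val hzz2) (fun q hq h => ?_) (eQ.symm a : Q) (eQ.symm b : Q) (eQ.symm a).2 (eQ.symm b).2 ?_ hR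
  · rcases hu ⟨q, hq⟩ (Subtype.ext h) with h | h
    · exact Or.inl (congrArg Subtype.val h)
    · exact Or.inr (congrArg Subtype.val h)
  · have : eQ.symm a * eQ.symm b * (eQ.symm a)⁻¹ * (eQ.symm b)⁻¹ = zz := by
      rw [← map_inv, ← map_inv, ← map_mul, ← map_mul, ← map_mul, hab]
    exact congrArg Subtype.val this

end H25.QuatFactor
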