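import Mathlib
import Cfsg.Prelude.Def_Solvable
import Cfsg.Prelude.Def_Involutions
import Cfsg.Agent.Lib.H1.Cores
import Cfsg.Agent.Lib.H1.SZ
import Cfsg.Agent.Lib.H72.TwoClosed
import Cfsg.Agent.Lib.H25.StrEmb
import Cfsg.Agent.Lib.H2.GenCent

/-!
A finite group `G` acting on an elementary abelian `2`-group `V` such that every vector is
centralized by a Sylow `2`-subgroup, real elements of odd order act without fixed points and the
centralizer of such an element has the same orbits as `G`.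
-/

set_option autoImplicit false

open Subgroup
open scoped Pointwise

namespace H25.RealAct

variable {G V : Type*} [Group G] [Group V]

structure Hyp (ρ : G →* MulAut V) : Prop where
  sq : ∀ v : V, v * v = 1
  nt : ∃ v : V, v ≠ 1
  cen : ∀ v : V, v ≠ 1 → ∃ P : Sylow 2 G, ∀ g ∈ (P : Subgroup G), ρ g v = v
  fpf : ∀ t x : G, x ≠ 1 → Odd (orderOf x) → t * x * t⁻¹ = x⁻¹ → ∀ v : V, ρ x v = v → v = 1
  tr : ∀ t x : G, x ≠ 1 → Odd (orderOf x) → t * x * t⁻¹ = x⁻¹ → ∀ v : V, v ≠ 1 → ∀ g : G,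
    ∃ c : G, c * x = x * c ∧ ρ c v = ρ g v

/-- an element of odd order in a `2`-group is trivial -/
theorem eq_one_of_odd [Finite G] {P : Subgroup G} (hP : IsPGroup 2 P) {y : G} (hy : y ∈ P)
    (ho : Odd (orderOf y)) : y = 1 := by
  obtain ⟨k, hk⟩ := hP ⟨y, hy⟩
  have h1 : y ^ 2 ^ k = 1 := congrArg Subtype.val hk
  have h2 : orderOf y ∣ 2 ^ k := orderOf_dvd_of_pow_eq_one h1
  obtain ⟨j, -, hj⟩ := (Nat.dvd_prime_pow Nat.prime_two).mp h2
  rcases j with _ | j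
  · rw [pow_zero] at hj
    exact orderOf_eq_one_iff.mp hj
  · rw [hj, pow_succ] at ho
    exact absurd ho (by simp)

theorem eq_one_of_sq {y : G} (ho : Odd (orderOf y)) (h : y * y = 1) : y = 1 := by
  have h2 : orderOf y ∣ 2 := orderOf_dvd_of_pow_eq_one (by rw [pow_two]; exact h)
  rcases (Nat.dvd_prime Nat.prime_two).mp h2 with h3 | h3
  · exact orderOf_eq_one_iff.mp h3
  · rw [h3] at ho
    exact absurd ho (by decide)

/-- the stabilizer of a vector -/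
def stab (ρ : G →* MulAut V) (v : V) : Subgroup G where
  carrier := {g | ρ g v = v}
  one_mem' := by simp
  mul_mem' := by
    intro a b ha hb
    simp only [Set.mem_setOf_eq] at *
    rw [map_mul, MulAut.mul_apply, hb, ha]
  inv_mem' := by
    intro a ha
    simp only [Set.mem_setOf_eq] at *
    rw [map_inv]
    nth_rewrite 1 [← ha]
    exact MulAut.inv_apply_self V (ρ a) v

theorem mem_stab {ρ : G →* MulAut V} {v : V} {g : G} : g ∈ stab ρ v ↔ ρ g v = v := Iff.rfl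

/-- the fixed vectors of an element -/
def fix (ρ : G →* MulAut V) (t : G) : Subgroup V where
  carrier := {v | ρ t v = v}
  one_mem' := by simp
  mul_mem' := by
    intro a b ha hb
    simp only [Set.mem_setOf_eq] at *
    rw [map_mul, hb, ha]
  inv_mem' := by
    intro a ha
    simp only [Set.mem_setOf_eq] at *
    rw [map_inv, ha]

theorem mem_fix {ρ : G →* MulAut V} {v : V} {g : G} : v ∈ fix ρ g ↔ ρ g v = v := Iff.rfl

theorem Hyp.comm {ρ : G →* MulAut V} (h : Hyp ρ) (a b : V) : a * b = b * a := by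
  have h1 : a⁻¹ = a := inv_eq_of_mul_eq_one_left (h.sq a)
  have h2 : b⁻¹ = b := inv_eq_of_mul_eq_one_left (h.sq b)
  have h3 : (a * b)⁻¹ = a * b := inv_eq_of_mul_eq_one_left (h.sq (a * b))
  rw [← h3, mul_inv_rev, h1, h2]

theorem Hyp.noReal {ρ : G →* MulAut V} (h : Hyp ρ) {v : V} (hv : v ≠ 1) :
    H72.TwoClosed.NoRealOdd (stab ρ v) := by
  intro t y hy hty
  by_contra hne
  apply hv
  refine h.fpf (t : G) (y : G) (fun h1 => hne (Subtype.ext h1)) ?_ ?_ v y.2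
  · rwa [Subgroup.orderOf_coe]
  · exact congrArg Subtype.val hty

/-- a `2`-element fixing `v ≠ 1` lies in the Sylow subgroup fixing `v` -/
theorem Hyp.mem_of_fix [Finite G] {ρ : G →* MulAut V} (h : Hyp ρ) {v : V} (hv : v ≠ 1)
    {P : Sylow 2 G} (hP : ∀ g ∈ (P : Subgroup G), ρ g v = v) {u : G} {k : ℕ}
    (huk : u ^ 2 ^ k = 1) (hu : ρ u v = v) : u ∈ (P : Subgroup G) := by
  have : Fact (Nat.Prime 2) := ⟨Nat.prime_two⟩
  have h1 := (h.noReal hv).odd_quotient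
  have hle : (P : Subgroup G) ≤ stab ρ v := fun g hg => hP g hg
  have h2 := H1.Cores.pCore_le_sylow (P.subtype hle)
  have h3 : (⟨u, hu⟩ : stab ρ v) ∈ Cfsg.pCore 2 (stab ρ v) := by
    rw [← QuotientGroup.eq_one_iff]
    have h4 : ((⟨u, hu⟩ : stab ρ v) : stab ρ v ⧸ Cfsg.pCore 2 (stab ρ v)) ^ 2 ^ k = 1 := by
      rw [← QuotientGroup.mk_pow]
      have : (⟨u, hu⟩ : stab ρ v) ^ 2 ^ k = 1 := Subtype.ext (by simpa using huk)
      rw [this, QuotientGroup.mk_one]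
    have h5 : orderOf ((⟨u, hu⟩ : stab ρ v) : stab ρ v ⧸ Cfsg.pCore 2 (stab ρ v)) ∣ 2 ^ k :=
      orderOf_dvd_of_pow_eq_one h4
    have h6 := orderOf_dvd_natCard ((⟨u, hu⟩ : stab ρ v) : stab ρ v ⧸ Cfsg.pCore 2 (stab ρ v))
    have h7 : Nat.Coprime (2 ^ k) (Nat.card (stab ρ v ⧸ Cfsg.pCore 2 (stab ρ v))) :=
      Nat.Coprime.pow_left k (Nat.coprime_two_left.mpr h1)
    have h8 := Nat.eq_one_of_dvd_coprimes h7 h5 h6
    exact orderOf_eq_one_iff.mp h8
  have h9 := h2 h3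
  rw [Sylow.coe_subtype, Subgroup.mem_subgroupOf] at h9
  exact h9

theorem exists_pow_of_mem [Finite G] (P : Sylow 2 G) {g : G} (hg : g ∈ (P : Subgroup G)) :
    ∃ k : ℕ, g ^ 2 ^ k = 1 := by
  obtain ⟨k, hk⟩ := P.2 ⟨g, hg⟩
  exact ⟨k, congrArg Subtype.val hk⟩

theorem Hyp.fx_unique [Finite G] {ρ : G →* MulAut V} (h : Hyp ρ) {v : V} (hv : v ≠ 1)
    {P Q : Sylow 2 G} (hP : ∀ g ∈ (P : Subgroup G), ρ g v = v)
    (hQ : ∀ g ∈ (Q : Subgroup G), ρ g v = v) : P = Q := by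
  apply Sylow.ext
  apply le_antisymm
  · intro g hg
    obtain ⟨k, hk⟩ := exists_pow_of_mem P hg
    exact h.mem_of_fix hv hQ hk (hP g hg)
  · intro g hg
    obtain ⟨k, hk⟩ := exists_pow_of_mem Q hg
    exact h.mem_of_fix hv hP hk (hQ g hg)

theorem Hyp.exists_fx [Finite G] [Finite V] {ρ : G →* MulAut V} (h : Hyp ρ) {P : Subgroup G}
    (hP : IsPGroup 2 P) : ∃ v : V, v ≠ 1 ∧ ∀ g ∈ P, ρ g v = v := by
  have : Fact (Nat.Prime 2) := ⟨Nat.prime_two⟩
  letI : MulAction P V := MulAction.compHom V (ρ.comp P.subtype)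
  have h2 : 2 ∣ Nat.card V := by
    obtain ⟨v, hv⟩ := h.nt
    have h3 : orderOf v = 2 := orderOf_eq_prime (by rw [pow_two]; exact h.sq v) hv
    rw [← h3]
    exact orderOf_dvd_natCard v
  have h1 : (1 : V) ∈ MulAction.fixedPoints P V := by
    intro g
    show ρ g 1 = 1
    exact map_one _
  obtain ⟨b, hb, hb1⟩ := hP.exists_fixed_point_of_prime_dvd_card_of_fixed_point V h2 h1
  exact ⟨b, fun h4 => hb1 h4.symm, fun g hg => hb ⟨g, hg⟩⟩

theorem mem_smul {P : Sylow 2 G} {c g : G} :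
    g ∈ ((c • P : Sylow 2 G) : Subgroup G) ↔ c⁻¹ * g * c ∈ (P : Subgroup G) := by
  rw [Sylow.coe_subgroup_smul, H1.SZ.mem_conj_smul]

theorem fx_smul {ρ : G →* MulAut V} {v : V} {P : Sylow 2 G}
    (hP : ∀ g ∈ (P : Subgroup G), ρ g v = v) (c : G) :
    ∀ g ∈ ((c • P : Sylow 2 G) : Subgroup G), ρ g (ρ c v) = ρ c v := by
  intro g hg
  rw [mem_smul] at hg
  have h1 := hP _ hg
  have h2 : g * c = c * (c⁻¹ * g * c) := by group
  rw [← MulAut.mul_apply, ← map_mul, h2, map_mul, MulAut.mul_apply, h1]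

/-- the centralizer of a real element of odd order is transitive on the Sylow `2`-subgroups -/
theorem Hyp.sylow_tr [Finite G] [Finite V] {ρ : G →* MulAut V} (h : Hyp ρ) {t x : G} (hx : x ≠ 1)
    (hxo : Odd (orderOf x)) (htx : t * x * t⁻¹ = x⁻¹) (P Q : Sylow 2 G) :
    ∃ c : G, c * x = x * c ∧ c • P = Q := by
  have : Fact (Nat.Prime 2) := ⟨Nat.prime_two⟩
  obtain ⟨v, hv, hPv⟩ := h.exists_fx P.2
  obtain ⟨g, hg⟩ := MulAction.exists_smul_eq G P Q
  obtain ⟨c, hc, hcv⟩ := h.tr t x hx hxo htx v hv g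
  refine ⟨c, hc, ?_⟩
  have h1 := fx_smul hPv c
  have h2 := fx_smul hPv g
  rw [hg, ← hcv] at h2
  exact h.fx_unique (fun h3 => hv (by simpa using h3)) h1 h2

/-- a real element of odd order normalizes no Sylow `2`-subgroup -/
theorem Hyp.not_norm [Finite G] [Finite V] {ρ : G →* MulAut V} (h : Hyp ρ) {t x : G} (hx : x ≠ 1)
    (hxo : Odd (orderOf x)) (htx : t * x * t⁻¹ = x⁻¹) (P : Sylow 2 G) : x • P ≠ P := by
  have : Fact (Nat.Prime 2) := ⟨Nat.prime_two⟩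
  intro hxP
  obtain ⟨s, hs, ⟨k, hk⟩, -⟩ := H72.TwoClosed.exists_two_elt htx
  have hsp : IsPGroup 2 (zpowers s) := IsPGroup.of_card (n := k) (by rw [Nat.card_zpowers, hk])
  obtain ⟨Q, hQ⟩ := hsp.exists_le_sylow
  have hsQ : s ∈ (Q : Subgroup G) := hQ (mem_zpowers s)
  obtain ⟨c, hc, hcP⟩ := h.sylow_tr hx hxo htx P Q
  have hxQ : x • Q = Q := by
    rw [← hcP, ← mul_smul, ← hc, mul_smul, hxP]
  have h1 : x⁻¹ * s * x ∈ (Q : Subgroup G) := by
    rw [← mem_smul, hxQ]; exact hsQ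
  have h2 : x⁻¹ * x⁻¹ ∈ (Q : Subgroup G) := by
    have h3 : x⁻¹ * x⁻¹ = (x⁻¹ * s * x) * s⁻¹ := by
      nth_rewrite 2 [← hs]; group
    rw [h3]
    exact mul_mem h1 (inv_mem hsQ)
  have h4 : Odd (orderOf (x⁻¹ * x⁻¹)) := by
    rw [← pow_two]
    exact Odd.of_dvd_nat hxo ((orderOf_pow_dvd 2).trans (by rw [orderOf_inv]))
  have h5 := eq_one_of_odd Q.2 h2 h4
  exact hx (inv_eq_one.mp (eq_one_of_sq (by rwa [orderOf_inv]) h5))

end H25.RealAct
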