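import Cfsg.Agent.Lib.H25.RealAct

set_option autoImplicit false

open Subgroup
open scoped Pointwise

namespace H25.RealAct

variable {G V : Type*} [Group G] [Group V]

/-- with `O₂(G) = 1` every involution inverts a nontrivial element of odd order -/
theorem exists_real [Finite G] (hO : Cfsg.pCore 2 G = ⊥) {t : G} (ht : t * t = 1) (ht1 : t ≠ 1) :
    ∃ x : G, x ≠ 1 ∧ Odd (orderOf x) ∧ t * x * t⁻¹ = x⁻¹ := by
  by_contra hcon
  push Not at hcon
  obtain ⟨N, hN, hNp, htN⟩ := H55.BaerSuzuki.exists_normal_of_involution t ht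
    (fun x hxo hx => by_contra fun hne => hcon x hne hxo hx)
  have h1 := H1.Cores.le_pCore hN hNp htN
  rw [hO, mem_bot] at h1
  exact ht1 h1

theorem fix_mul {ρ : G →* MulAut V} {a b : G} {v : V} (ha : ρ a v = v) (hb : ρ b v = v) :
    ρ (a * b) v = v := by
  rw [map_mul, MulAut.mul_apply, hb, ha]

theorem fix_inv {ρ : G →* MulAut V} {a : G} {v : V} (ha : ρ a v = v) : ρ a⁻¹ v = v :=
  (stab ρ v).inv_mem ha

theorem rho_apply_inv {ρ : G →* MulAut V} (a : G) (v : V) : ρ a (ρ a⁻¹ v) = v := by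
  rw [← MulAut.mul_apply, ← map_mul, mul_inv_cancel, map_one, MulAut.one_apply]

theorem rho_inv_apply {ρ : G →* MulAut V} (a : G) (v : V) : ρ a⁻¹ (ρ a v) = v := by
  rw [← MulAut.mul_apply, ← map_mul, inv_mul_cancel, map_one, MulAut.one_apply]

theorem inv_of_sq {t : G} (ht : t * t = 1) : t⁻¹ = t := inv_eq_of_mul_eq_one_left ht

/-- if `t` inverts `x` and `v` is fixed by `t` and `x t x⁻¹` then `v` is fixed by `x²` -/
theorem fix_sq {ρ : G →* MulAut V} {t x : G} (ht : t * t = 1) (htx : t * x * t⁻¹ = x⁻¹) {v : V}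
    (h1 : ρ t v = v) (h2 : ρ (x * t * x⁻¹) v = v) : ρ (x⁻¹ * x⁻¹) v = v := by
  have h3 : x⁻¹ * x⁻¹ = t * (x * t * x⁻¹) := by
    nth_rewrite 1 [← htx]
    rw [inv_of_sq ht]; group
  rw [h3]
  exact fix_mul h1 h2

theorem Hyp.fix_both {ρ : G →* MulAut V} (h : Hyp ρ) {t x : G} (ht : t * t = 1) (hx : x ≠ 1)
    (hxo : Odd (orderOf x)) (htx : t * x * t⁻¹ = x⁻¹) {v : V}
    (h1 : ρ t v = v) (h2 : ρ (x * t * x⁻¹) v = v) : v = 1 := by
  have h3 := fix_sq ht htx h1 h2
  have h4 : Odd (orderOf (x⁻¹ * x⁻¹)) := by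
    rw [← pow_two]
    exact Odd.of_dvd_nat hxo ((orderOf_pow_dvd 2).trans (by rw [orderOf_inv]))
  refine h.fpf t (x⁻¹ * x⁻¹) ?_ h4 ?_ v h3
  · intro h5
    exact hx (inv_eq_one.mp (eq_one_of_sq (by rwa [orderOf_inv]) h5))
  · have h6 : t * (x⁻¹ * x⁻¹) * t⁻¹ = (t * x * t⁻¹)⁻¹ * (t * x * t⁻¹)⁻¹ := by group
    rw [h6, htx, mul_inv_rev]

/-- an involution has exactly `√|V|` fixed points -/
theorem Hyp.card_fix [Finite G] [Finite V] {ρ : G →* MulAut V} (h : Hyp ρ)
    (hO : Cfsg.pCore 2 G = ⊥) {t : G} (ht : t * t = 1) (ht1 : t ≠ 1) :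
    Nat.card (fix ρ t) * Nat.card (fix ρ t) = Nat.card V := by
  apply le_antisymm
  · obtain ⟨x, hx, hxo, htx⟩ := exists_real hO ht ht1
    rw [← Nat.card_prod]
    apply Nat.card_le_card_of_injective (fun p : fix ρ t × fix ρ t => (p.1 : V) * ρ x (p.2 : V))
    rintro ⟨⟨a, ha⟩, ⟨b, hb⟩⟩ ⟨⟨a', ha'⟩, ⟨b', hb'⟩⟩ heq
    simp only at heq
    have h1 : a'⁻¹ * a = ρ x (b' * b⁻¹) := by
      rw [map_mul, map_inv, inv_mul_eq_iff_eq_mul, ← mul_assoc, ← heq]; group
    have h2 : ρ t (a'⁻¹ * a) = a'⁻¹ * a := mul_mem (inv_mem ha') ha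
    have h3 : ρ (x * t * x⁻¹) (a'⁻¹ * a) = a'⁻¹ * a := by
      rw [h1, map_mul, map_mul, MulAut.mul_apply, MulAut.mul_apply, rho_inv_apply]
      congr 1
      exact mul_mem hb' (inv_mem hb)
    have h4 := h.fix_both ht hx hxo htx h2 h3
    have h5 : b' * b⁻¹ = 1 := by
      rw [h4] at h1
      have := (ρ x).injective (h1.symm.trans (map_one (ρ x)).symm)
      exact this
    have e1 : a = a' := by rw [inv_mul_eq_one] at h4; exact h4.symm
    have e2 : b = b' := by rw [mul_inv_eq_one] at h5; exact h5.symm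
    subst e1; subst e2; rfl
  · let φ : V →* V :=
      { toFun := fun v => v * ρ t v
        map_one' := by simp
        map_mul' := by
          intro a b
          rw [map_mul]
          have := h.comm b (ρ t a)
          calc a * b * (ρ t a * ρ t b) = a * (b * ρ t a) * ρ t b := by group
            _ = a * (ρ t a * b) * ρ t b := by rw [this]
            _ = a * ρ t a * (b * ρ t b) := by group }
    have h1 : φ.ker ≤ fix ρ t := by
      intro v hv
      have h2 : v * ρ t v = 1 := hv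
      rw [mem_fix, eq_inv_of_mul_eq_one_right h2]
      exact inv_eq_of_mul_eq_one_left (h.sq v)
    have h3 : φ.range ≤ fix ρ t := by
      rintro _ ⟨v, rfl⟩
      show ρ t (v * ρ t v) = v * ρ t v
      rw [map_mul, h.comm]
      congr 1
      rw [← MulAut.mul_apply, ← map_mul, ht, map_one, MulAut.one_apply]
    rw [Subgroup.card_eq_card_quotient_mul_card_subgroup φ.ker,
      Nat.card_congr (QuotientGroup.quotientKerEquivRange φ).toEquiv]
    exact Nat.mul_le_mul (Nat.card_le_card_of_injective _ (Subgroup.inclusion_injective h3))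
      (Nat.card_le_card_of_injective _ (Subgroup.inclusion_injective h1))

/-- no noncyclic abelian group of odd order is inverted by an element -/
theorem Hyp.cyclic_aux [Finite G] [Finite V] {ρ : G →* MulAut V} (h : Hyp ρ) {q : ℕ}
    (hq : q.Prime) {t x y : G} (hxq : x ^ q = 1) (hyq : y ^ q = 1) (hy1 : y ≠ 1)
    (hxy : x ∉ zpowers y) (hq2 : Odd q) (hc : x * y = y * x) (htx : t * x * t⁻¹ = x⁻¹)
    (hty : t * y * t⁻¹ = y⁻¹) : False := by
  have : Fact q.Prime := ⟨hq⟩
  have hfin : Finite (V ⋊[ρ] G) := Finite.of_equiv _ (SemidirectProduct.equivProd).symm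
  set K : Subgroup (V ⋊[ρ] G) := (SemidirectProduct.inl : V →* V ⋊[ρ] G).range with hK
  have hcK : IsMulCommutative K := by
    refine ⟨⟨?_⟩⟩
    rintro ⟨_, a, rfl⟩ ⟨_, b, rfl⟩
    apply Subtype.ext
    show SemidirectProduct.inl a * SemidirectProduct.inl b =
      SemidirectProduct.inl b * SemidirectProduct.inl a
    rw [← map_mul, ← map_mul, h.comm]
  have hnorm : ∀ g : G, (SemidirectProduct.inr g : V ⋊[ρ] G) ∈ normalizer (K : Set (V ⋊[ρ] G)) := by
    intro g
    rw [Subgroup.mem_normalizer_iff]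
    intro w
    constructor
    · rintro ⟨v, rfl⟩
      exact ⟨ρ g v, by rw [SemidirectProduct.inl_aut]; simp⟩
    · rintro ⟨v, hv⟩
      refine ⟨ρ g⁻¹ v, ?_⟩
      rw [SemidirectProduct.inl_aut, hv]
      simp only [map_inv]
      group
  have hcent : ∀ g : G, g ≠ 1 → g ^ q = 1 → t * g * t⁻¹ = g⁻¹ →
      K ⊓ centralizer {(SemidirectProduct.inr g : V ⋊[ρ] G)} = ⊥ := by
    intro g hg1 hgq htg
    rw [eq_bot_iff]
    rintro w ⟨⟨v, rfl⟩, hw⟩
    have hw' := Subgroup.mem_centralizer_singleton_iff.mp hw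
    have h1 : ρ g v = v := by
      have h2 := SemidirectProduct.inl_aut (φ := ρ) g v
      have h2' : (SemidirectProduct.inl (ρ g v) : V ⋊[ρ] G) = SemidirectProduct.inl v := by
        rw [h2, map_inv, mul_inv_eq_iff_eq_mul]
        exact hw'.symm
      exact SemidirectProduct.inl_injective h2'
    have h3 : v = 1 := by
      refine h.fpf t g hg1 ?_ htg v h1
      exact Odd.of_dvd_nat hq2 (orderOf_dvd_of_pow_eq_one hgq)
    rw [h3, map_one]
    exact mem_bot.mpr rfl
  obtain ⟨v, hv⟩ := h.nt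
  have key := H2.GenCent.pow_mem_aux K q (SemidirectProduct.inr x) (SemidirectProduct.inr y)
    (hnorm x) (hnorm y) (by rw [← map_mul, ← map_mul, hc]) (by rw [← map_pow, hxq, map_one])
    (by rw [← map_pow, hyq, map_one]) (SemidirectProduct.inl v) ⟨v, rfl⟩
  have e1 : ∀ j : ZMod q, K ⊓ centralizer {(SemidirectProduct.inr x : V ⋊[ρ] G) *
      (SemidirectProduct.inr y) ^ j.val} = ⊥ := by
    intro j
    rw [← map_pow, ← map_mul]
    apply hcent
    · intro h1
      apply hxy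
      have h2 : x = (y ^ j.val)⁻¹ := eq_inv_of_mul_eq_one_left h1
      rw [h2]
      exact inv_mem (npow_mem_zpowers y _)
    · have hcomm : Commute x (y ^ j.val) := Commute.pow_right hc _
      rw [hcomm.mul_pow, hxq, ← pow_mul, mul_comm, pow_mul, hyq, one_pow, one_mul]
    · have h1 : t * (x * y ^ j.val) * t⁻¹ = (t * x * t⁻¹) * (t * y * t⁻¹) ^ j.val := by
        rw [conj_pow]; group
      have hcomm : Commute x (y ^ j.val) := Commute.pow_right hc _
      rw [h1, htx, hty, mul_inv_rev, inv_pow]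
      exact (hcomm.inv_inv).eq
  have e2 := hcent y hy1 hyq hty
  rw [e2] at key
  simp only [e1, iSup_bot, sup_bot_eq, mem_bot] at key
  rw [← map_pow] at key
  have h5 : v ^ q = 1 := SemidirectProduct.inl_injective (key.trans (map_one _).symm)
  obtain ⟨m, hm⟩ := hq2
  rw [hm, pow_succ, pow_mul, pow_two, h.sq, one_pow, one_mul] at h5
  exact hv h5

end H25.RealAct
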