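import Cfsg.Agent.Lib.H25.RealAct2

set_option autoImplicit false

open Subgroup
open scoped Pointwise

namespace H25.RealAct

variable {G V : Type*} [Group G] [Group V]

/-- two commuting elements of odd order inverted by `t` lie in a common cyclic subgroup whose
generator is inverted by `t` -/
theorem Hyp.exists_gen [Finite G] [Finite V] {ρ : G →* MulAut V} (h : Hyp ρ) {t x y : G}
    (hxo : Odd (orderOf x)) (hyo : Odd (orderOf y)) (hc : x * y = y * x)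
    (htx : t * x * t⁻¹ = x⁻¹) (hty : t * y * t⁻¹ = y⁻¹) :
    ∃ z : G, Odd (orderOf z) ∧ t * z * t⁻¹ = z⁻¹ ∧ x ∈ zpowers z ∧ y ∈ zpowers z := by
  have hC : Commute x y := hc
  let A : Subgroup G :=
    { carrier := {g | ∃ i j : ℤ, g = x ^ i * y ^ j}
      one_mem' := ⟨0, 0, by simp⟩
      mul_mem' := by
        rintro _ _ ⟨i, j, rfl⟩ ⟨i', j', rfl⟩
        refine ⟨i + i', j + j', ?_⟩
        rw [zpow_add, zpow_add]
        have h1 : y ^ j * x ^ i' = x ^ i' * y ^ j := (hC.zpow_zpow i' j).eq.symm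
        calc x ^ i * y ^ j * (x ^ i' * y ^ j') = x ^ i * (y ^ j * x ^ i') * y ^ j' := by group
          _ = _ := by rw [h1]; group
      inv_mem' := by
        rintro _ ⟨i, j, rfl⟩
        refine ⟨-i, -j, ?_⟩
        rw [mul_inv_rev, zpow_neg, zpow_neg]
        exact ((hC.zpow_zpow i j).inv_inv).eq.symm }
  have hxA : x ∈ A := ⟨1, 0, by simp⟩
  have hyA : y ∈ A := ⟨0, 1, by simp⟩
  have hodd : ∀ g ∈ A, Odd (orderOf g) := by
    rintro _ ⟨i, j, rfl⟩
    refine Odd.of_dvd_nat (hxo.mul hyo) (orderOf_dvd_of_pow_eq_one ?_)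
    rw [(hC.zpow_zpow i j).mul_pow, ← zpow_natCast, ← zpow_natCast, ← zpow_mul, ← zpow_mul]
    have e1 : i * ((orderOf x * orderOf y : ℕ) : ℤ) = (orderOf x : ℤ) * (orderOf y * i) := by
      push_cast; ring
    have e2 : j * ((orderOf x * orderOf y : ℕ) : ℤ) = (orderOf y : ℤ) * (orderOf x * j) := by
      push_cast; ring
    rw [e1, e2, zpow_mul, zpow_mul y, zpow_natCast, zpow_natCast, pow_orderOf_eq_one,
      pow_orderOf_eq_one, one_zpow, one_zpow, one_mul]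
  have hinv : ∀ g ∈ A, t * g * t⁻¹ = g⁻¹ := by
    rintro _ ⟨i, j, rfl⟩
    have h1 : t * (x ^ i * y ^ j) * t⁻¹ = (t * x * t⁻¹) ^ i * (t * y * t⁻¹) ^ j := by
      rw [conj_zpow, conj_zpow]; group
    rw [h1, htx, hty, mul_inv_rev, inv_zpow, inv_zpow]
    exact ((hC.zpow_zpow i j).inv_inv).eq
  have hcomm : ∀ a ∈ A, ∀ b ∈ A, a * b = b * a := by
    rintro _ ⟨i, j, rfl⟩ _ ⟨i', j', rfl⟩
    have h1 : Commute (x ^ i) (x ^ i' * y ^ j') :=
      ((Commute.refl x).zpow_zpow i i').mul_right (hC.zpow_zpow i j')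
    have h2 : Commute (y ^ j) (x ^ i' * y ^ j') :=
      (hC.symm.zpow_zpow j i').mul_right ((Commute.refl y).zpow_zpow j j')
    exact (h1.mul_left h2).eq
  by_cases hcyc : IsCyclic A
  · obtain ⟨⟨z, hz⟩, hgen⟩ := hcyc.exists_generator
    refine ⟨z, hodd z hz, hinv z hz, ?_, ?_⟩
    · obtain ⟨k, hk⟩ := hgen ⟨x, hxA⟩
      exact ⟨k, congrArg Subtype.val hk⟩
    · obtain ⟨k, hk⟩ := hgen ⟨y, hyA⟩
      exact ⟨k, congrArg Subtype.val hk⟩
  · exfalso
    have hM : IsMulCommutative A :=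
      ⟨⟨fun a b => Subtype.ext (hcomm a a.2 b b.2)⟩⟩
    obtain ⟨q, hq, ⟨a, ha⟩, ⟨b, hb⟩, haq, hbq, hb1, hab⟩ := H2.NonCyclic.exists_pair hM hcyc
    have haq' : a ^ q = 1 := congrArg Subtype.val haq
    have hbq' : b ^ q = 1 := congrArg Subtype.val hbq
    have hb1' : b ≠ 1 := fun h1 => hb1 (Subtype.ext h1)
    have hab' : a ∉ zpowers b := by
      rintro ⟨k, hk⟩
      exact hab ⟨k, Subtype.ext hk⟩
    have hqo : Odd q := by
      have : Fact q.Prime := ⟨hq⟩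
      have h1 := orderOf_eq_prime hbq' hb1'
      rw [← h1]
      exact hodd b hb
    exact h.cyclic_aux hq haq' hbq' hb1' hab' hqo (hcomm a ha b hb) (hinv a ha) (hinv b hb)

/-- a maximal element of odd order inverted by `t` -/
theorem Hyp.exists_max [Finite G] [Finite V] {ρ : G →* MulAut V} (h : Hyp ρ) {t x₀ : G}
    (hxo : Odd (orderOf x₀)) (htx : t * x₀ * t⁻¹ = x₀⁻¹) :
    ∃ x : G, Odd (orderOf x) ∧ t * x * t⁻¹ = x⁻¹ ∧ x₀ ∈ zpowers x ∧
      ∀ y : G, Odd (orderOf y) → t * y * t⁻¹ = y⁻¹ → x * y = y * x → y ∈ zpowers x := by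
  have hfin : {z : G | Odd (orderOf z) ∧ t * z * t⁻¹ = z⁻¹ ∧ x₀ ∈ zpowers z}.Finite :=
    Set.toFinite _
  obtain ⟨x, ⟨hx1, hx2, hx3⟩, hmax⟩ := Set.exists_max_image _ (fun z => orderOf z) hfin
    ⟨x₀, hxo, htx, mem_zpowers x₀⟩
  refine ⟨x, hx1, hx2, hx3, ?_⟩
  intro y hyo hty hc
  obtain ⟨z, hz1, hz2, hz3, hz4⟩ := h.exists_gen hx1 hyo hc hx2 hty
  have hle : zpowers x ≤ zpowers z := by rwa [zpowers_le]
  have h1 : orderOf z ≤ orderOf x := hmax z ⟨hz1, hz2, hle hx3⟩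
  have h2 : zpowers x = zpowers z := by
    apply Subgroup.eq_of_le_of_card_ge hle
    rw [Nat.card_zpowers, Nat.card_zpowers]
    exact h1
  rw [h2]
  exact hz4

theorem pCore_eq_bot_of_tr [Finite G] (hO : Cfsg.pCore 2 G = ⊥) (B : Subgroup G)
    (hB : ∀ P Q : Sylow 2 G, ∃ c ∈ B, c • P = Q) : Cfsg.pCore 2 B = ⊥ := by
  have : Fact (Nat.Prime 2) := ⟨Nat.prime_two⟩
  have hp : IsPGroup 2 ((Cfsg.pCore 2 B).map B.subtype) := (H1.Cores.isPGroup_pCore 2).map _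
  obtain ⟨P, hP⟩ := hp.exists_le_sylow
  have hall : (Cfsg.pCore 2 B).map B.subtype ≤ Cfsg.pCore 2 G := by
    rw [H1.Cores.pCore_eq_iInf_sylow (G := G)]
    refine le_iInf fun Q => ?_
    obtain ⟨c, hc, hcP⟩ := hB P Q
    intro g hg
    rw [← hcP, mem_smul]
    apply hP
    rw [Subgroup.mem_map] at hg
    obtain ⟨g', hgO, rfl⟩ := hg
    have hn := (H1.Cores.pCore_normal (G := B) 2).conj_mem g' hgO ⟨c⁻¹, inv_mem hc⟩
    rw [Subgroup.mem_map]
    exact ⟨_, hn, by simp⟩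
  rw [hO, le_bot_iff, Subgroup.map_eq_bot_iff_of_injective _ (Subtype.val_injective)] at hall
  exact hall

/-- the centralizer of a real element of odd order has no normal `2`-subgroup -/
theorem Hyp.pCore_cent [Finite G] [Finite V] {ρ : G →* MulAut V} (h : Hyp ρ)
    (hO : Cfsg.pCore 2 G = ⊥) {t x : G} (hx : x ≠ 1)
    (hxo : Odd (orderOf x)) (htx : t * x * t⁻¹ = x⁻¹) :
    Cfsg.pCore 2 (centralizer ({x} : Set G)) = ⊥ := by
  apply pCore_eq_bot_of_tr hO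
  intro P Q
  obtain ⟨c, hc, hcP⟩ := h.sylow_tr hx hxo htx P Q
  exact ⟨c, mem_centralizer_singleton_iff.mpr hc, hcP⟩

end H25.RealAct
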