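import Cfsg.Agent.Lib.H25.RealAct3

set_option autoImplicit false

open Subgroup
open scoped Pointwise

namespace H25.RealAct

variable {G V : Type*} [Group G] [Group V]

/-- the elements centralizing or inverting `x` -/
def ext (x : G) : Subgroup G where
  carrier := {g | g * x * g⁻¹ = x ∨ g * x * g⁻¹ = x⁻¹}
  one_mem' := by left; group
  mul_mem' := by
    have key : ∀ a b : G, a * b * x * (a * b)⁻¹ = a * (b * x * b⁻¹) * a⁻¹ := by intro a b; group
    have key2 : ∀ a : G, a * x⁻¹ * a⁻¹ = (a * x * a⁻¹)⁻¹ := by intro a; group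
    rintro a b (ha | ha) (hb | hb)
    · left; rw [key, hb, ha]
    · right; rw [key, hb, key2, ha]
    · right; rw [key, hb, ha]
    · left; rw [key, hb, key2, ha, inv_inv]
  inv_mem' := by
    rintro a (ha | ha)
    · left
      nth_rewrite 1 [← ha]; group
    · right
      have h1 : x = a⁻¹ * x⁻¹ * a := by rw [← ha]; group
      have h2 : a⁻¹ * x * a⁻¹⁻¹ = (a⁻¹ * x⁻¹ * a)⁻¹ := by group
      rw [h2, ← h1]

theorem mem_ext {x g : G} : g ∈ ext x ↔ g * x * g⁻¹ = x ∨ g * x * g⁻¹ = x⁻¹ := Iff.rfl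

theorem self_mem_ext (x : G) : x ∈ ext x := by left; group

instance normal_zpowers (x : G) : ((zpowers x).subgroupOf (ext x)).Normal := by
  constructor
  rintro ⟨n, hn⟩ hnx ⟨g, hg⟩
  rw [mem_subgroupOf] at hnx ⊢
  obtain ⟨k, hk⟩ := mem_zpowers_iff.mp hnx
  show g * n * g⁻¹ ∈ zpowers x
  have hk' : x ^ k = n := hk
  rw [← hk', ← conj_zpow]
  rcases hg with hg | hg
  · rw [hg]; exact zpow_mem (mem_zpowers x) k
  · rw [hg]; exact zpow_mem (inv_mem (mem_zpowers x)) k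

theorem Hyp.comm_decomp [Finite G] [Finite V] {ρ : G →* MulAut V} (h : Hyp ρ)
    (hO : Cfsg.pCore 2 G = ⊥) {t x : G} (ht : t * t = 1) (hx : x ≠ 1)
    (hxo : Odd (orderOf x)) (htx : t * x * t⁻¹ = x⁻¹)
    (hmax : ∀ y : G, Odd (orderOf y) → t * y * t⁻¹ = y⁻¹ → x * y = y * x → y ∈ zpowers x)
    {b : G} (hb : b * x = x * b) :
    ∃ i : ℤ, ∃ c : G, c * t = t * c ∧ c * x = x * c ∧ b = x ^ i * c := by
  have : Fact (Nat.Prime 2) := ⟨Nat.prime_two⟩
  have htE : t ∈ ext x := Or.inr htx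
  let X := (zpowers x).subgroupOf (ext x)
  have hX : X.Normal := normal_zpowers x
  let tq : ext x ⧸ X := QuotientGroup.mk ⟨t, htE⟩
  have htq : tq * tq = 1 := by
    show ((QuotientGroup.mk (⟨t, htE⟩ * ⟨t, htE⟩ : ext x) : ext x ⧸ X)) = 1
    have : (⟨t, htE⟩ * ⟨t, htE⟩ : ext x) = 1 := Subtype.ext ht
    rw [this]; rfl
  -- no odd element of the quotient is inverted
  have hno : ∀ y : ext x ⧸ X, Odd (orderOf y) → tq * y * tq⁻¹ = y⁻¹ → y = 1 := by
    intro y' hyo hy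
    obtain ⟨⟨y, hyE⟩, rfl⟩ := QuotientGroup.mk_surjective y'
    set m := orderOf ((⟨y, hyE⟩ : ext x) : ext x ⧸ X) with hm
    have hyo' : Odd (orderOf y) := by
      refine Odd.of_dvd_nat (hyo.mul hxo) (orderOf_dvd_of_pow_eq_one ?_)
      have h1 : ((⟨y, hyE⟩ : ext x) : ext x ⧸ X) ^ m = 1 := pow_orderOf_eq_one _
      rw [← QuotientGroup.mk_pow, QuotientGroup.eq_one_iff, mem_subgroupOf] at h1
      obtain ⟨k, hk⟩ := mem_zpowers_iff.mp h1
      have hk' : x ^ k = y ^ m := hk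
      rw [pow_mul, ← hk', ← zpow_natCast, ← zpow_mul, mul_comm, zpow_mul, zpow_natCast,
        pow_orderOf_eq_one, one_zpow]
    have hyx : y * x * y⁻¹ = x := by
      rcases hyE with h1 | h1
      · exact h1
      · exfalso
        have h2 := H72.TwoClosed.inverts_pow_odd h1 hyo'
        rw [pow_orderOf_eq_one, one_mul, inv_one, mul_one] at h2
        exact hx (eq_one_of_sq hxo (by nth_rewrite 1 [h2]; group))
    have hxy : x * y = y * x := by
      nth_rewrite 1 [← hyx]; group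
    have h3 : (⟨t, htE⟩ * ⟨y, hyE⟩ * ⟨t, htE⟩⁻¹ * ⟨y, hyE⟩ : ext x) ∈ X := by
      rw [← QuotientGroup.eq_one_iff]
      have h4 : ((⟨t, htE⟩ * ⟨y, hyE⟩ * ⟨t, htE⟩⁻¹ * ⟨y, hyE⟩ : ext x) : ext x ⧸ X) =
        tq * ((⟨y, hyE⟩ : ext x) : ext x ⧸ X) * tq⁻¹ * ((⟨y, hyE⟩ : ext x) : ext x ⧸ X) := rfl
      rw [h4, hy, inv_mul_cancel]
    rw [mem_subgroupOf] at h3
    obtain ⟨k, hk⟩ := mem_zpowers_iff.mp h3
    have hk' : x ^ k = t * y * t⁻¹ * y := hk
    have hcomm : Commute (x ^ k) y := Commute.zpow_left hxy k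
    have h5 : t * y * t⁻¹ = x ^ k * y⁻¹ := by rw [hk']; group
    have h6 : t * (x ^ k) * t⁻¹ = (x ^ k)⁻¹ := by rw [← conj_zpow, htx, inv_zpow]
    have h7 : x ^ k * x ^ k = 1 := by
      have e1 : y = t * (t * y * t⁻¹) * t⁻¹ := by
        have : t * (t * y * t⁻¹) * t⁻¹ = (t * t) * y * (t * t)⁻¹ := by group
        rw [this, ht]; group
      rw [h5] at e1
      have e2 : t * (x ^ k * y⁻¹) * t⁻¹ = (t * x ^ k * t⁻¹) * (t * y * t⁻¹)⁻¹ := by group
      rw [e2, h6, h5] at e1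
      have e3 : (x ^ k)⁻¹ * (x ^ k * y⁻¹)⁻¹ = (x ^ k)⁻¹ * y * (x ^ k)⁻¹ := by group
      rw [e3] at e1
      have e4 : (x ^ k)⁻¹ * y = y * (x ^ k)⁻¹ := hcomm.inv_left.eq
      rw [e4] at e1
      have e5 : y * ((x ^ k)⁻¹ * (x ^ k)⁻¹) = y * 1 := by rw [mul_one, ← mul_assoc]; exact e1.symm
      have e6 := mul_left_cancel e5
      rw [← mul_inv_rev, inv_eq_one] at e6
      exact e6
    have h8 : x ^ k = 1 := by
      apply eq_one_of_sq _ h7
      refine Odd.of_dvd_nat hxo ?_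
      exact orderOf_dvd_of_mem_zpowers (zpow_mem (mem_zpowers x) k)
    rw [h8, one_mul] at h5
    have h9 := hmax y hyo' h5 hxy
    rw [QuotientGroup.eq_one_iff, mem_subgroupOf]
    exact h9
  obtain ⟨N, hN, hNp, htN⟩ := H55.BaerSuzuki.exists_normal_of_involution tq htq hno
  -- pull back to the centralizer
  have hCE : centralizer ({x} : Set G) ≤ ext x := by
    intro g hg
    left
    rw [mem_centralizer_singleton_iff.mp hg]; group
  let φ : centralizer ({x} : Set G) →* ext x ⧸ X :=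
    (QuotientGroup.mk' X).comp (Subgroup.inclusion hCE)
  have hφ : ∀ g : centralizer ({x} : Set G), φ g = 1 → (g : G) ∈ zpowers x := by
    intro g hg
    have h1 : ((Subgroup.inclusion hCE g : ext x) : ext x ⧸ X) = 1 := hg
    rw [QuotientGroup.eq_one_iff, mem_subgroupOf] at h1
    exact h1
  let N₁ : Subgroup (centralizer ({x} : Set G)) := N.comap φ
  have hN₁ : N₁.Normal := hN.comap φ
  have hodd1 : ∀ g ∈ N₁, Odd (orderOf g) → (g : G) ∈ zpowers x := by
    intro g hg hgo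
    apply hφ
    have h1 : φ g ∈ N := hg
    apply eq_one_of_odd hNp h1
    exact Odd.of_dvd_nat hgo (orderOf_map_dvd φ g)
  have hno1 : H72.TwoClosed.NoRealOdd N₁ := by
    rintro ⟨s, hs⟩ ⟨y, hy⟩ hyo hsy
    have hyo' : Odd (orderOf y) := by rwa [← Subgroup.orderOf_coe] at hyo
    have h1 := hodd1 y hy hyo'
    have hsx : (s : G) * x = x * s := mem_centralizer_singleton_iff.mp s.2
    obtain ⟨k, hk⟩ := mem_zpowers_iff.mp h1
    have h2 : s * y * s⁻¹ = y⁻¹ := congrArg Subtype.val hsy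
    have h2' : (s : G) * y * (s : G)⁻¹ = (y : G)⁻¹ := congrArg Subtype.val h2
    have h3 : (s : G) * y * (s : G)⁻¹ = y := by
      rw [← hk, ← conj_zpow, hsx]; group
    rw [h3] at h2'
    have h4 : y = 1 := by
      apply eq_one_of_sq hyo'
      apply Subtype.ext
      show (y : G) * y = 1
      nth_rewrite 1 [h2']; group
    exact Subtype.ext h4
  have h1 := hno1.odd_quotient
  have h2 : Cfsg.pCore 2 N₁ = ⊥ := by
    have h3 := H1.Cores.map_subtype_pCore 2 N₁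
    rw [h.pCore_cent hO hx hxo htx, inf_bot_eq,
      Subgroup.map_eq_bot_iff_of_injective _ (Subtype.val_injective)] at h3
    exact h3
  have h3 : Odd (Nat.card N₁) := by
    rw [Subgroup.card_eq_card_quotient_mul_card_subgroup (Cfsg.pCore 2 N₁), h2, Subgroup.card_bot,
      mul_one]
    rw [h2] at h1
    exact h1
  -- conclusion
  have hbC : b ∈ centralizer ({x} : Set G) := mem_centralizer_singleton_iff.mpr hb
  have hti : t⁻¹ = t := inv_of_sq ht
  have hmemC : b * t * b⁻¹ * t⁻¹ ∈ centralizer ({x} : Set G) := by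
    rw [mem_centralizer_singleton_iff]
    have e1 : t⁻¹ * x = x⁻¹ * t⁻¹ := by
      rw [hti, ← htx]; group
    have e2 : t * x = x⁻¹ * t := by rw [← htx]; group
    have e3 : t * x⁻¹ = x * t := by
      have : t * x⁻¹ = (t * x * t⁻¹)⁻¹ * t := by group
      rw [this, htx, inv_inv]
    have e4 : b⁻¹ * x⁻¹ = x⁻¹ * b⁻¹ := by
      rw [← mul_inv_rev, ← mul_inv_rev, hb]
    calc b * t * b⁻¹ * t⁻¹ * x = b * t * b⁻¹ * (t⁻¹ * x) := by group
      _ = b * t * (b⁻¹ * x⁻¹) * t⁻¹ := by rw [e1]; group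
      _ = b * (t * x⁻¹) * b⁻¹ * t⁻¹ := by rw [e4]; group
      _ = (b * x) * t * b⁻¹ * t⁻¹ := by rw [e3]; group
      _ = _ := by rw [hb]; group
  have h4 : (⟨_, hmemC⟩ : centralizer ({x} : Set G)) ∈ N₁ := by
    show φ _ ∈ N
    have e1 : φ ⟨_, hmemC⟩ = (((⟨b, hCE hbC⟩ : ext x) : ext x ⧸ X)) * tq *
      (((⟨b, hCE hbC⟩ : ext x) : ext x ⧸ X))⁻¹ * tq⁻¹ := rfl
    rw [e1]
    exact mul_mem (hN.conj_mem _ htN _) (inv_mem htN)
  have h5 := hodd1 _ h4 (Odd.of_dvd_nat h3 (by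
    have := orderOf_dvd_natCard (⟨_, h4⟩ : N₁)
    rwa [← Subgroup.orderOf_coe] at this))
  obtain ⟨j, hj⟩ := mem_zpowers_iff.mp h5
  obtain ⟨m, hm⟩ := hxo
  have hxx : x ^ ((m + 1) + (m + 1)) = x := by
    have : m + 1 + (m + 1) = orderOf x + 1 := by omega
    rw [this, pow_succ, pow_orderOf_eq_one, one_mul]
  set y := x ^ (m + 1) with hy
  have hyy : y * y = x := by rw [hy, ← pow_add]; exact hxx
  have hty : t * y * t⁻¹ = y⁻¹ := by rw [hy, ← conj_pow, htx, inv_pow]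
  have hj' : x ^ j = b * t * b⁻¹ * t⁻¹ := hj
  have hyj : y ^ j * y ^ j = x ^ j := by
    rw [← (Commute.refl y).mul_zpow, hyy]
  have htyj : t * y ^ j * t⁻¹ = (y ^ j)⁻¹ := by rw [← conj_zpow, hty, inv_zpow]
  have hyxc : (y ^ j)⁻¹ * x = x * (y ^ j)⁻¹ := by
    have : Commute y x := by rw [hy]; exact (Commute.refl x).pow_left _
    exact (this.zpow_left j).inv_left.eq
  refine ⟨((m + 1 : ℕ) : ℤ) * j, (y ^ j)⁻¹ * b, ?_, ?_, ?_⟩
  · have e1 : b * t = x ^ j * t * b := by rw [hj']; group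
    have e2 : y ^ j * t = t * (y ^ j)⁻¹ := by
      have : t * (y ^ j)⁻¹ = (t * y ^ j * t⁻¹)⁻¹ * t := by group
      rw [this, htyj, inv_inv]
    calc (y ^ j)⁻¹ * b * t = (y ^ j)⁻¹ * (b * t) := by group
      _ = (y ^ j)⁻¹ * (y ^ j * y ^ j) * t * b := by rw [e1, hyj]; group
      _ = (y ^ j * t) * b := by group
      _ = t * ((y ^ j)⁻¹ * b) := by rw [e2]; group
  · rw [mul_assoc, hb, ← mul_assoc, hyxc, mul_assoc]
  · rw [zpow_mul, zpow_natCast, ← hy]; group

end H25.RealAct
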