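import Cfsg.Agent.Lib.H25.RealAct4

set_option autoImplicit false

open Subgroup
open scoped Pointwise

namespace H25.RealAct

variable {G V : Type*} [Group G] [Group V]

theorem card_ne_one (A : Type*) [Group A] [Finite A] :
    Nat.card A = Nat.card {a : A // a ≠ 1} + 1 := by
  classical
  rw [← Finite.card_option]
  exact (Nat.card_congr (Equiv.optionSubtypeNe (1 : A))).symm

theorem Hyp.fix_ne_bot [Finite G] [Finite V] {ρ : G →* MulAut V} (h : Hyp ρ) {t : G}
    (ht : t * t = 1) : ∃ v : V, v ≠ 1 ∧ ρ t v = v := by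
  have htp : IsPGroup 2 (Subgroup.zpowers t) := by
    have h1 : orderOf t ∣ 2 ^ 1 := orderOf_dvd_of_pow_eq_one (by rw [pow_one, pow_two]; exact ht)
    exact IsPGroup.of_card_dvd_pow (n := 1) (by rw [Nat.card_zpowers]; exact h1)
  obtain ⟨v, hv, hv'⟩ := h.exists_fx htp
  exact ⟨v, hv, hv' t (mem_zpowers t)⟩

theorem Hyp.exists_sylow_fix [Finite G] [Finite V] {ρ : G →* MulAut V} (h : Hyp ρ)
    (v : V) (hv : v ≠ 1) : ∃ P : Sylow 2 G, ∀ g ∈ (P : Subgroup G), ρ g v = v := h.cen v hv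

/-- the order of a maximal element inverted by the involution `t` -/
theorem Hyp.order_eq [Finite G] [Finite V] {ρ : G →* MulAut V} (h : Hyp ρ)
    (hO : Cfsg.pCore 2 G = ⊥) {t x : G} (ht : t * t = 1) (ht1 : t ≠ 1) (hx : x ≠ 1)
    (hxo : Odd (orderOf x)) (htx : t * x * t⁻¹ = x⁻¹)
    (hmax : ∀ y : G, Odd (orderOf y) → t * y * t⁻¹ = y⁻¹ → x * y = y * x → y ∈ zpowers x) :
    orderOf x = Nat.card (fix ρ t) + 1 := by
  have : Fact (Nat.Prime 2) := ⟨Nat.prime_two⟩
  have hb : Function.Bijective (fun p : zpowers x × {w : fix ρ t // w ≠ 1} =>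
      (⟨ρ (p.1 : G) (p.2.1 : V), by
        intro h1
        apply p.2.2
        apply Subtype.ext
        exact (ρ (p.1 : G)).injective (h1.trans (map_one _).symm)⟩ : {v : V // v ≠ 1})) := by
    constructor
    · rintro ⟨⟨a, ha⟩, ⟨⟨w, hw⟩, hw1⟩⟩ ⟨⟨a', ha'⟩, ⟨⟨w', hw'⟩, hw1'⟩⟩ heq
      have heq' : ρ a w = ρ a' w' := congrArg Subtype.val heq
      obtain ⟨i, rfl⟩ := mem_zpowers_iff.mp ha
      obtain ⟨j, rfl⟩ := mem_zpowers_iff.mp ha'
      have hw1'' : w ≠ 1 := fun h1 => hw1 (Subtype.ext h1)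
      -- w' is fixed by t and y t y⁻¹ where y = x ^ (i - j)
      have h1 : w' = ρ (x ^ (i - j)) w := by
        rw [sub_eq_neg_add, zpow_add, map_mul, MulAut.mul_apply, heq', ← MulAut.mul_apply,
          ← map_mul, ← zpow_add, neg_add_cancel, zpow_zero, map_one, MulAut.one_apply]
      have h2 : x ^ (i - j) = 1 := by
        by_contra hne
        have hyo : Odd (orderOf (x ^ (i - j))) :=
          Odd.of_dvd_nat hxo (orderOf_dvd_of_mem_zpowers (zpow_mem (mem_zpowers x) _))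
        have hty : t * x ^ (i - j) * t⁻¹ = (x ^ (i - j))⁻¹ := by
          rw [← conj_zpow, htx, inv_zpow]
        have h3 : ρ (x ^ (i - j) * t * (x ^ (i - j))⁻¹) w' = w' := by
          rw [h1, ← MulAut.mul_apply, ← map_mul]
          have : x ^ (i - j) * t * (x ^ (i - j))⁻¹ * x ^ (i - j) = x ^ (i - j) * t := by group
          rw [this, map_mul, MulAut.mul_apply]
          congr 1
        have h4 := h.fix_both ht hne hyo hty hw' h3
        exact hw1' (Subtype.ext h4)
      have h3 : x ^ i = x ^ j := by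
        rwa [zpow_sub, mul_inv_eq_one] at h2
      rw [h2, map_one, MulAut.one_apply] at h1
      subst h1
      simp only [h3]
    · rintro ⟨v, hv⟩
      obtain ⟨P, hP⟩ := h.cen v hv
      have htp : IsPGroup 2 (Subgroup.zpowers t) := by
        have h1 : orderOf t ∣ 2 ^ 1 :=
          orderOf_dvd_of_pow_eq_one (by rw [pow_one, pow_two]; exact ht)
        exact IsPGroup.of_card_dvd_pow (n := 1) (by rw [Nat.card_zpowers]; exact h1)
      obtain ⟨Q, hQ⟩ := htp.exists_le_sylow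
      have htQ : t ∈ (Q : Subgroup G) := hQ (mem_zpowers t)
      obtain ⟨b, hb, hbP⟩ := h.sylow_tr hx hxo htx Q P
      obtain ⟨i, c, hct, hcx, hbc⟩ := h.comm_decomp hO ht hx hxo htx hmax hb
      have h1 := fx_smul hP b⁻¹
      have h2 : b⁻¹ • P = Q := by rw [← hbP, inv_smul_smul]
      rw [h2] at h1
      have h3 : ρ t (ρ b⁻¹ v) = ρ b⁻¹ v := h1 t htQ
      have h4 : ρ t (ρ c (ρ b⁻¹ v)) = ρ c (ρ b⁻¹ v) := by
        rw [← MulAut.mul_apply, ← map_mul, ← hct, map_mul, MulAut.mul_apply, h3]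
      refine ⟨⟨⟨x ^ i, zpow_mem (mem_zpowers x) i⟩, ⟨⟨ρ c (ρ b⁻¹ v), h4⟩, ?_⟩⟩, ?_⟩
      · intro h5
        have h6 : ρ c (ρ b⁻¹ v) = 1 := congrArg Subtype.val h5
        have h7 : ρ b⁻¹ v = 1 := (ρ c).injective (h6.trans (map_one _).symm)
        exact hv ((ρ b⁻¹).injective (h7.trans (map_one _).symm))
      · apply Subtype.ext
        show ρ (x ^ i) (ρ c (ρ b⁻¹ v)) = v
        rw [← MulAut.mul_apply, ← map_mul, ← hbc]
        exact rho_apply_inv b v
  have h1 := Nat.card_congr (Equiv.ofBijective _ hb)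
  rw [Nat.card_prod, Nat.card_zpowers] at h1
  have h2 := card_ne_one V
  have h3 := card_ne_one (fix ρ t)
  have h4 := h.card_fix hO ht ht1
  have h5 : 0 < Nat.card {w : fix ρ t // w ≠ 1} := by
    obtain ⟨v, hv, hv'⟩ := h.fix_ne_bot ht
    have : Nonempty {w : fix ρ t // w ≠ 1} := ⟨⟨⟨v, hv'⟩, fun h6 => hv (congrArg Subtype.val h6)⟩⟩
    exact Nat.card_pos
  set f := Nat.card {w : fix ρ t // w ≠ 1} with hf
  rw [h3] at h4 ⊢
  rw [h2, ← h1] at h4
  have h6 : f * (f + 2) = f * orderOf x := by nlinarith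
  have h7 := Nat.eq_of_mul_eq_mul_left h5 h6
  omega

theorem Hyp.no_commute [Finite G] [Finite V] {ρ : G →* MulAut V} (h : Hyp ρ)
    (hO : Cfsg.pCore 2 G = ⊥) {t x u : G} (ht : t * t = 1) (ht1 : t ≠ 1) (hx : x ≠ 1)
    (hxo : Odd (orderOf x)) (htx : t * x * t⁻¹ = x⁻¹) (hu : u * u = 1) (hu1 : u ≠ 1)
    (hux : u * x = x * u) : False := by
  classical
  obtain ⟨z, hzo, htz, hxz, hmax⟩ := h.exists_max hxo htx
  have hz : z ≠ 1 := by
    rintro rfl
    rw [zpowers_one_eq_bot, mem_bot] at hxz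
    exact hx hxz
  have h1 := h.order_eq hO ht ht1 hz hzo htz hmax
  have h2 : Nat.card (fix ρ u) = Nat.card (fix ρ t) := by
    have e1 := h.card_fix hO ht ht1
    have e2 := h.card_fix hO hu hu1
    rw [← e1] at e2
    exact Nat.mul_self_inj.mp e2
  have hne : orderOf x ≠ 1 := fun h3 => hx (orderOf_eq_one_iff.mp h3)
  set p := (orderOf x).minFac with hp
  have hpp : p.Prime := Nat.minFac_prime hne
  have : Fact p.Prime := ⟨hpp⟩
  have hpd : p ∣ orderOf x := Nat.minFac_dvd _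
  set y := x ^ (orderOf x / p) with hy
  have hyp : orderOf y = p := by
    rw [hy, orderOf_pow_of_dvd (by
      have := Nat.div_pos (Nat.le_of_dvd (orderOf_pos x) hpd) hpp.pos
      omega) (Nat.div_dvd_of_dvd hpd), Nat.div_div_self hpd (orderOf_pos x).ne']
  have hy1 : y ≠ 1 := by
    intro h3
    rw [h3, orderOf_one] at hyp
    exact hpp.one_lt.ne hyp
  have hpo : Odd p := Odd.of_dvd_nat hxo hpd
  have hty : t * y * t⁻¹ = y⁻¹ := by rw [hy, ← conj_pow, htx, inv_pow]
  have huy : u * y = y * u := by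
    have : Commute u x := hux
    exact (this.pow_right _).eq
  have hfix : ∀ v : V, ρ u v = v → ρ u (ρ y v) = ρ y v := by
    intro v hv
    rw [← MulAut.mul_apply, ← map_mul, huy, map_mul, MulAut.mul_apply, hv]
  let f : Function.End (fix ρ u) := fun v => ⟨ρ y v, hfix v v.2⟩
  have hfk : ∀ (k : ℕ) (v : fix ρ u), ((f ^ k) v : V) = ρ (y ^ k) v := by
    intro k
    induction k with
    | zero => intro v; rw [pow_zero, pow_zero, map_one]; rfl
    | succ k ih =>
      intro v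
      rw [pow_succ, pow_succ]
      show ((f ^ k) (f v) : V) = _
      rw [ih, map_mul, MulAut.mul_apply]
  have : Fintype (fix ρ u) := Fintype.ofFinite _
  have h3 : f ^ p ^ 1 = 1 := by
    funext v
    apply Subtype.ext
    rw [hfk, pow_one, ← hyp, pow_orderOf_eq_one, map_one]
    rfl
  have h4 := Equiv.Perm.card_fixedPoints_modEq h3
  have h5 : Fintype.card f.fixedPoints = 1 := by
    rw [Fintype.card_eq_one_iff]
    refine ⟨⟨1, ?_⟩, ?_⟩
    · apply Subtype.ext
      show ρ y 1 = 1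
      exact map_one _
    · rintro ⟨v, hv⟩
      have h6 : ρ y v = v := congrArg Subtype.val hv
      have h7 := h.fpf t y hy1 (by rw [hyp]; exact hpo) hty v h6
      exact Subtype.ext (Subtype.ext h7)
  rw [h5, ← Nat.card_eq_fintype_card, h2] at h4
  have h6 : p ∣ Nat.card (fix ρ t) + 1 := by
    rw [← h1]
    exact hpd.trans (orderOf_dvd_of_mem_zpowers hxz)
  have h7 : 0 ≡ 2 [MOD p] := by
    have := (Nat.modEq_zero_iff_dvd.mpr h6).symm.trans (Nat.ModEq.add_right 1 h4)
    exact this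
  have h8 : p ∣ 2 := (Nat.modEq_zero_iff_dvd.mp h7.symm)
  have h9 := (Nat.prime_dvd_prime_iff_eq hpp Nat.prime_two).mp h8
  rw [h9] at hpo
  exact absurd hpo (by decide)

end H25.RealAct
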