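import Cfsg.Agent.Lib.H25.RealAct5

set_option autoImplicit false

open Subgroup
open scoped Pointwise

namespace H25.RealAct

variable {G V : Type*} [Group G] [Group V]

theorem isPGroup_zpowers {t : G} (ht : t * t = 1) : IsPGroup 2 (Subgroup.zpowers t) := by
  have : Fact (Nat.Prime 2) := ⟨Nat.prime_two⟩
  have h1 : orderOf t ∣ 2 ^ 1 := orderOf_dvd_of_pow_eq_one (by rw [pow_one, pow_two]; exact ht)
  exact IsPGroup.of_card_dvd_pow (n := 1) (by rw [Nat.card_zpowers]; exact h1)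

theorem Hyp.mem_core [Finite G] [Finite V] {ρ : G →* MulAut V} (h : Hyp ρ)
    (hO : Cfsg.pCore 2 G = ⊥) {u v : G} (hu : u * u = 1) (hv : v * v = 1) (hv1 : v ≠ 1)
    (huv : u * v = v * u) :
    (⟨u, mem_centralizer_singleton_iff.mpr huv⟩ : centralizer ({v} : Set G)) ∈
      Cfsg.pCore 2 (centralizer ({v} : Set G)) := by
  by_cases hu1 : u = 1
  · subst hu1
    exact one_mem _
  obtain ⟨N, hN, hNp, huN⟩ := H55.BaerSuzuki.exists_normal_of_involution
    (⟨u, mem_centralizer_singleton_iff.mpr huv⟩ : centralizer ({v} : Set G)) (Subtype.ext hu) (by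
    rintro ⟨x, hx⟩ hxo hux
    by_contra hne
    have hxo' : Odd (orderOf x) := by rwa [← Subgroup.orderOf_coe] at hxo
    have hux' : u * x * u⁻¹ = x⁻¹ := congrArg Subtype.val hux
    have hx1 : x ≠ 1 := fun h1 => hne (Subtype.ext h1)
    have hxv := mem_centralizer_singleton_iff.mp hx
    exact h.no_commute hO hu hu1 hx1 hxo' hux' hv hv1 hxv.symm)
  exact H1.Cores.le_pCore hN hNp huN

/-- the centralizer of an involution is transitive on the Sylow subgroups containing it -/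
theorem Hyp.cent_tr [Finite G] [Finite V] {ρ : G →* MulAut V} (h : Hyp ρ)
    (hO : Cfsg.pCore 2 G = ⊥) {t : G} (ht : t * t = 1) (ht1 : t ≠ 1) {P Q : Sylow 2 G}
    (hP : t ∈ (P : Subgroup G)) (hQ : t ∈ (Q : Subgroup G)) :
    ∃ c : G, c * t = t * c ∧ c • P = Q := by
  obtain ⟨x₀, hx₀, hx₀o, htx₀⟩ := exists_real hO ht ht1
  obtain ⟨x, hxo, htx, hxx, hmax⟩ := h.exists_max hx₀o htx₀
  have hx : x ≠ 1 := by
    rintro rfl
    rw [zpowers_one_eq_bot, mem_bot] at hxx
    exact hx₀ hxx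
  obtain ⟨b, hb, hbP⟩ := h.sylow_tr hx hxo htx P Q
  obtain ⟨i, c, hct, hcx, hbc⟩ := h.comm_decomp hO ht hx hxo htx hmax hb
  refine ⟨c, hct, ?_⟩
  have h1 : b * t * b⁻¹ ∈ (Q : Subgroup G) := by
    rw [← hbP, mem_smul]
    have : b⁻¹ * (b * t * b⁻¹) * b = t := by group
    rw [this]; exact hP
  -- x^i t x^-i ∈ Q
  have h1 : x ^ i * t * (x ^ i)⁻¹ ∈ (Q : Subgroup G) := by
    have e1 : b * t * b⁻¹ = x ^ i * t * (x ^ i)⁻¹ := by
      rw [hbc]
      calc x ^ i * c * t * (x ^ i * c)⁻¹ = x ^ i * (c * t) * c⁻¹ * (x ^ i)⁻¹ := by group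
        _ = _ := by rw [hct]; group
    rwa [e1] at h1
  have hty : t * x ^ i * t⁻¹ = (x ^ i)⁻¹ := by rw [← conj_zpow, htx, inv_zpow]
  have h2 : x ^ i * x ^ i ∈ (Q : Subgroup G) := by
    have e1 : x ^ i * x ^ i = (x ^ i * t * (x ^ i)⁻¹) * t⁻¹ := by
      have : x ^ i * t * (x ^ i)⁻¹ * t⁻¹ = x ^ i * (t * x ^ i * t⁻¹)⁻¹ := by group
      rw [this, hty, inv_inv]
    rw [e1]
    exact mul_mem h1 (inv_mem hQ)
  have hxio : Odd (orderOf (x ^ i)) :=
    Odd.of_dvd_nat hxo (orderOf_dvd_of_mem_zpowers (zpow_mem (mem_zpowers x) i))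
  have h3 := eq_one_of_odd Q.2 h2 (by
    rw [← pow_two]
    exact Odd.of_dvd_nat hxio (orderOf_pow_dvd 2))
  have h4 := eq_one_of_sq hxio h3
  rw [h4, one_mul] at hbc
  rw [← hbc, hbP]

/-- the central involutions of a Sylow subgroup are central in every Sylow subgroup containing
them -/
theorem Hyp.central_of_mem [Finite G] [Finite V] {ρ : G →* MulAut V} (h : Hyp ρ)
    (hO : Cfsg.pCore 2 G = ⊥) {t : G} (ht : t * t = 1) (ht1 : t ≠ 1) {P Q : Sylow 2 G}
    (hP : t ∈ (P : Subgroup G)) (hPc : ∀ g ∈ (P : Subgroup G), g * t = t * g)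
    (hQ : t ∈ (Q : Subgroup G)) : ∀ g ∈ (Q : Subgroup G), g * t = t * g := by
  obtain ⟨c, hc, hcP⟩ := h.cent_tr hO ht ht1 hP hQ
  intro g hg
  rw [← hcP, mem_smul] at hg
  have h1 := hPc _ hg
  have e1 : c⁻¹ * g * c * t = c⁻¹ * (g * t) * c := by
    calc c⁻¹ * g * c * t = c⁻¹ * g * (c * t) := by group
      _ = _ := by rw [hc]; group
  have e2 : t * (c⁻¹ * g * c) = c⁻¹ * (t * g) * c := by
    have e3 : t * c⁻¹ = c⁻¹ * t := by
      have : t * c⁻¹ = c⁻¹ * (c * t) * c⁻¹ := by group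
      rw [this, hc]; group
    calc t * (c⁻¹ * g * c) = t * c⁻¹ * g * c := by group
      _ = _ := by rw [e3]; group
  rw [e1, e2] at h1
  exact mul_left_cancel (mul_right_cancel h1)

/-- if `t` is a central involution of `P` then the involutions of `P` are those commuting with `t` -/
theorem Hyp.inv_iff [Finite G] [Finite V] {ρ : G →* MulAut V} (h : Hyp ρ)
    (hO : Cfsg.pCore 2 G = ⊥) {t : G} (ht : t * t = 1) (ht1 : t ≠ 1) {P : Sylow 2 G}
    (hPc : ∀ g ∈ (P : Subgroup G), g * t = t * g) {u : G}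
    (hu : u * u = 1) : u ∈ (P : Subgroup G) ↔ u * t = t * u := by
  have : Fact (Nat.Prime 2) := ⟨Nat.prime_two⟩
  refine ⟨hPc u, fun h1 => ?_⟩
  have h2 := h.mem_core hO hu ht ht1 h1
  have hle : (P : Subgroup G) ≤ centralizer ({t} : Set G) := fun g hg =>
    mem_centralizer_singleton_iff.mpr (hPc g hg)
  have h3 := H1.Cores.pCore_le_sylow (P.subtype hle) h2
  rw [Sylow.coe_subtype, Subgroup.mem_subgroupOf] at h3
  exact h3

theorem exists_central [Finite G] {P : Sylow 2 G} {w : G} (hw : w ∈ (P : Subgroup G))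
    (hw1 : w ≠ 1) : ∃ t ∈ (P : Subgroup G), t * t = 1 ∧ t ≠ 1 ∧
      ∀ g ∈ (P : Subgroup G), g * t = t * g := by
  have : Fact (Nat.Prime 2) := ⟨Nat.prime_two⟩
  have hnt : Nontrivial (P : Subgroup G) := ⟨⟨⟨w, hw⟩, 1, fun h1 => hw1 (congrArg Subtype.val h1)⟩⟩
  have hZ := P.2.center_nontrivial
  have hZp : IsPGroup 2 (center (P : Subgroup G)) := P.2.to_subgroup _
  obtain ⟨n, hn, hcard⟩ := (hZp.nontrivial_iff_card).mp hZ
  have h2 : 2 ∣ Nat.card (center (P : Subgroup G)) := by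
    rw [hcard]; exact dvd_pow_self 2 hn.ne'
  obtain ⟨z, hz⟩ := exists_prime_orderOf_dvd_card' 2 h2
  have hz2 := pow_orderOf_eq_one z
  rw [hz, pow_two] at hz2
  refine ⟨((z : (P : Subgroup G)) : G), (z : (P : Subgroup G)).2, ?_, ?_, ?_⟩
  · exact congrArg (fun a : center (P : Subgroup G) => ((a : (P : Subgroup G)) : G)) hz2
  · intro h1
    have h3 : z = 1 := Subtype.ext (Subtype.ext h1)
    rw [h3, orderOf_one] at hz
    omega
  · intro g hg
    have h1 := mem_center_iff.mp z.2 ⟨g, hg⟩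
    exact congrArg Subtype.val h1

/-- Sylow subgroups sharing an involution have the same involutions -/
theorem Hyp.same [Finite G] [Finite V] {ρ : G →* MulAut V} (h : Hyp ρ)
    (hO : Cfsg.pCore 2 G = ⊥) {P Q : Sylow 2 G} {w : G} (hw : w * w = 1) (hw1 : w ≠ 1)
    (hP : w ∈ (P : Subgroup G)) (hQ : w ∈ (Q : Subgroup G)) {u : G} (hu : u * u = 1) :
    u ∈ (P : Subgroup G) ↔ u ∈ (Q : Subgroup G) := by
  have : Fact (Nat.Prime 2) := ⟨Nat.prime_two⟩
  obtain ⟨t, htP, ht, ht1, htc⟩ := exists_central hP hw1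
  obtain ⟨t', htQ, ht', ht1', htc'⟩ := exists_central hQ hw1
  obtain ⟨S⟩ : Nonempty (Sylow 2 (centralizer ({w} : Set G))) := inferInstance
  obtain ⟨T, hT⟩ := (S.2.map (centralizer ({w} : Set G)).subtype).exists_le_sylow
  have key : ∀ t : G, t * t = 1 → t * w = w * t → t ∈ (T : Subgroup G) := by
    intro t ht htw
    apply hT
    exact ⟨_, H1.Cores.pCore_le_sylow S (h.mem_core hO ht hw hw1 htw), rfl⟩
  have h1 := key t ht (htc w hP).symm
  have h2 := key t' ht' (htc' w hQ).symm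
  rw [h.inv_iff hO ht ht1 htc hu, h.inv_iff hO ht' ht1' htc' hu,
    ← h.inv_iff hO ht ht1 (h.central_of_mem hO ht ht1 htP htc h1) hu,
    ← h.inv_iff hO ht' ht1' (h.central_of_mem hO ht' ht1' htQ htc' h2) hu]

/-- the stabilizer of the set of involutions of `P` -/
def istab (P : Subgroup G) : Subgroup G where
  carrier := {g | ∀ u, u * u = 1 → (u ∈ P ↔ g * u * g⁻¹ ∈ P)}
  one_mem' := by intro u _; simp
  mul_mem' := by
    intro a b ha hb u hu
    rw [hb u hu, ha (b * u * b⁻¹) (by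
      calc b * u * b⁻¹ * (b * u * b⁻¹) = b * (u * u) * b⁻¹ := by group
        _ = 1 := by rw [hu]; group)]
    have : a * (b * u * b⁻¹) * a⁻¹ = a * b * u * (a * b)⁻¹ := by group
    rw [this]
  inv_mem' := by
    intro a ha u hu
    have h1 := ha (a⁻¹ * u * a⁻¹⁻¹) (by
      calc a⁻¹ * u * a⁻¹⁻¹ * (a⁻¹ * u * a⁻¹⁻¹) = a⁻¹ * (u * u) * a := by group
        _ = 1 := by rw [hu]; group)
    have : a * (a⁻¹ * u * a⁻¹⁻¹) * a⁻¹ = u := by group
    rw [this] at h1
    exact h1.symm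

theorem mem_istab {P : Subgroup G} {g : G} :
    g ∈ istab P ↔ ∀ u, u * u = 1 → (u ∈ P ↔ g * u * g⁻¹ ∈ P) := Iff.rfl

theorem le_istab (P : Subgroup G) : P ≤ istab P := by
  intro g hg u _
  constructor
  · intro h; exact mul_mem (mul_mem hg h) (inv_mem hg)
  · intro h
    have : u = g⁻¹ * (g * u * g⁻¹) * g := by group
    rw [this]; exact mul_mem (mul_mem (inv_mem hg) h) hg

theorem Hyp.mem_istab_of [Finite G] [Finite V] {ρ : G →* MulAut V} (h : Hyp ρ)
    (hO : Cfsg.pCore 2 G = ⊥) {P : Sylow 2 G} {w g : G} (hw : w * w = 1) (hw1 : w ≠ 1)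
    (hP : w ∈ (P : Subgroup G)) (hQ : g * w * g⁻¹ ∈ (P : Subgroup G)) :
    g ∈ istab (P : Subgroup G) := by
  intro u hu
  have h1 : w ∈ ((g⁻¹ • P : Sylow 2 G) : Subgroup G) := by
    rw [mem_smul]; simpa using hQ
  rw [h.same hO hw hw1 hP h1 hu, mem_smul, inv_inv]

/-- involutions of the stabilizer lie in `P` -/
theorem Hyp.mem_of_istab [Finite G] [Finite V] {ρ : G →* MulAut V} (h : Hyp ρ)
    (hO : Cfsg.pCore 2 G = ⊥) {P : Sylow 2 G} {w t : G} (hw : w * w = 1)
    (ht : t * t = 1) (ht1 : t ≠ 1) (htP : t ∈ (P : Subgroup G))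
    (hwH : w ∈ istab (P : Subgroup G)) : w ∈ (P : Subgroup G) := by
  have : Fact (Nat.Prime 2) := ⟨Nat.prime_two⟩
  let W : Subgroup G := closure {u | u * u = 1 ∧ u ∈ (P : Subgroup G)}
  have hWP : W ≤ (P : Subgroup G) := by
    rw [closure_le]; rintro u ⟨-, hu⟩; exact hu
  have hWp : IsPGroup 2 W := P.2.to_le hWP
  have hnorm : zpowers w ≤ normalizer (W : Set G) := by
    rw [zpowers_le]
    have key : ∀ g ∈ istab (P : Subgroup G), ∀ x ∈ W, g * x * g⁻¹ ∈ W := by
      intro g hg x hx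
      have h1 : W ≤ W.comap (MulAut.conj g).toMonoidHom := by
        show Subgroup.closure _ ≤ _
        rw [closure_le]
        rintro u ⟨hu1, hu2⟩
        apply Subgroup.subset_closure
        refine ⟨?_, ?_⟩
        · show g * u * g⁻¹ * (g * u * g⁻¹) = 1
          calc g * u * g⁻¹ * (g * u * g⁻¹) = g * (u * u) * g⁻¹ := by group
            _ = 1 := by rw [hu1]; group
        · exact (hg u hu1).mp hu2
      exact h1 hx
    rw [mem_normalizer_iff]
    intro x
    refine ⟨fun hx => key w hwH x hx, fun hx => ?_⟩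
    have := key w⁻¹ (inv_mem hwH) _ hx
    have e1 : w⁻¹ * (w * x * w⁻¹) * w⁻¹⁻¹ = x := by group
    rwa [e1] at this
  have hsup := (isPGroup_zpowers hw).to_sup_of_normal_right' hWp hnorm
  obtain ⟨Q, hQ⟩ := hsup.exists_le_sylow
  have htQ : t ∈ (Q : Subgroup G) := hQ (mem_sup_right (subset_closure ⟨ht, htP⟩))
  have hwQ : w ∈ (Q : Subgroup G) := hQ (mem_sup_left (mem_zpowers w))
  exact (h.same hO ht ht1 htP htQ hw).mpr hwQ

theorem Hyp.strEmb [Finite G] [Finite V] {ρ : G →* MulAut V} (h : Hyp ρ)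
    (hO : Cfsg.pCore 2 G = ⊥) {P : Sylow 2 G} {t : G}
    (ht : t * t = 1) (ht1 : t ≠ 1) (htP : t ∈ (P : Subgroup G)) :
    Cfsg.IsStronglyEmbedded (istab (P : Subgroup G)) := by
  have : Fact (Nat.Prime 2) := ⟨Nat.prime_two⟩
  refine ⟨?_, ?_, ?_⟩
  · intro htop
    let W : Subgroup G := closure {u | u * u = 1 ∧ u ∈ (P : Subgroup G)}
    have hWP : W ≤ (P : Subgroup G) := by
      rw [closure_le]; rintro u ⟨-, hu⟩; exact hu
    have hWp : IsPGroup 2 W := P.2.to_le hWP
    have hWn : W.Normal := by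
      constructor
      intro x hx g
      have hg : g ∈ istab (P : Subgroup G) := by rw [htop]; trivial
      have h1 : W ≤ W.comap (MulAut.conj g).toMonoidHom := by
        show Subgroup.closure _ ≤ _
        rw [closure_le]
        rintro u ⟨hu1, hu2⟩
        apply Subgroup.subset_closure
        refine ⟨?_, ?_⟩
        · show g * u * g⁻¹ * (g * u * g⁻¹) = 1
          calc g * u * g⁻¹ * (g * u * g⁻¹) = g * (u * u) * g⁻¹ := by group
            _ = 1 := by rw [hu1]; group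
        · exact (hg u hu1).mp hu2
      exact h1 hx
    have h1 : t ∈ Cfsg.pCore 2 G := H1.Cores.le_pCore hWn hWp (subset_closure ⟨ht, htP⟩)
    rw [hO, mem_bot] at h1
    exact ht1 h1
  · rw [even_iff_two_dvd]
    have h1 : orderOf t = 2 := orderOf_eq_prime (by rw [pow_two]; exact ht) ht1
    have h2 := Subgroup.orderOf_dvd_natCard _ (le_istab _ htP)
    rwa [h1] at h2
  · intro g hg
    rw [← Nat.not_even_iff_odd]
    intro hev
    obtain ⟨⟨w, hw⟩, hwo⟩ := exists_prime_orderOf_dvd_card' 2 (even_iff_two_dvd.mp hev)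
    rw [Subgroup.orderOf_mk] at hwo
    have hw2 : w * w = 1 := by
      have := pow_orderOf_eq_one w
      rwa [hwo, pow_two] at this
    have hw1 : w ≠ 1 := by
      rintro rfl
      rw [orderOf_one] at hwo
      omega
    obtain ⟨hwH, hwH'⟩ := mem_inf.mp hw
    rw [H25.StrEmb.mem_map_conj] at hwH'
    have hw3 : (g⁻¹ * w * g) * (g⁻¹ * w * g) = 1 := by
      calc (g⁻¹ * w * g) * (g⁻¹ * w * g) = g⁻¹ * (w * w) * g := by group
        _ = 1 := by rw [hw2]; group
    have h1 := h.mem_of_istab hO hw2 ht ht1 htP hwH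
    have h2 := h.mem_of_istab hO hw3 ht ht1 htP hwH'
    have h3 : g⁻¹ ∈ istab (P : Subgroup G) :=
      h.mem_istab_of hO hw2 hw1 h1 (by simpa using h2)
    exact hg (by simpa using inv_mem h3)

/-- **Theorem U**: a Sylow `2`-subgroup contains at most one involution. -/
theorem Hyp.unique_inv [Finite G] [Finite V] {ρ : G →* MulAut V} (h : Hyp ρ)
    (hO : Cfsg.pCore 2 G = ⊥) {P : Sylow 2 G} {s t : G}
    (hs : s * s = 1) (hs1 : s ≠ 1) (hsP : s ∈ (P : Subgroup G))
    (ht : t * t = 1) (ht1 : t ≠ 1) (htP : t ∈ (P : Subgroup G)) : s = t := by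
  have : Fact (Nat.Prime 2) := ⟨Nat.prime_two⟩
  have hH := h.strEmb hO hs hs1 hsP
  set H := istab (P : Subgroup G) with hHdef
  obtain ⟨g, hg⟩ : ∃ g : G, g ∉ H := by
    by_contra hcon
    push Not at hcon
    exact hH.1 (eq_top_iff.mpr fun g _ => hcon g)
  have hs2 : orderOf s = 2 := orderOf_eq_prime (by rw [pow_two]; exact hs) hs1
  have ht2 : orderOf t = 2 := orderOf_eq_prime (by rw [pow_two]; exact ht) ht1
  set u := g * s * g⁻¹ with hu
  have hu2 : orderOf u = 2 := by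
    have := MulEquiv.orderOf_eq (MulAut.conj g) s
    simpa [MulAut.conj_apply, hs2] using this
  have huu : u * u = 1 := by
    have := pow_orderOf_eq_one u
    rwa [hu2, pow_two] at this
  have huH : u ∉ H := by
    intro h1
    have h2 := h.mem_of_istab hO huu hs hs1 hsP h1
    exact hg (h.mem_istab_of hO hs hs1 hsP h2)
  have hui : u⁻¹ = u := inv_of_sq huu
  -- `D` is centralized by `u`
  have hD : ∀ d ∈ H ⊓ H.map (MulAut.conj u).toMonoidHom, u * d * u⁻¹ = d := by
    intro d hd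
    have hdH := (mem_inf.mp hd).1
    have hdH' := (mem_inf.mp hd).2
    rw [H25.StrEmb.mem_map_conj] at hdH'
    have hodd := hH.2.2 u huH
    have hd' : u * d * u⁻¹ ∈ H ⊓ H.map (MulAut.conj u).toMonoidHom := by
      rw [mem_inf, H25.StrEmb.mem_map_conj]
      refine ⟨?_, ?_⟩
      · rw [hui] at hdH' ⊢; exact hdH'
      · have : u⁻¹ * (u * d * u⁻¹) * u = d := by group
        rw [this]; exact hdH
    set x := d⁻¹ * (u * d * u⁻¹) with hx
    have hxD : x ∈ H ⊓ H.map (MulAut.conj u).toMonoidHom := mul_mem (inv_mem hd) hd'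
    have hxo : Odd (orderOf x) := Odd.of_dvd_nat hodd (Subgroup.orderOf_dvd_natCard _ hxD)
    have hux : u * x * u⁻¹ = x⁻¹ := by
      rw [hx]
      calc u * (d⁻¹ * (u * d * u⁻¹)) * u⁻¹ = (u * d⁻¹ * u⁻¹) * (u * u) * d * (u * u)⁻¹ := by group
        _ = (d⁻¹ * (u * d * u⁻¹))⁻¹ := by rw [huu]; group
    have hx1 : x = 1 := by
      by_contra hne
      obtain ⟨Q, hQ⟩ := (isPGroup_zpowers huu).exists_le_sylow
      have huQ : u ∈ (Q : Subgroup G) := hQ (mem_zpowers u)
      obtain ⟨c, hc, hcP⟩ := h.sylow_tr hne hxo hux P Q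
      rw [← hcP, mem_smul] at huQ
      have hxH : x ∈ H := (mem_inf.mp hxD).1
      have h1 := (hxH (c⁻¹ * u * c) (by
        calc c⁻¹ * u * c * (c⁻¹ * u * c) = c⁻¹ * (u * u) * c := by group
          _ = 1 := by rw [huu]; group)).mp huQ
      have e1 : c⁻¹ * x = x * c⁻¹ := by
        have : c⁻¹ * x = c⁻¹ * (x * c) * c⁻¹ := by group
        rw [this, ← hc]; group
      have e2 : x * (c⁻¹ * u * c) * x⁻¹ = c⁻¹ * (x * u * x⁻¹) * c := by
        have e3 : c * x⁻¹ = x⁻¹ * c := by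
          have : c * x⁻¹ = (x * c⁻¹)⁻¹ := by group
          rw [this, ← e1]; group
        calc x * (c⁻¹ * u * c) * x⁻¹ = (x * c⁻¹) * u * (c * x⁻¹) := by group
          _ = _ := by rw [← e1, e3]; group
      rw [e2] at h1
      have h2 : c⁻¹ * (x * x) * c ∈ (P : Subgroup G) := by
        have h3 := mul_mem h1 (inv_mem huQ)
        have e4 : c⁻¹ * (x * u * x⁻¹) * c * (c⁻¹ * u * c)⁻¹ =
            c⁻¹ * (x * (u * x * u⁻¹)⁻¹) * c := by group
        rw [e4, hux, inv_inv] at h3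
        exact h3
      have h5 : Odd (orderOf (c⁻¹ * (x * x) * c)) := by
        have h6 := MulEquiv.orderOf_eq (MulAut.conj c⁻¹) (x * x)
        rw [MulAut.conj_apply, inv_inv] at h6
        rw [h6, ← pow_two]
        exact Odd.of_dvd_nat hxo (orderOf_pow_dvd 2)
      have h6 := eq_one_of_odd P.2 h2 h5
      have h7 : x * x = 1 := by
        have : x * x = c * (c⁻¹ * (x * x) * c) * c⁻¹ := by group
        rw [this, h6]; group
      exact hne (eq_one_of_sq hxo h7)
    rw [hx, inv_mul_eq_one] at hx1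
    exact hx1.symm
  -- the midpoint argument
  set x : G ⧸ H := QuotientGroup.mk 1 with hx
  set y : G ⧸ H := QuotientGroup.mk u with hy
  have hux : u • x = y := by
    rw [hx, hy, H25.StrEmb.smul_mk_eq_iff]; simp
  have huy : u • y = x := by
    rw [← hux, ← mul_smul, huu, one_smul]
  have hxy : x ≠ y := by
    rw [hx, hy, Ne, QuotientGroup.eq]; simpa using huH
  have hsx : s • x = x := by
    rw [hx, H25.StrEmb.smul_mk_eq_iff]; simpa using le_istab _ hsP
  have htx : t • x = x := by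
    rw [hx, H25.StrEmb.smul_mk_eq_iff]; simpa using le_istab _ htP
  have hw : orderOf (u * t * u⁻¹) = 2 := by
    have := MulEquiv.orderOf_eq (MulAut.conj u) t
    simpa [MulAut.conj_apply, ht2] using this
  have hwy : (u * t * u⁻¹) • y = y := by
    rw [← hux, ← mul_smul]
    have : u * t * u⁻¹ * u = u * t := by group
    rw [this, mul_smul, htx]
  obtain ⟨i, hi, hi1, hi2⟩ := H25.StrEmb.exists_mid hH hs2 hw hsx hwy hxy
  have hii : i * i = 1 := by
    have := pow_orderOf_eq_one i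
    rwa [hi, pow_two] at this
  have hiy : i • y = x := by
    rw [← hi2, ← mul_smul, hii, one_smul]
  have hd : u⁻¹ * i ∈ H ⊓ H.map (MulAut.conj u).toMonoidHom := by
    refine Subgroup.mem_inf.2 ⟨?_, ?_⟩
    · have : (u⁻¹ * i) • x = x := by
        rw [mul_smul, hi2, inv_smul_eq_iff, hux]
      rw [hx, H25.StrEmb.smul_mk_eq_iff] at this
      simpa using this
    · have : (u⁻¹ * i) • y = y := by
        rw [mul_smul, hiy, inv_smul_eq_iff, huy]
      rw [hy, H25.StrEmb.smul_mk_eq_iff] at this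
      rw [H25.StrEmb.mem_map_conj]
      exact this
  have h1 := hD _ hd
  have h2 : (u⁻¹ * i) * (u⁻¹ * i) = 1 := by
    nth_rewrite 1 [← h1]
    have : u * (u⁻¹ * i) * u⁻¹ * (u⁻¹ * i) = i * (u * u)⁻¹ * i := by group
    rw [this, huu, inv_one, mul_one, hii]
  have h3 : u⁻¹ * i = 1 := by
    apply eq_one_of_sq _ h2
    exact Odd.of_dvd_nat (hH.2.2 u huH) (Subgroup.orderOf_dvd_natCard _ hd)
  have h4 : i = u := by rw [inv_mul_eq_one] at h3; exact h3.symm
  rw [h4] at hi1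
  exact mul_left_cancel (mul_right_cancel hi1)

end H25.RealAct
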