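import Cfsg.Agent.Lib.H25.RealAct6
import Cfsg.Agent.Lib.H1.UniqueSub

set_option autoImplicit false

open Subgroup
open scoped Pointwise

namespace H25.RealAct

/-- a `2`-group with a unique involution `t` and essentially one square root of `t` is cyclic -/
theorem cyclic_of_roots {T : Type*} [Group T] [Finite T] (hT : IsPGroup 2 T) {t : T}
    (hu : ∀ s : T, s * s = 1 → s = 1 ∨ s = t) (hr : ∀ r₁ r₂ : T, r₁ * r₁ = t → r₂ * r₂ = t →
      r₁⁻¹ * r₂ = 1 ∨ r₁⁻¹ * r₂ = t) : IsCyclic T := by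
  have : Fact (Nat.Prime 2) := ⟨Nat.prime_two⟩
  rcases H1.UniqueSub.cyclic_or_quaternion 2 hT (by
    have key : ∀ H : Subgroup T, Nat.card H = 2 → t ∈ H ∧ ∀ x ∈ H, x = 1 ∨ x = t := by
      intro H hH
      have h1 : ∀ x ∈ H, x = 1 ∨ x = t := by
        intro x hx
        apply hu
        have h2 : (⟨x, hx⟩ : H) ^ Nat.card H = 1 := pow_card_eq_one'
        rw [hH, pow_two] at h2
        exact congrArg Subtype.val h2
      refine ⟨?_, h1⟩
      obtain ⟨⟨x, hx⟩, hx1⟩ := exists_prime_orderOf_dvd_card' (G := H) 2 (by rw [hH])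
      rcases h1 x hx with h3 | h3
      · subst h3
        exfalso
        rw [Subgroup.orderOf_mk, orderOf_one] at hx1
        omega
      · rwa [← h3]
    intro H K hH hK
    obtain ⟨h1, h2⟩ := key H hH
    obtain ⟨h3, h4⟩ := key K hK
    apply le_antisymm
    · intro x hx
      rcases h2 x hx with rfl | rfl
      · exact one_mem _
      · exact h3
    · intro x hx
      rcases h4 x hx with rfl | rfl
      · exact one_mem _
      · exact h1) with h1 | ⟨-, n, ⟨e⟩⟩
  · exact h1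
  · have hn : NeZero (2 ^ n) := ⟨by positivity⟩
    have hn2 : NeZero (2 * 2 ^ n) := ⟨by positivity⟩
    have e0 : e.symm (QuaternionGroup.a (2 ^ n : ℕ)) = t := by
      rcases hu (e.symm (QuaternionGroup.a (2 ^ n : ℕ))) (by
        rw [← map_mul, QuaternionGroup.a_mul_a]
        have : ((2 ^ n : ℕ) : ZMod (2 * 2 ^ n)) + ((2 ^ n : ℕ) : ZMod (2 * 2 ^ n)) = 0 := by
          rw [← two_mul]
          have := ZMod.natCast_self (2 * 2 ^ n)
          push_cast at this ⊢
          exact this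
        rw [this, QuaternionGroup.a_zero, map_one]) with h1 | h1
      · exfalso
        rw [map_eq_one_iff _ e.symm.injective, QuaternionGroup.one_def, QuaternionGroup.a.injEq,
          ZMod.natCast_eq_zero_iff] at h1
        have := Nat.le_of_dvd (by positivity) h1
        have : 0 < 2 ^ n := by positivity
        omega
      · exact h1
    have e1 : ∀ i, e.symm (QuaternionGroup.xa i) * e.symm (QuaternionGroup.xa i) = t := by
      intro i
      rw [← map_mul, ← pow_two, QuaternionGroup.xa_sq, e0]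
    have h1 := hr _ _ (e1 0) (e1 1)
    have e2 : (QuaternionGroup.xa (0 : ZMod (2 * 2 ^ n)))⁻¹ * QuaternionGroup.xa 1 =
        QuaternionGroup.a 1 := by
      rw [inv_mul_eq_iff_eq_mul, QuaternionGroup.xa_mul_a, zero_add]
    rw [← map_inv, ← map_mul, e2, ← e0] at h1
    have hn0 : n = 0 := by
      rcases h1 with h1 | h1
      · exfalso
        rw [map_eq_one_iff _ e.symm.injective, QuaternionGroup.one_def,
          QuaternionGroup.a.injEq] at h1
        have h2 : ((1 : ℕ) : ZMod (2 * 2 ^ n)) = 0 := by simpa using h1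
        rw [ZMod.natCast_eq_zero_iff] at h2
        have := Nat.le_of_dvd (by positivity) h2
        have : 0 < 2 ^ n := by positivity
        omega
      · have h2 := e.symm.injective h1
        rw [QuaternionGroup.a.injEq] at h2
        have h3 : ((1 : ℕ) : ZMod (2 * 2 ^ n)) = ((2 ^ n : ℕ) : ZMod (2 * 2 ^ n)) := by
          simpa using h2
        rw [ZMod.natCast_eq_natCast_iff'] at h3
        have h4 : 0 < 2 ^ n := by positivity
        rw [Nat.mod_eq_of_lt (by omega), Nat.mod_eq_of_lt (by omega)] at h3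
        by_contra hne
        have h5 : 2 ∣ 2 ^ n := dvd_pow_self 2 hne
        omega
    subst hn0
    have : IsCyclic (QuaternionGroup (2 ^ 0)) := by
      rw [pow_zero]; exact QuaternionGroup.quaternionGroup_one_isCyclic
    exact isCyclic_of_surjective e.symm e.symm.surjective

variable {G V : Type*} [Group G] [Group V]

/-- the action of `C_G(t)` on the fixed vectors of `t` -/
def resFix (ρ : G →* MulAut V) (t : G) : centralizer ({t} : Set G) →* MulAut (fix ρ t) where
  toFun c :=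
    { toFun := fun v => ⟨ρ (c : G) v, by
        rw [mem_fix, ← MulAut.mul_apply, ← map_mul, ← mem_centralizer_singleton_iff.mp c.2,
          map_mul, MulAut.mul_apply, mem_fix.mp v.2]⟩
      invFun := fun v => ⟨ρ (c : G)⁻¹ v, by
        have h1 : (c : G)⁻¹ ∈ centralizer ({t} : Set G) := inv_mem c.2
        rw [mem_fix, ← MulAut.mul_apply, ← map_mul, ← mem_centralizer_singleton_iff.mp h1,
          map_mul, MulAut.mul_apply, mem_fix.mp v.2]⟩
      left_inv := fun v => Subtype.ext (rho_inv_apply _ _)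
      right_inv := fun v => Subtype.ext (rho_apply_inv _ _)
      map_mul' := fun v w => Subtype.ext (map_mul _ _ _) }
  map_one' := by
    ext v
    show ρ ((1 : centralizer ({t} : Set G)) : G) v = v
    simp
  map_mul' a b := by
    ext v
    show ρ ((a * b : centralizer ({t} : Set G)) : G) v = ρ a (ρ b v)
    rw [Subgroup.coe_mul, map_mul, MulAut.mul_apply]

theorem resFix_apply (ρ : G →* MulAut V) (t : G) (c : centralizer ({t} : Set G)) (v : fix ρ t) :
    ((resFix ρ t c v : fix ρ t) : V) = ρ (c : G) v := rfl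

theorem Hyp.quot [Finite G] {ρ : G →* MulAut V} (h : Hyp ρ) (N : Subgroup G) [hNn : N.Normal]
    (hN : IsPGroup 2 N) :
    ∃ ρ' : G ⧸ N →* MulAut V, (∀ g : G, ρ' (g : G ⧸ N) = ρ g) ∧ Hyp ρ' := by
  have : Fact (Nat.Prime 2) := ⟨Nat.prime_two⟩
  have hker : ∀ g ∈ N, ρ g = 1 := by
    intro g hg
    ext v
    rw [MulAut.one_apply]
    by_cases hv : v = 1
    · rw [hv, map_one]
    · obtain ⟨P, hP⟩ := h.cen v hv
      exact hP g (H1.Cores.pCore_le_sylow P (H1.Cores.le_pCore hNn hN hg))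
  refine ⟨QuotientGroup.lift N ρ hker, fun g => rfl, ?_⟩
  have hap : ∀ g : G, QuotientGroup.lift N ρ hker (g : G ⧸ N) = ρ g := fun g => rfl
  refine ⟨h.sq, h.nt, ?_, ?_, ?_⟩
  · intro v hv
    obtain ⟨P, hP⟩ := h.cen v hv
    refine ⟨P.mapSurjective (QuotientGroup.mk'_surjective N), ?_⟩
    intro g hg
    rw [Sylow.coe_mapSurjective] at hg
    obtain ⟨g, hg', rfl⟩ := hg
    exact hP g hg'
  · intro t x hx hxo htx v hv
    obtain ⟨s, z, hz, hzo, -, hsz⟩ := H72.TwoClosed.lift_real N hN t x hxo htx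
    subst hz
    refine h.fpf s z ?_ hzo hsz v hv
    rintro rfl
    exact hx rfl
  · intro t x hx hxo htx v hv g
    obtain ⟨s, z, hz, hzo, -, hsz⟩ := H72.TwoClosed.lift_real N hN t x hxo htx
    subst hz
    obtain ⟨g, rfl⟩ := QuotientGroup.mk_surjective g
    obtain ⟨c, hc, hcv⟩ := h.tr s z (by rintro rfl; exact hx rfl) hzo hsz v hv g
    refine ⟨c, ?_, hcv⟩
    rw [← QuotientGroup.mk_mul, hc, QuotientGroup.mk_mul]

theorem Hyp.central_unique [Finite G] [Finite V] {ρ : G →* MulAut V} (h : Hyp ρ)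
    (hO : Cfsg.pCore 2 G = ⊥) {t : G} (ht : t * t = 1) (ht1 : t ≠ 1) {P : Sylow 2 G}
    (hP : t ∈ (P : Subgroup G)) : (P : Subgroup G) ≤ centralizer ({t} : Set G) := by
  intro g hg
  rw [mem_centralizer_singleton_iff]
  have h1 := h.unique_inv hO (P := P) (s := g * t * g⁻¹) (t := t) (by
      calc g * t * g⁻¹ * (g * t * g⁻¹) = g * (t * t) * g⁻¹ := by group
        _ = 1 := by rw [ht]; group) (by
      intro h2
      apply ht1
      have : t = g⁻¹ * (g * t * g⁻¹) * g := by group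
      rw [this, h2]; group)
    (mul_mem (mul_mem hg hP) (inv_mem hg)) ht ht1 hP
  rw [mul_inv_eq_iff_eq_mul] at h1
  exact h1

theorem Hyp.restr [Finite G] [Finite V] {ρ : G →* MulAut V} (h : Hyp ρ)
    (hO : Cfsg.pCore 2 G = ⊥) {t : G} (ht : t * t = 1) (ht1 : t ≠ 1) : Hyp (resFix ρ t) := by
  have : Fact (Nat.Prime 2) := ⟨Nat.prime_two⟩
  have hmemP : ∀ v : fix ρ t, v ≠ 1 → ∀ P : Sylow 2 G,
      (∀ g ∈ (P : Subgroup G), ρ g (v : V) = v) → t ∈ (P : Subgroup G) := by
    intro v hv P hP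
    exact h.mem_of_fix (fun h1 => hv (Subtype.ext h1)) hP (k := 1)
      (by rw [pow_one, pow_two]; exact ht) v.2
  refine ⟨?_, ?_, ?_, ?_, ?_⟩
  · intro v; exact Subtype.ext (h.sq v)
  · obtain ⟨v, hv, hv'⟩ := h.fix_ne_bot ht
    exact ⟨⟨v, hv'⟩, fun h1 => hv (congrArg Subtype.val h1)⟩
  · intro v hv
    obtain ⟨P, hP⟩ := h.cen v (fun h1 => hv (Subtype.ext h1))
    have htP := hmemP v hv P hP
    refine ⟨P.subtype (h.central_unique hO ht ht1 htP), ?_⟩
    intro g hg
    rw [Sylow.coe_subtype, Subgroup.mem_subgroupOf] at hg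
    exact Subtype.ext (hP g hg)
  · rintro ⟨s, hs⟩ ⟨x, hx⟩ hx1 hxo hsx v hv
    have h1 := h.fpf s x (fun h1 => hx1 (Subtype.ext h1)) (by rwa [Subgroup.orderOf_mk] at hxo)
      (congrArg Subtype.val hsx) v (congrArg Subtype.val hv)
    exact Subtype.ext h1
  · rintro ⟨s, hs⟩ ⟨x, hx⟩ hx1 hxo hsx v hv ⟨g, hg⟩
    have hv1 : (v : V) ≠ 1 := fun h1 => hv (Subtype.ext h1)
    obtain ⟨c, hc, hcv⟩ := h.tr s x (fun h1 => hx1 (Subtype.ext h1))
      (by rwa [Subgroup.orderOf_mk] at hxo) (congrArg Subtype.val hsx) v hv1 g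
    obtain ⟨P, hP⟩ := h.cen v hv1
    have htP := hmemP v hv P hP
    -- w = ρ g v
    have hw := (resFix ρ t ⟨g, hg⟩ v).2
    rw [resFix_apply] at hw
    have h1 := fx_smul hP c
    rw [hcv] at h1
    have htcP := hmemP (resFix ρ t ⟨g, hg⟩ v) (by
      intro h2
      apply hv
      exact (resFix ρ t ⟨g, hg⟩).injective (h2.trans (map_one _).symm)) (c • P) h1
    have hcc : c ∈ centralizer ({t} : Set G) := by
      rw [mem_centralizer_singleton_iff]
      have h2 : c * t * c⁻¹ ∈ ((c • P : Sylow 2 G) : Subgroup G) := by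
        rw [mem_smul]
        have : c⁻¹ * (c * t * c⁻¹) * c = t := by group
        rw [this]; exact htP
      have h3 := h.unique_inv hO (P := c • P) (s := c * t * c⁻¹) (t := t) (by
          calc c * t * c⁻¹ * (c * t * c⁻¹) = c * (t * t) * c⁻¹ := by group
            _ = 1 := by rw [ht]; group) (by
          intro h2
          apply ht1
          have : t = c⁻¹ * (c * t * c⁻¹) * c := by group
          rw [this, h2]; group) h2 ht ht1 htcP
      rw [mul_inv_eq_iff_eq_mul] at h3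
      exact h3
    refine ⟨⟨c, hcc⟩, Subtype.ext hc, Subtype.ext hcv⟩

/-- **the Sylow `2`-subgroups are cyclic** -/
theorem Hyp.cyclic_of_bot [Finite G] [Finite V] {ρ : G →* MulAut V} (h : Hyp ρ)
    (hO : Cfsg.pCore 2 G = ⊥) (S : Sylow 2 G) : IsCyclic (S : Subgroup G) := by
  have : Fact (Nat.Prime 2) := ⟨Nat.prime_two⟩
  by_cases hinv : ∃ t ∈ (S : Subgroup G), t * t = 1 ∧ t ≠ 1
  swap
  · -- S = 1
    have hbot : (S : Subgroup G) = ⊥ := by
      rw [eq_bot_iff]
      intro s hs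
      by_contra hne
      obtain ⟨t, htS, ht, ht1, -⟩ := exists_central hs (fun h1 => hne (mem_bot.mpr h1))
      exact hinv ⟨t, htS, ht, ht1⟩
    rw [hbot]
    infer_instance
  obtain ⟨t, htS, ht, ht1⟩ := hinv
  have hSH := h.central_unique hO ht ht1 htS
  have h₁ := h.restr hO ht ht1
  set H₁ := centralizer ({t} : Set G) with hH₁
  have htH : t ∈ H₁ := hSH htS
  have hRS : ∀ P : Sylow 2 G, t ∈ (P : Subgroup G) → ∀ r ∈ Cfsg.pCore 2 H₁,
      (r : G) ∈ (P : Subgroup G) := by
    intro P hP r hr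
    have h3 := H1.Cores.pCore_le_sylow (P.subtype (h.central_unique hO ht ht1 hP)) hr
    rw [Sylow.coe_subtype, Subgroup.mem_subgroupOf] at h3
    exact h3
  -- elements of `O₂(H₁)` act trivially on `fix t`
  have hRfix : ∀ r ∈ Cfsg.pCore 2 H₁, ∀ v : V, ρ t v = v → ρ (r : G) v = v := by
    intro r hr v hv
    by_cases hv1 : v = 1
    · rw [hv1, map_one]
    obtain ⟨P, hP⟩ := h.cen v hv1
    have htP : t ∈ (P : Subgroup G) := h.mem_of_fix hv1 hP (k := 1)
      (by rw [pow_one, pow_two]; exact ht) hv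
    exact hP _ (hRS P htP r hr)
  have hR2 : ∀ r ∈ Cfsg.pCore 2 H₁, ∀ v : V, ρ ((r : G) * r) v = v := by
    intro r hr v
    have hrt : (r : G) * t = t * r := mem_centralizer_singleton_iff.mp r.2
    have e1 : ρ t (v * ρ t v) = v * ρ t v := by
      rw [map_mul, h.comm]
      congr 1
      rw [← MulAut.mul_apply, ← map_mul, ht, map_one, MulAut.one_apply]
    have e2 := hRfix r hr _ e1
    have e3 : ρ (r : G) (ρ t v) = ρ t (ρ (r : G) v) := by
      rw [← MulAut.mul_apply, ← map_mul, hrt, map_mul, MulAut.mul_apply]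
    rw [map_mul, e3] at e2
    -- d = v * ρ r v is fixed by t
    have e4 : ρ t (v * ρ (r : G) v) = v * ρ (r : G) v := by
      have e5 : (v * ρ (r : G) v) * (ρ t (v * ρ (r : G) v)) = 1 := by
        rw [map_mul]
        calc v * ρ (r : G) v * (ρ t v * ρ t (ρ (r : G) v))
            = v * (ρ (r : G) v * ρ t v) * ρ t (ρ (r : G) v) := by group
          _ = v * (ρ t v * ρ (r : G) v) * ρ t (ρ (r : G) v) := by rw [h.comm (ρ (r : G) v)]
          _ = (v * ρ t v) * (ρ (r : G) v * ρ t (ρ (r : G) v)) := by group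
          _ = 1 := by rw [e2]; exact h.sq _
      have e6 := eq_inv_of_mul_eq_one_right e5
      rw [e6]
      exact inv_eq_of_mul_eq_one_left (h.sq _)
    have e5 := hRfix r hr _ e4
    rw [map_mul, h.comm v] at e5
    have e6 := mul_left_cancel e5
    rw [map_mul, MulAut.mul_apply]
    exact e6
  -- `t` acts nontrivially
  have htn : ∃ v : V, ρ t v ≠ v := by
    by_contra hcon
    push Not at hcon
    have h1 := h.card_fix hO ht ht1
    have h2 : fix ρ t = ⊤ := by
      rw [eq_top_iff]; intro v _; exact hcon v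
    rw [h2, Subgroup.card_top] at h1
    obtain ⟨v, hv⟩ := h.nt
    have h3 : Nat.card V = 1 := by
      have h4 : 0 < Nat.card V := Nat.card_pos
      exact Nat.eq_of_mul_eq_mul_left h4 (by rw [h1, mul_one])
    have := (Nat.card_eq_one_iff_unique.mp h3).1
    exact hv (Subsingleton.elim _ _)
  have hRt : ∀ r ∈ Cfsg.pCore 2 H₁, (r : G) = 1 ∨ (r : G) = t := by
    intro r hr
    by_cases hrr : (r : G) * r = 1
    · by_cases hr1 : (r : G) = 1
      · exact Or.inl hr1
      · exact Or.inr (h.unique_inv hO hrr hr1 (hRS S htS r hr) ht ht1 htS)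
    · exfalso
      have hrS := hRS S htS r hr
      -- the involution of ⟨r²⟩ is t
      have h1 : orderOf ((r : G) * r) ≠ 1 := fun h2 => hrr (orderOf_eq_one_iff.mp h2)
      obtain ⟨k, hk⟩ := exists_pow_of_mem S (mul_mem hrS hrS)
      obtain ⟨j, -, hj⟩ := (Nat.dvd_prime_pow Nat.prime_two).mp (orderOf_dvd_of_pow_eq_one hk)
      rcases j with _ | j
      · exact h1 (by rw [hj, pow_zero])
      have h3 : orderOf (((r : G) * r) ^ 2 ^ j) = 2 := by
        rw [orderOf_pow_of_dvd (by positivity) (by rw [hj]; exact pow_dvd_pow 2 (by omega)), hj,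
          pow_succ, Nat.mul_div_cancel_left _ (by positivity)]
      have h4 : ((r : G) * r) ^ 2 ^ j = t := by
        refine h.unique_inv hO (P := S) ?_ ?_ (pow_mem (mul_mem hrS hrS) _) ht ht1 htS
        · have := pow_orderOf_eq_one (((r : G) * r) ^ 2 ^ j)
          rwa [h3, pow_two] at this
        · intro h5
          rw [h5, orderOf_one] at h3
          omega
      obtain ⟨v, hv⟩ := htn
      apply hv
      rw [← h4]
      exact (stab ρ v).pow_mem (hR2 r hr v) _
  -- conclusion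
  obtain ⟨ρ', hρ', h₂⟩ := h₁.quot (Cfsg.pCore 2 H₁) (H1.Cores.isPGroup_pCore 2)
  have hO' := H1.Cores.pCore_quotient_pCore (G := H₁) 2
  have htR : (⟨t, htH⟩ : H₁) ∈ Cfsg.pCore 2 H₁ := by
    have hz : (⟨t, htH⟩ : H₁) * ⟨t, htH⟩ = 1 := Subtype.ext ht
    refine H1.Cores.le_pCore (N := zpowers (⟨t, htH⟩ : H₁)) ?_ (isPGroup_zpowers hz)
      (mem_zpowers _)
    constructor
    intro n hn g
    obtain ⟨k, rfl⟩ := mem_zpowers_iff.mp hn
    rw [← conj_zpow]
    apply zpow_mem
    have : g * (⟨t, htH⟩ : H₁) * g⁻¹ = ⟨t, htH⟩ := by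
      apply Subtype.ext
      show (g : G) * t * (g : G)⁻¹ = t
      rw [mem_centralizer_singleton_iff.mp g.2]; group
    rw [this]
    exact mem_zpowers _
  refine cyclic_of_roots (t := (⟨t, htS⟩ : (S : Subgroup G))) S.2 ?_ ?_
  · rintro ⟨s, hs⟩ hss
    have hss' : s * s = 1 := congrArg Subtype.val hss
    by_cases hs1 : s = 1
    · exact Or.inl (Subtype.ext hs1)
    · exact Or.inr (Subtype.ext (h.unique_inv hO hss' hs1 hs ht ht1 htS))
  · rintro ⟨r₁, hr₁⟩ ⟨r₂, hr₂⟩ e₁ e₂
    have e₁' : r₁ * r₁ = t := congrArg Subtype.val e₁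
    have e₂' : r₂ * r₂ = t := congrArg Subtype.val e₂
    have h1 := hSH hr₁
    have h2 := hSH hr₂
    have key : ∀ r (hr : r ∈ H₁), r * r = t →
        (((⟨r, hr⟩ : H₁) : H₁ ⧸ Cfsg.pCore 2 H₁) * ((⟨r, hr⟩ : H₁) : H₁ ⧸ Cfsg.pCore 2 H₁) = 1 ∧
        ((⟨r, hr⟩ : H₁) : H₁ ⧸ Cfsg.pCore 2 H₁) ≠ 1) := by
      intro r hr hrt
      constructor
      · rw [← QuotientGroup.mk_mul, QuotientGroup.eq_one_iff]
        have : (⟨r, hr⟩ * ⟨r, hr⟩ : H₁) = ⟨t, htH⟩ := Subtype.ext hrt
        rw [this]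
        exact htR
      · rw [Ne, QuotientGroup.eq_one_iff]
        intro hrR
        rcases hRt _ hrR with h3 | h3
        · have h3' : r = 1 := h3
          rw [h3', one_mul] at hrt
          exact ht1 hrt.symm
        · have h3' : r = t := h3
          rw [h3', ht] at hrt
          exact ht1 hrt.symm
    obtain ⟨k1, k1'⟩ := key r₁ h1 e₁'
    obtain ⟨k2, k2'⟩ := key r₂ h2 e₂'
    have hmem : ∀ r (hr : r ∈ (S : Subgroup G)), ((⟨r, hSH hr⟩ : H₁) : H₁ ⧸ Cfsg.pCore 2 H₁) ∈
        (((S.subtype hSH).mapSurjective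
          (QuotientGroup.mk'_surjective (Cfsg.pCore 2 H₁)) : Sylow 2 _) : Subgroup _) := by
      intro r hr
      rw [Sylow.coe_mapSurjective]
      refine ⟨⟨r, hSH hr⟩, ?_, rfl⟩
      rw [Sylow.coe_subtype]
      exact mem_subgroupOf.mpr hr
    have h3 := h₂.unique_inv hO' k1 k1' (hmem r₁ hr₁) k2 k2' (hmem r₂ hr₂)
    rw [QuotientGroup.eq] at h3
    rcases hRt _ h3 with h4 | h4
    · exact Or.inl (Subtype.ext h4)
    · exact Or.inr (Subtype.ext h4)

/-- the Sylow `2`-subgroups of `G/O₂(G)` are cyclic -/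
theorem Hyp.cyclic [Finite G] [Finite V] {ρ : G →* MulAut V} (h : Hyp ρ)
    (S : Sylow 2 (G ⧸ Cfsg.pCore 2 G)) : IsCyclic (S : Subgroup (G ⧸ Cfsg.pCore 2 G)) := by
  obtain ⟨ρ', -, h'⟩ := h.quot (Cfsg.pCore 2 G) (H1.Cores.isPGroup_pCore 2)
  exact h'.cyclic_of_bot (H1.Cores.pCore_quotient_pCore 2) S

end H25.RealAct
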