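import Cfsg.Agent.Lib.H25.RealAct7
import Cfsg.Agent.Lib.H72.FT4193
import Cfsg.Agent.Lib.H1.Solv

/-! Products of real classes of coprime sizes. -/

set_option autoImplicit false

open Subgroup

namespace H25.RealCls

variable {G : Type*} [Group G]

/-- the size of a conjugacy class -/
noncomputable def cl (x : G) : ℕ := (centralizer ({x} : Set G)).index

theorem cl_eq_card (x : G) : cl x = Nat.card {w : G // IsConj x w} := by
  unfold cl
  rw [H72.ClassSize.index_eq_card_conj]
  apply Nat.card_congr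
  refine Equiv.subtypeEquivRight ?_
  intro y
  rw [isConj_iff]

theorem cl_pos [Finite G] (x : G) : 0 < cl x := H72.ClassSize.index_pos x

theorem exists_decomp [Finite G] {u v : G} (h : (cl u).Coprime (cl v)) (g : G) :
    ∃ c d : G, c * u = u * c ∧ d * v = v * d ∧ g = c * d := by
  obtain ⟨c, hc, d, hd, hg⟩ := H1.Solv.exists_mul_of_coprime_index h g
  exact ⟨c, d, mem_centralizer_singleton_iff.mp hc, mem_centralizer_singleton_iff.mp hd, hg⟩

theorem mul_isConj [Finite G] {u v : G} (h : (cl u).Coprime (cl v)) {u' v' : G} (hu : IsConj u u')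
    (hv : IsConj v v') : IsConj (u * v) (u' * v') := by
  obtain ⟨g, rfl⟩ := isConj_iff.mp hu
  obtain ⟨k, rfl⟩ := isConj_iff.mp hv
  obtain ⟨c, d, hc, hd, hcd⟩ := exists_decomp h (g⁻¹ * k)
  rw [isConj_iff]
  refine ⟨g * c, ?_⟩
  have e1 : g * c = k * d⁻¹ := by
    have : g * (c * d) = k := by rw [← hcd]; group
    rw [← this]; group
  have e2 : g * c * u * (g * c)⁻¹ = g * u * g⁻¹ := by
    calc g * c * u * (g * c)⁻¹ = g * (c * u) * c⁻¹ * g⁻¹ := by group
      _ = _ := by rw [hc]; group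
  have e3 : g * c * v * (g * c)⁻¹ = k * v * k⁻¹ := by
    rw [e1]
    have hd' : d⁻¹ * v = v * d⁻¹ := by
      calc d⁻¹ * v = d⁻¹ * (v * d) * d⁻¹ := by group
        _ = _ := by rw [← hd]; group
    calc k * d⁻¹ * v * (k * d⁻¹)⁻¹ = k * (d⁻¹ * v) * d * k⁻¹ := by group
      _ = _ := by rw [hd']; group
  calc g * c * (u * v) * (g * c)⁻¹ = (g * c * u * (g * c)⁻¹) * (g * c * v * (g * c)⁻¹) := by group
    _ = _ := by rw [e2, e3]

theorem real_mul [Finite G] {u v : G} (h : (cl u).Coprime (cl v)) (hu : IsConj u u⁻¹)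
    (hv : IsConj v v⁻¹) : IsConj (u * v) (u * v)⁻¹ := by
  refine (mul_isConj h hu hv).trans (isConj_iff.mpr ⟨v⁻¹, ?_⟩)
  group

/-- the left stabilizer of a conjugacy class -/
def LStab (v : G) : Subgroup G where
  carrier := {g | ∀ w, IsConj v w ↔ IsConj v (g * w)}
  one_mem' := by intro w; rw [one_mul]
  mul_mem' := by
    intro a b ha hb w
    rw [hb w, ha (b * w), mul_assoc]
  inv_mem' := by
    intro a ha w
    rw [ha (a⁻¹ * w), mul_inv_cancel_left]

theorem mem_LStab {v g : G} : g ∈ LStab v ↔ ∀ w, IsConj v w ↔ IsConj v (g * w) := Iff.rfl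

instance LStab_normal (v : G) : (LStab v).Normal := by
  constructor
  intro n hn g w
  have h1 := hn (g⁻¹ * w * g)
  have h2 : ∀ a : G, IsConj v (g⁻¹ * a * g) ↔ IsConj v a := by
    intro a
    constructor
    · intro h
      exact h.trans (isConj_iff.mpr ⟨g, by group⟩)
    · intro h
      exact h.trans (isConj_iff.mpr ⟨g⁻¹, by group⟩)
  rw [h2] at h1
  rw [h1, ← h2 (g * n * g⁻¹ * w)]
  have : g⁻¹ * (g * n * g⁻¹ * w) * g = n * (g⁻¹ * w * g) := by group
  rw [this]

theorem card_LStab_dvd [Finite G] (v : G) : Nat.card (LStab v) ∣ cl v := by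
  rw [cl_eq_card]
  let _ : MulAction (LStab v) {w : G // IsConj v w} :=
    { smul := fun g w => ⟨(g : G) * w, (mem_LStab.mp g.2 _).mp w.2⟩
      one_smul := fun w => Subtype.ext (one_mul _)
      mul_smul := fun a b w => Subtype.ext (mul_assoc _ _ _) }
  have hfree : ∀ w : {w : G // IsConj v w}, MulAction.stabilizer (LStab v) w = ⊥ := by
    intro w
    rw [eq_bot_iff]
    intro g hg
    rw [MulAction.mem_stabilizer_iff] at hg
    have h1 : (g : G) * w = w := congrArg Subtype.val hg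
    rw [mem_bot]
    exact Subtype.ext (mul_eq_right.mp h1)
  have e := MulAction.selfEquivOrbitsQuotientProd (G := LStab v) hfree
  rw [Nat.card_congr e, Nat.card_prod]
  exact Dvd.intro_left _ rfl

/-- T2 -/
theorem mem_LStab_of_lt [Finite G] {π : Set ℕ}
    (hR : ∀ x : G, IsConj x x⁻¹ → (∀ q : ℕ, q.Prime → q ∣ cl x → q ∈ π) ∨
      (∀ q : ℕ, q.Prime → q ∣ cl x → q ∉ π)) {u v : G} (hu : IsConj u u⁻¹) (hv : IsConj v v⁻¹)
    (huπ : ∀ q : ℕ, q.Prime → q ∣ cl u → q ∈ π) (hvπ : ∀ q : ℕ, q.Prime → q ∣ cl v → q ∉ π)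
    (hlt : cl u < cl v) {u' : G} (hu' : IsConj u u') : u⁻¹ * u' ∈ LStab v := by
  have hco : (cl u).Coprime (cl v) :=
    Nat.Coprime.symm (Nat.coprime_of_dvd fun q hq h1 h2 => hvπ q hq h1 (huπ q hq h2))
  have hreal := real_mul hco hu hv
  have hdvd : cl (u * v) ∣ cl u * cl v := by
    have h1 := H1.Solv.index_inf_of_coprime hco
    unfold cl
    unfold cl at hco
    rw [← H1.Solv.index_inf_of_coprime hco]
    apply Subgroup.index_dvd_of_le
    intro g hg
    obtain ⟨hg1, hg2⟩ := mem_inf.mp hg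
    rw [mem_centralizer_singleton_iff] at hg1 hg2 ⊢
    rw [← mul_assoc, hg1, mul_assoc, hg2, mul_assoc]
  have hinj : ∀ a : G, IsConj u a → ∃ f : {w : G // IsConj v w} → {w : G // IsConj (u * v) w},
      Function.Injective f ∧ ∀ w, (f w : G) = a * w := by
    intro a ha
    refine ⟨fun w => ⟨a * w, mul_isConj hco ha w.2⟩, ?_, fun w => rfl⟩
    intro w w' h
    exact Subtype.ext (mul_left_cancel (congrArg Subtype.val h))
  have hle : cl v ≤ cl (u * v) := by
    rw [cl_eq_card, cl_eq_card]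
    obtain ⟨f, hf, -⟩ := hinj u (IsConj.refl u)
    exact Nat.card_le_card_of_injective f hf
  have heq : cl (u * v) = cl v := by
    rcases hR _ hreal with h1 | h1
    · exfalso
      have h2 : (cl (u * v)).Coprime (cl v) :=
        Nat.coprime_of_dvd fun q hq h3 h4 => hvπ q hq h4 (h1 q hq h3)
      have h3 := h2.dvd_of_dvd_mul_right hdvd
      have h4 := Nat.le_of_dvd (cl_pos u) h3
      omega
    · have h2 : (cl (u * v)).Coprime (cl u) :=
        Nat.coprime_of_dvd fun q hq h3 h4 => h1 q hq h3 (huπ q hq h4)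
      have h3 := h2.dvd_of_dvd_mul_left hdvd
      exact le_antisymm (Nat.le_of_dvd (cl_pos v) h3) hle
  have hbij : ∀ a : G, IsConj u a → ∀ w : G, IsConj v w ↔ IsConj (u * v) (a * w) := by
    intro a ha w
    constructor
    · intro h; exact mul_isConj hco ha h
    · intro h
      obtain ⟨f, hf, hfa⟩ := hinj a ha
      have hb := hf.bijective_of_nat_card_le (by rw [← cl_eq_card, ← cl_eq_card, heq])
      obtain ⟨w', hw'⟩ := hb.2 ⟨a * w, h⟩
      have h1 : a * (w' : G) = a * w := by rw [← hfa, hw']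
      rw [← mul_left_cancel h1]
      exact w'.2
  intro w
  rw [hbij u' hu' w, hbij u (IsConj.refl u)]
  have : u * (u⁻¹ * u' * w) = u' * w := by group
  rw [this]

end H25.RealCls
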