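import Mathlib
import Cfsg.Agent.Lib.H25.Sec4
import Cfsg.Agent.Lib.H76.SecRank

/-!
Sectional rank at most 4 from a normal elementary abelian subgroup of order 8 with centralizer of order
at most 16.
-/

set_option autoImplicit false
set_option linter.all false

namespace H25.Sec4

open Subgroup H25.MacW
open scoped commutatorElement

variable {S : Type*} [Group S]

theorem pow_cases [Finite S] (hS : IsPGroup 2 S) (K : Subgroup S) (h16 : Nat.card K ≤ 16)
    (h8 : 8 ≤ Nat.card K) : Nat.card K = 8 ∨ Nat.card K = 16 := by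
  obtain ⟨n, hn⟩ := card_pow hS K
  rw [hn] at h16 h8 ⊢
  have h3 : 3 ≤ n := by
    by_contra h
    push Not at h
    have := Nat.pow_le_pow_right (n := 2) (by norm_num) (show n ≤ 2 by omega)
    omega
  have h4 : n ≤ 4 := by
    by_contra h
    push Not at h
    have := Nat.pow_le_pow_right (n := 2) (by norm_num) (show 5 ≤ n by omega)
    omega
  have : n = 3 ∨ n = 4 := by omega
  rcases this with rfl | rfl
  · left; norm_num
  · right; norm_num

namespace Flag

variable {A A₂ : Subgroup S} {z a₁ a₂ : S} (hF : Flag A A₂ z a₁ a₂)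
include hF

theorem A_le_C : A ≤ centralizer (A : Set S) := by
  intro x hx
  rw [mem_centralizer_iff]
  exact fun a ha => hF.comm a ha x hx

theorem GF [Finite S] (hS : IsPGroup 2 S) (hC16 : Nat.card (centralizer (A : Set S)) ≤ 16)
    (ha : ∀ H : Subgroup S, centralizer (A : Set S) ≤ H → Nat.card (centralizer (A : Set S)) = 16 →
      64 ≤ Nat.card H → ∀ n : S, (∀ c ∈ centralizer (A : Set S), ∀ h ∈ H, h * c * h⁻¹ * c⁻¹ = 1 ∨
        h * c * h⁻¹ * c⁻¹ = n) → False)
    (hb : ∀ H : Subgroup S, Nat.card H = 32 → (∀ x ∈ H, x * x = 1) →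
      Nat.card (H ⊓ centralizer (A : Set S) : Subgroup S) = 8 →
      Nat.card (centralizer (A : Set S)) = 16 → False) : Cfsg.SectionalPRankLE 2 4 S := by
  classical
  rw [H76.SecRank.sectionalPRankLE_iff]
  intro N H hNH hcomm hsq
  set C := centralizer (A : Set S) with hCdef
  have hAC : A ≤ C := hF.A_le_C
  have hCn : ∀ g : S, ∀ x ∈ C, g * x * g⁻¹ ∈ C := by
    intro g x hx
    rw [hCdef, mem_centralizer_iff] at hx ⊢
    intro a ha
    have h := hx (g⁻¹ * a * g) (by simpa using hF.nA g⁻¹ a ha)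
    calc a * (g * x * g⁻¹) = g * ((g⁻¹ * a * g) * x) * g⁻¹ := by group
      _ = g * (x * (g⁻¹ * a * g)) * g⁻¹ := by rw [h]
      _ = g * x * g⁻¹ * a := by group
  by_contra hcon
  push Not at hcon
  have hcard : Nat.card N * N.relIndex H = Nat.card H := cardRel hNH
  -- `32 ≤ |H : N|`
  have h32 : 32 ≤ N.relIndex H := by
    have h5 : N.relIndex H ∣ Nat.card H := ⟨_, by rw [mul_comm]; exact hcard.symm⟩
    obtain ⟨n, hn⟩ := card_pow hS H
    rw [hn, Nat.dvd_prime_pow Nat.prime_two] at h5
    obtain ⟨m, -, hm⟩ := h5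
    rw [hm] at hcon ⊢
    have hm5 : 5 ≤ m := by
      by_contra h
      push Not at h
      have := Nat.pow_le_pow_right (n := 2) (by norm_num) (show m ≤ 4 by omega)
      omega
    have := Nat.pow_le_pow_right (n := 2) (by norm_num) hm5
    omega
  have hH32 : 32 * Nat.card N ≤ Nat.card H := by
    rw [← hcard, mul_comm]; exact Nat.mul_le_mul_left _ h32
  have hNpos : 0 < Nat.card N := Nat.card_pos
  have hNCpos : 0 < Nat.card (N ⊓ C : Subgroup S) := Nat.card_pos
  -- the quotient by the centralizer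
  have hq : Nat.card H * Nat.card (N ⊓ C : Subgroup S) ≤
      4 * Nat.card N * Nat.card (H ⊓ C : Subgroup S) := by
    by_cases hNC : N ≤ C
    · have h4 := hF.card_le4_of_comm hS H (fun x hx y hy => hNC (hcomm x hx y hy))
      rw [inf_eq_left.2 hNC]
      calc Nat.card H * Nat.card N ≤ (4 * Nat.card (H ⊓ C : Subgroup S)) * Nat.card N :=
            Nat.mul_le_mul_right _ h4
        _ = _ := by ring
    · have h8 := hF.card_le8 H
      have h2 : 2 * Nat.card (N ⊓ C : Subgroup S) ≤ Nat.card N := by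
        apply two_mul_card_le
        exact lt_of_le_of_ne inf_le_left (fun h => hNC (inf_eq_left.1 h))
      calc Nat.card H * Nat.card (N ⊓ C : Subgroup S)
          ≤ (8 * Nat.card (H ⊓ C : Subgroup S)) * Nat.card (N ⊓ C : Subgroup S) :=
            Nat.mul_le_mul_right _ h8
        _ = 4 * (2 * Nat.card (N ⊓ C : Subgroup S)) * Nat.card (H ⊓ C : Subgroup S) := by ring
        _ ≤ 4 * Nat.card N * Nat.card (H ⊓ C : Subgroup S) := by gcongr
  have h8 : 8 * Nat.card (N ⊓ C : Subgroup S) ≤ Nat.card (H ⊓ C : Subgroup S) := by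
    have h1 : (32 * Nat.card N) * Nat.card (N ⊓ C : Subgroup S) ≤
        4 * Nat.card N * Nat.card (H ⊓ C : Subgroup S) :=
      (Nat.mul_le_mul_right _ hH32).trans hq
    have h2 : (4 * Nat.card N) * (8 * Nat.card (N ⊓ C : Subgroup S)) ≤
        (4 * Nat.card N) * Nat.card (H ⊓ C : Subgroup S) := by
      calc _ = (32 * Nat.card N) * Nat.card (N ⊓ C : Subgroup S) := by ring
        _ ≤ _ := h1
    exact Nat.le_of_mul_le_mul_left h2 (by omega)
  have hHC : Nat.card (H ⊓ C : Subgroup S) ≤ Nat.card C :=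
    Nat.le_of_dvd Nat.card_pos (Subgroup.card_dvd_of_le inf_le_right)
  -- commutators
  have hcm : ∀ c ∈ H ⊓ C, ∀ h ∈ H, h * c * h⁻¹ * c⁻¹ ∈ N ⊓ C := fun c hc h hh =>
    ⟨hcomm h hh c hc.1, C.mul_mem (hCn h c hc.2) (C.inv_mem hc.2)⟩
  have hnotle : ¬ H ≤ C := by
    intro h
    have := Nat.le_of_dvd Nat.card_pos (Subgroup.card_dvd_of_le h)
    omega
  rcases pow_cases hS (H ⊓ C) (hHC.trans hC16) (by omega) with hc | hc
  · -- `|H ∩ C| = 8`
    have hN1 : Nat.card (N ⊓ C : Subgroup S) = 1 := by omega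
    have hNbot : N ⊓ C = ⊥ := Subgroup.card_eq_one.1 hN1
    have hcen : ∀ c ∈ H ⊓ C, ∀ h ∈ H, h * c = c * h := by
      intro c hc' h hh
      have := hcm c hc' h hh
      rw [hNbot, mem_bot] at this
      exact mul_inv_eq_iff_eq_mul.1 (mul_inv_eq_one.1 this)
    have hne : ¬ A ≤ H := by
      intro hAH
      apply hnotle
      intro h hh
      rw [hCdef, mem_centralizer_iff]
      intro a ha
      exact (hcen a ⟨hAH ha, hAC ha⟩ h hh).symm
    have hC : Nat.card C = 16 := by
      rcases pow_cases hS C hC16 (by omega) with h | h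
      · exfalso
        apply hne
        have h1 : A = C := Subgroup.eq_of_le_of_card_ge hAC (by rw [h, hF.c8])
        have h2 : H ⊓ C = C := Subgroup.eq_of_le_of_card_ge inf_le_right (by rw [h, hc])
        rw [h1]
        exact inf_eq_right.1 h2
      · exact h
    -- `|H| ≤ 32`
    set U := (H ⊓ C) ⊓ A with hU
    have hU4 : Nat.card (H ⊓ C : Subgroup S) ≤ 2 * Nat.card U := by
      apply card_half
      intro x hx y hy hxA hyA
      exact idx2 hAC (by rw [hC, hF.c8]) hx.2 hy.2 hxA hyA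
    have hUA : U < A := by
      refine lt_of_le_of_ne inf_le_right ?_
      intro h
      apply hne
      rw [← h]
      exact inf_le_left.trans inf_le_left
    have hU4' : 2 * Nat.card U ≤ 8 := by rw [← hF.c8]; exact two_mul_card_le hUA
    have hUc : Nat.card U = 4 := by omega
    obtain ⟨x, hxA, hxU⟩ := SetLike.not_le_iff_exists.1 hUA.not_ge
    have hH32' : Nat.card H ≤ 4 * Nat.card (H ⊓ C : Subgroup S) := by
      haveI : Fintype S := Fintype.ofFinite S
      have := card_le_fiber H C (fun h => h * x * h⁻¹ * x⁻¹) (Finset.univ.filter (fun y => y ∈ U)) (by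
        intro h hh
        rw [Finset.mem_filter]
        refine ⟨Finset.mem_univ _, ?_⟩
        refine idx2' inf_le_right (by rw [hF.c8, hUc]) (hF.nA h x hxA) hxA ?_ hxU
        intro hmem
        apply hxU
        have h1 := hcen _ hmem.1 h hh
        have h2 : x = h⁻¹ * (h * x * h⁻¹) * h := by group
        have h3 : h⁻¹ * (h * x * h⁻¹) * h = h * x * h⁻¹ := by
          rw [mul_assoc, ← h1]; group
        rw [h2, h3]
        exact hmem) (by
        intro h hh k hk e
        have e' : h * x * h⁻¹ = k * x * k⁻¹ := mul_right_cancel e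
        rw [hCdef, mem_centralizer_iff]
        have hcu : ∀ u ∈ U, u * (h⁻¹ * k) = (h⁻¹ * k) * u := fun u hu =>
          (hcen u hu.1 _ (H.mul_mem (H.inv_mem hh) hk)).symm
        have hcx : x * (h⁻¹ * k) = (h⁻¹ * k) * x := by
          calc x * (h⁻¹ * k) = h⁻¹ * (h * x * h⁻¹) * k := by group
            _ = (h⁻¹ * k) * x := by rw [e']; group
        intro a ha
        by_cases haU : a ∈ U
        · exact hcu a haU
        · have h1 : a * x⁻¹ ∈ U := idx2' inf_le_right (by rw [hF.c8, hUc]) ha hxA haU hxU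
          have h2 := hcu _ h1
          calc a * (h⁻¹ * k) = (a * x⁻¹) * (x * (h⁻¹ * k)) := by group
            _ = (a * x⁻¹) * (h⁻¹ * k) * x := by rw [hcx]; group
            _ = (h⁻¹ * k) * a := by rw [h2]; group)
      refine this.trans ?_
      gcongr
      rw [← Fintype.card_subtype, ← Nat.card_eq_fintype_card]
      exact hUc.le
    have hHc : Nat.card H = 32 := by omega
    have hNc : Nat.card N = 1 := by omega
    have hNb : N = ⊥ := Subgroup.card_eq_one.1 hNc
    refine hb H hHc ?_ hc hC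
    intro y hy
    have := hsq y hy
    rw [hNb, mem_bot, pow_two] at this
    exact this
  · -- `C ≤ H`
    have hC : Nat.card C = 16 := by omega
    have hCH : C ≤ H := by
      have h2 : H ⊓ C = C := Subgroup.eq_of_le_of_card_ge inf_le_right (by rw [hC, hc])
      exact inf_eq_right.1 h2
    have hNC2 : Nat.card (N ⊓ C : Subgroup S) = 1 ∨ Nat.card (N ⊓ C : Subgroup S) = 2 := by omega
    rcases hNC2 with h1 | h2
    · exfalso
      apply hnotle
      have hNbot : N ⊓ C = ⊥ := Subgroup.card_eq_one.1 h1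
      intro h hh
      rw [hCdef, mem_centralizer_iff]
      intro a ha
      have := hcm a ⟨hCH (hAC ha), hAC ha⟩ h hh
      rw [hNbot, mem_bot] at this
      exact (mul_inv_eq_iff_eq_mul.1 (mul_inv_eq_one.1 this)).symm
    · have hne : ¬ N ⊓ C ≤ ⊥ := by
        intro h
        have := Nat.le_of_dvd Nat.card_pos (Subgroup.card_dvd_of_le h)
        rw [h2, Subgroup.card_bot] at this
        omega
      obtain ⟨n, hn, hn1⟩ := SetLike.not_le_iff_exists.1 hne
      have hN2 : 2 ≤ Nat.card N := by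
        have := Nat.le_of_dvd Nat.card_pos (Subgroup.card_dvd_of_le (inf_le_left : N ⊓ C ≤ N))
        omega
      refine ha H hCH hC (by omega) n ?_
      intro c hcC h hh
      have h3 := hcm c ⟨hCH hcC, hcC⟩ h hh
      by_cases h4 : h * c * h⁻¹ * c⁻¹ = 1
      · exact Or.inl h4
      · right
        have := idx2' (bot_le : ⊥ ≤ N ⊓ C) (by rw [h2, Subgroup.card_bot]) h3 hn
          (by rwa [mem_bot]) hn1
        rw [mem_bot] at this
        exact mul_inv_eq_one.1 this

theorem C_comm [Finite S] (hC : Nat.card (centralizer (A : Set S)) = 16) :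
    ∀ x ∈ centralizer (A : Set S), ∀ y ∈ centralizer (A : Set S), x * y = y * x := by
  intro x hx y hy
  have hAC := hF.A_le_C
  by_cases hxA : x ∈ A
  · exact (mem_centralizer_iff.1 hy) x hxA
  · by_cases hyA : y ∈ A
    · exact ((mem_centralizer_iff.1 hx) y hyA).symm
    · have h1 : y * x⁻¹ ∈ A := idx2' hAC (by rw [hC, hF.c8]) hy hx hyA hxA
      have h2 := (mem_centralizer_iff.1 hx) _ h1
      calc x * y = x * (y * x⁻¹) * x := by group
        _ = (y * x⁻¹) * x * x := by rw [← h2]
        _ = y * x := by group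

theorem GF2 [Finite S] (hS : IsPGroup 2 S) (hC16 : Nat.card (centralizer (A : Set S)) ≤ 16)
    (hω : Nat.card (centralizer (A : Set S)) = 16 → ∃ ω : S, ω * a₁ * ω⁻¹ = a₁ ∧ ω * a₂ * ω⁻¹ = a₂ * z ∧
      (∀ c ∈ centralizer (A : Set S), ω * c * ω⁻¹ = c → c ∈ A) ∧
      ∃ c ∈ centralizer (A : Set S), ω * c * ω⁻¹ * c⁻¹ ≠ 1 ∧ ω * c * ω⁻¹ * c⁻¹ ≠ z) :
    Cfsg.SectionalPRankLE 2 4 S := by
  refine hF.GF hS hC16 ?_ ?_
  · intro H hCH hC h64 n hn
    obtain ⟨ω, w1, w2, -, c, hc, c1, c2⟩ := hω hC
    obtain ⟨h, hh, e1, e2⟩ := hF.exists_center H (by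
      rw [inf_eq_right.2 hCH, hC]; exact h64)
    have hcen : ω⁻¹ * h ∈ centralizer (A : Set S) := hF.cen' (by rw [w1, e1]) (by rw [w2, e2])
    have hconj : h * c * h⁻¹ = ω * c * ω⁻¹ := by
      have h3 := hF.C_comm hC _ hcen _ hc
      calc h * c * h⁻¹ = ω * ((ω⁻¹ * h) * c) * h⁻¹ := by group
        _ = ω * (c * (ω⁻¹ * h)) * h⁻¹ := by rw [h3]
        _ = _ := by group
    have k1 := (hn c hc h hh).resolve_left (by rw [hconj]; exact c1)
    have k2 := (hn a₂ (hF.A_le_C hF.m2) h hh).resolve_left (by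
      rw [e2, hF.comm a₂ hF.m2 z hF.mz, mul_inv_cancel_right]; exact hF.z1)
    rw [e2, hF.comm a₂ hF.m2 z hF.mz, mul_inv_cancel_right] at k2
    rw [hconj, ← k2] at k1
    exact c2 k1
  · intro H hH32 hHsq hHC hC
    obtain ⟨ω, w1, w2, w3, -⟩ := hω hC
    obtain ⟨h, hh, e1, e2⟩ := hF.exists_center H (by rw [hHC, hH32])
    have hcen : ω⁻¹ * h ∈ centralizer (A : Set S) := hF.cen' (by rw [w1, e1]) (by rw [w2, e2])
    have hHcomm := comm_of_sq hHsq
    have hnle : ¬ (H ⊓ centralizer (A : Set S) ≤ A) := by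
      intro hle
      have h1 : H ⊓ centralizer (A : Set S) = A :=
        Subgroup.eq_of_le_of_card_ge hle (by rw [hHC, hF.c8])
      have hAH : A ≤ H := by rw [← h1]; exact inf_le_left
      have h2 : H ≤ centralizer (A : Set S) := by
        intro x hx
        rw [mem_centralizer_iff]
        exact fun a ha => hHcomm a (hAH ha) x hx
      rw [inf_eq_left.2 h2] at hHC
      omega
    obtain ⟨c, hc, hcA⟩ := SetLike.not_le_iff_exists.1 hnle
    apply hcA
    apply w3 c hc.2
    have h3 := hF.C_comm hC _ hcen _ hc.2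
    have h4 := hHcomm h hh c hc.1
    calc ω * c * ω⁻¹ = ω * (c * (ω⁻¹ * h)) * h⁻¹ := by group
      _ = ω * ((ω⁻¹ * h) * c) * h⁻¹ := by rw [h3]
      _ = h * c * h⁻¹ := by group
      _ = c := by rw [h4]; group

end Flag

end H25.Sec4
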