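import Mathlib
import Cfsg.Agent.Lib.H25.Sec4b

/-!
A normal elementary abelian subgroup of order 8 in a 2-group containing a self-centralizing `Q₈ ∗ Q₈`.
-/

set_option autoImplicit false
set_option linter.all false

namespace H25.Sec4

open Subgroup H25.MacW

variable {S : Type*} [Group S]

/-- facts about the quaternion group -/
theorem q8 : (∀ q : QuaternionGroup 2, q * q = 1 ∨ q * q = QuaternionGroup.a 2) ∧
    (∀ p q : QuaternionGroup 2, p * q * p⁻¹ * q⁻¹ = 1 ∨ p * q * p⁻¹ * q⁻¹ = QuaternionGroup.a 2) ∧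
    (∀ q : QuaternionGroup 2, (∀ p : QuaternionGroup 2, p * q = q * p) → q = 1 ∨ q = QuaternionGroup.a 2) ∧
    (∀ s t : Bool, ∃ q : QuaternionGroup 2,
      q * QuaternionGroup.a 1 * q⁻¹ = (if s then QuaternionGroup.a 1 * QuaternionGroup.a 2
        else QuaternionGroup.a 1) ∧
      q * QuaternionGroup.xa 0 * q⁻¹ = (if t then QuaternionGroup.xa 0 * QuaternionGroup.a 2
        else QuaternionGroup.xa 0)) ∧
    (∀ q : QuaternionGroup 2, ∃ i < 4, ∃ j < 2, q = QuaternionGroup.a 1 ^ i * QuaternionGroup.xa 0 ^ j) := by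
  refine ⟨by decide, by decide, by decide, by decide, by decide⟩

theorem half (f : QuaternionGroup 2 →* S) (hf : Function.Injective f) :
    (∀ q ∈ f.range, q * q = 1 ∨ q * q = f (QuaternionGroup.a 2)) ∧
    (∀ p ∈ f.range, ∀ q ∈ f.range, p * q * p⁻¹ * q⁻¹ = 1 ∨ p * q * p⁻¹ * q⁻¹ = f (QuaternionGroup.a 2)) ∧
    (∀ q ∈ f.range, (∀ p ∈ f.range, p * q = q * p) → q = 1 ∨ q = f (QuaternionGroup.a 2)) ∧
    (∀ x : S, (∀ q ∈ f.range, x * q * x⁻¹ * q⁻¹ = 1 ∨ x * q * x⁻¹ * q⁻¹ = f (QuaternionGroup.a 2)) →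
      ∃ q ∈ f.range, ∀ p ∈ f.range, q * p * q⁻¹ = x * p * x⁻¹) := by
  obtain ⟨h1, h2, h3, h4, h5⟩ := q8
  refine ⟨?_, ?_, ?_, ?_⟩
  · rintro _ ⟨q, rfl⟩
    rw [← map_mul, ← map_one f]
    rcases h1 q with h | h
    · left; rw [h]
    · right; rw [h]
  · rintro _ ⟨p, rfl⟩ _ ⟨q, rfl⟩
    rw [← map_inv, ← map_inv, ← map_mul, ← map_mul, ← map_mul, ← map_one f]
    rcases h2 p q with h | h
    · left; rw [h]
    · right; rw [h]
  · rintro _ ⟨q, rfl⟩ h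
    rcases h3 q (fun p => hf (by rw [map_mul, map_mul]; exact h (f p) ⟨p, rfl⟩)) with h' | h'
    · left; rw [h', map_one]
    · right; rw [h']
  · intro x hx
    have hc : ∀ p : QuaternionGroup 2, f p * f (QuaternionGroup.a 2) = f (QuaternionGroup.a 2) * f p := by
      intro p
      rw [← map_mul, ← map_mul]
      congr 1
      revert p
      decide
    have hval : ∀ p : QuaternionGroup 2, x * f p * x⁻¹ = f p ∨
        x * f p * x⁻¹ = f p * f (QuaternionGroup.a 2) := by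
      intro p
      rcases hx (f p) ⟨p, rfl⟩ with h | h
      · left; exact mul_inv_eq_one.1 h
      · right
        rw [hc]
        exact mul_inv_eq_iff_eq_mul.1 h
    obtain ⟨s, hs⟩ : ∃ s : Bool, x * f (QuaternionGroup.a 1) * x⁻¹ = f (if s then
        QuaternionGroup.a 1 * QuaternionGroup.a 2 else QuaternionGroup.a 1) := by
      rcases hval (QuaternionGroup.a 1) with h | h
      · exact ⟨false, by rw [h]; simp⟩
      · exact ⟨true, by rw [h, ← map_mul]; simp⟩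
    obtain ⟨t, ht⟩ : ∃ t : Bool, x * f (QuaternionGroup.xa 0) * x⁻¹ = f (if t then
        QuaternionGroup.xa 0 * QuaternionGroup.a 2 else QuaternionGroup.xa 0) := by
      rcases hval (QuaternionGroup.xa 0) with h | h
      · exact ⟨false, by rw [h]; simp⟩
      · exact ⟨true, by rw [h, ← map_mul]; simp⟩
    obtain ⟨q, q1, q2⟩ := h4 s t
    refine ⟨f q, ⟨q, rfl⟩, ?_⟩
    rintro _ ⟨p, rfl⟩
    obtain ⟨i, -, j, -, rfl⟩ := h5 p
    have e1 : f q * f (QuaternionGroup.a 1) * (f q)⁻¹ = x * f (QuaternionGroup.a 1) * x⁻¹ := by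
      rw [hs, ← q1, map_mul, map_mul, map_inv]
    have e2 : f q * f (QuaternionGroup.xa 0) * (f q)⁻¹ = x * f (QuaternionGroup.xa 0) * x⁻¹ := by
      rw [ht, ← q2, map_mul, map_mul, map_inv]
    rw [map_mul, map_pow, map_pow]
    have e3 : ∀ y : S, y * (f (QuaternionGroup.a 1) ^ i * f (QuaternionGroup.xa 0) ^ j) * y⁻¹
        = (y * f (QuaternionGroup.a 1) * y⁻¹) ^ i * (y * f (QuaternionGroup.xa 0) * y⁻¹) ^ j := by
      intro y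
      rw [conj_pow, conj_pow]; group
    rw [e3, e3, e1, e2]

/-- an extraspecial subgroup of order 32 containing its centralizer -/
structure Ext (Q : Subgroup S) (z : S) : Prop where
  e1 : ∀ q ∈ Q, q * q = 1 ∨ q * q = z
  e2 : ∀ p ∈ Q, ∀ q ∈ Q, p * q * p⁻¹ * q⁻¹ = 1 ∨ p * q * p⁻¹ * q⁻¹ = z
  e3 : ∀ x : S, (∀ q ∈ Q, x * q * x⁻¹ * q⁻¹ = 1 ∨ x * q * x⁻¹ * q⁻¹ = z) → x ∈ Q
  e4 : ∀ x ∈ Q, (∀ q ∈ Q, x * q = q * x) → x = 1 ∨ x = z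
  c : Nat.card Q = 32
  cen : centralizer (Q : Set S) ≤ Q

theorem exists_Ext [Finite S] (Q Q₁ Q₂ : Subgroup S) (e₁ : Q₁ ≃* QuaternionGroup 2)
    (e₂ : Q₂ ≃* QuaternionGroup 2) (hcomm : ∀ a ∈ Q₁, ∀ b ∈ Q₂, a * b = b * a) (hQ : Q₁ ⊔ Q₂ = Q)
    (hQ32 : Nat.card Q = 32) (hC : centralizer (Q : Set S) ≤ Q) : ∃ z, Ext Q z := by
  set f₁ : QuaternionGroup 2 →* S := Q₁.subtype.comp e₁.symm.toMonoidHom with hf₁
  set f₂ : QuaternionGroup 2 →* S := Q₂.subtype.comp e₂.symm.toMonoidHom with hf₂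
  have i1 : Function.Injective f₁ := Q₁.subtype_injective.comp e₁.symm.injective
  have i2 : Function.Injective f₂ := Q₂.subtype_injective.comp e₂.symm.injective
  have r1 : f₁.range = Q₁ := by
    ext x
    constructor
    · rintro ⟨y, rfl⟩; exact (e₁.symm y).2
    · intro hx; exact ⟨e₁ ⟨x, hx⟩, by simp [hf₁]⟩
  have r2 : f₂.range = Q₂ := by
    ext x
    constructor
    · rintro ⟨y, rfl⟩; exact (e₂.symm y).2
    · intro hx; exact ⟨e₂ ⟨x, hx⟩, by simp [hf₂]⟩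
  obtain ⟨a1, a2, a3, a4⟩ := half f₁ i1
  obtain ⟨b1, b2, b3, b4⟩ := half f₂ i2
  rw [r1] at a1 a2 a3 a4
  rw [r2] at b1 b2 b3 b4
  set ζ₁ := f₁ (QuaternionGroup.a 2) with hζ₁
  set ζ₂ := f₂ (QuaternionGroup.a 2) with hζ₂
  have hQ1 : Q₁ ≤ Q := by rw [← hQ]; exact le_sup_left
  have hQ2 : Q₂ ≤ Q := by rw [← hQ]; exact le_sup_right
  -- `Q₁ ∩ Q₂ ≠ 1`
  have hne : Q₁ ⊓ Q₂ ≠ ⊥ := by
    intro hbot
    have h1 : Nat.card (Q₁ × Q₂) ≤ Nat.card Q := by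
      refine Nat.card_le_card_of_injective
        (fun x : Q₁ × Q₂ => (⟨x.1 * x.2, Q.mul_mem (hQ1 x.1.2) (hQ2 x.2.2)⟩ : Q)) ?_
      rintro ⟨⟨p, hp⟩, ⟨q, hq⟩⟩ ⟨⟨p', hp'⟩, ⟨q', hq'⟩⟩ h
      have h2 : p * q = p' * q' := congrArg Subtype.val h
      have h3 : p'⁻¹ * p = q' * q⁻¹ := by
        calc p'⁻¹ * p = p'⁻¹ * (p * q) * q⁻¹ := by group
          _ = q' * q⁻¹ := by rw [h2]; group
      have h4 : p'⁻¹ * p ∈ Q₁ ⊓ Q₂ :=
        ⟨Q₁.mul_mem (Q₁.inv_mem hp') hp, by rw [h3]; exact Q₂.mul_mem hq' (Q₂.inv_mem hq)⟩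
      rw [hbot, mem_bot] at h4
      have h5 : p = p' := (inv_mul_eq_one.1 h4).symm
      subst h5
      have h6 : q = q' := mul_left_cancel h2
      subst h6
      rfl
    have c1 : Nat.card Q₁ = 8 := by
      rw [Nat.card_congr e₁.toEquiv, Nat.card_eq_fintype_card]; rfl
    have c2 : Nat.card Q₂ = 8 := by
      rw [Nat.card_congr e₂.toEquiv, Nat.card_eq_fintype_card]; rfl
    rw [Nat.card_prod, c1, c2, hQ32] at h1
    omega
  obtain ⟨t, ht, ht1⟩ := (Subgroup.bot_or_exists_ne_one _).resolve_left hne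
  have t1 : t = ζ₁ := (a3 t ht.1 (fun p hp => hcomm p hp t ht.2)).resolve_left ht1
  have t2 : t = ζ₂ := (b3 t ht.2 (fun p hp => (hcomm t ht.1 p hp).symm)).resolve_left ht1
  have hζ : ζ₂ = ζ₁ := by rw [← t1, ← t2]
  rw [hζ] at b1 b2 b3 b4
  set z := ζ₁ with hz
  have hz1 : z ∈ Q₁ := by rw [← t1]; exact ht.1
  have hz2 : z ∈ Q₂ := by rw [← t1]; exact ht.2
  have hzz : z * z = 1 := by
    rw [hζ₁, ← map_mul, ← map_one f₁]
    congr 1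
  have hz1c : ∀ p ∈ Q₁, p * z = z * p := fun p hp => hcomm p hp z hz2
  have hz2c : ∀ p ∈ Q₂, p * z = z * p := fun p hp => (hcomm z hz1 p hp).symm
  -- elements of `Q`
  have hprod : ∀ q ∈ Q, ∃ p₁ ∈ Q₁, ∃ p₂ ∈ Q₂, q = p₁ * p₂ := by
    let W : Subgroup S :=
      { carrier := {x | ∃ p₁ ∈ Q₁, ∃ p₂ ∈ Q₂, x = p₁ * p₂}
        one_mem' := ⟨1, one_mem _, 1, one_mem _, by simp⟩
        mul_mem' := by
          rintro _ _ ⟨p, hp, q, hq, rfl⟩ ⟨p', hp', q', hq', rfl⟩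
          refine ⟨p * p', Q₁.mul_mem hp hp', q * q', Q₂.mul_mem hq hq', ?_⟩
          calc p * q * (p' * q') = p * (q * p') * q' := by group
            _ = p * (p' * q) * q' := by rw [hcomm p' hp' q hq]
            _ = _ := by group
        inv_mem' := by
          rintro _ ⟨p, hp, q, hq, rfl⟩
          refine ⟨p⁻¹, Q₁.inv_mem hp, q⁻¹, Q₂.inv_mem hq, ?_⟩
          rw [mul_inv_rev, hcomm _ (Q₁.inv_mem hp) _ (Q₂.inv_mem hq)] }
    have hW : Q ≤ W := by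
      rw [← hQ]
      exact sup_le (fun x hx => ⟨x, hx, 1, one_mem _, by simp⟩) (fun x hx => ⟨1, one_mem _, x, hx, by simp⟩)
    exact fun q hq => hW hq
  have hor : ∀ x y : S, (x = 1 ∨ x = z) → (y = 1 ∨ y = z) → (x * y = 1 ∨ x * y = z) := by
    rintro x y (rfl | rfl) (rfl | rfl)
    · left; simp
    · right; simp
    · right; simp
    · left; exact hzz
  refine ⟨z, ?_, ?_, ?_, ?_, hQ32, hC⟩
  · intro q hq
    obtain ⟨p₁, hp₁, p₂, hp₂, rfl⟩ := hprod q hq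
    have : p₁ * p₂ * (p₁ * p₂) = (p₁ * p₁) * (p₂ * p₂) := by
      calc p₁ * p₂ * (p₁ * p₂) = p₁ * (p₂ * p₁) * p₂ := by group
        _ = p₁ * (p₁ * p₂) * p₂ := by rw [hcomm p₁ hp₁ p₂ hp₂]
        _ = _ := by group
    rw [this]
    exact hor _ _ (a1 _ hp₁) (b1 _ hp₂)
  · intro p hp q hq
    obtain ⟨p₁, hp₁, p₂, hp₂, rfl⟩ := hprod p hp
    obtain ⟨q₁, hq₁, q₂, hq₂, rfl⟩ := hprod q hq
    have k1 := hcomm q₁ hq₁ p₂ hp₂
    have k2 := hcomm p₁⁻¹ (Q₁.inv_mem hp₁) (p₂ * q₂ * p₂⁻¹) (Q₂.mul_mem (Q₂.mul_mem hp₂ hq₂) (Q₂.inv_mem hp₂))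
    have k3 := hcomm q₁⁻¹ (Q₁.inv_mem hq₁) (p₂ * q₂ * p₂⁻¹ * q₂⁻¹)
      (Q₂.mul_mem (Q₂.mul_mem (Q₂.mul_mem hp₂ hq₂) (Q₂.inv_mem hp₂)) (Q₂.inv_mem hq₂))
    have : p₁ * p₂ * (q₁ * q₂) * (p₁ * p₂)⁻¹ * (q₁ * q₂)⁻¹
        = (p₁ * q₁ * p₁⁻¹ * q₁⁻¹) * (p₂ * q₂ * p₂⁻¹ * q₂⁻¹) := by
      calc p₁ * p₂ * (q₁ * q₂) * (p₁ * p₂)⁻¹ * (q₁ * q₂)⁻¹
          = p₁ * (p₂ * q₁) * q₂ * p₂⁻¹ * p₁⁻¹ * q₂⁻¹ * q₁⁻¹ := by group
        _ = p₁ * q₁ * ((p₂ * q₂ * p₂⁻¹) * p₁⁻¹) * q₂⁻¹ * q₁⁻¹ := by rw [← k1]; group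
        _ = p₁ * q₁ * p₁⁻¹ * ((p₂ * q₂ * p₂⁻¹ * q₂⁻¹) * q₁⁻¹) := by rw [← k2]; group
        _ = _ := by rw [← k3]; group
    rw [this]
    exact hor _ _ (a2 _ hp₁ _ hq₁) (b2 _ hp₂ _ hq₂)
  · intro x hx
    obtain ⟨q₁, hq₁, w1⟩ := a4 x (fun q hq => hx q (hQ1 hq))
    obtain ⟨q₂, hq₂, w2⟩ := b4 x (fun q hq => hx q (hQ2 hq))
    have h1 : (q₁ * q₂)⁻¹ * x ∈ centralizer (Q : Set S) := by
      rw [mem_centralizer_iff]
      intro q hq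
      obtain ⟨p₁, hp₁, p₂, hp₂, rfl⟩ := hprod q hq
      have c1 : (q₁ * q₂) * p₁ * (q₁ * q₂)⁻¹ = x * p₁ * x⁻¹ := by
        rw [← w1 p₁ hp₁]
        have := hcomm p₁ hp₁ q₂ hq₂
        calc (q₁ * q₂) * p₁ * (q₁ * q₂)⁻¹ = q₁ * (q₂ * p₁) * q₂⁻¹ * q₁⁻¹ := by group
          _ = q₁ * (p₁ * q₂) * q₂⁻¹ * q₁⁻¹ := by rw [this]
          _ = _ := by group
      have c2 : (q₁ * q₂) * p₂ * (q₁ * q₂)⁻¹ = x * p₂ * x⁻¹ := by
        rw [← w2 p₂ hp₂]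
        have := hcomm q₁ hq₁ (q₂ * p₂ * q₂⁻¹) (Q₂.mul_mem (Q₂.mul_mem hq₂ hp₂) (Q₂.inv_mem hq₂))
        calc (q₁ * q₂) * p₂ * (q₁ * q₂)⁻¹ = (q₁ * (q₂ * p₂ * q₂⁻¹)) * q₁⁻¹ := by group
          _ = ((q₂ * p₂ * q₂⁻¹) * q₁) * q₁⁻¹ := by rw [this]
          _ = _ := by group
      have c3 : (q₁ * q₂) * (p₁ * p₂) * (q₁ * q₂)⁻¹ = x * (p₁ * p₂) * x⁻¹ := by
        calc (q₁ * q₂) * (p₁ * p₂) * (q₁ * q₂)⁻¹
            = ((q₁ * q₂) * p₁ * (q₁ * q₂)⁻¹) * ((q₁ * q₂) * p₂ * (q₁ * q₂)⁻¹) := by group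
          _ = x * (p₁ * p₂) * x⁻¹ := by rw [c1, c2]; group
      calc p₁ * p₂ * ((q₁ * q₂)⁻¹ * x)
          = (q₁ * q₂)⁻¹ * ((q₁ * q₂) * (p₁ * p₂) * (q₁ * q₂)⁻¹) * x := by group
        _ = (q₁ * q₂)⁻¹ * x * (p₁ * p₂) := by rw [c3]; group
    have : x = (q₁ * q₂) * ((q₁ * q₂)⁻¹ * x) := by group
    rw [this]
    exact Q.mul_mem (Q.mul_mem (hQ1 hq₁) (hQ2 hq₂)) (hC h1)
  · intro x hx hxc
    obtain ⟨p₁, hp₁, p₂, hp₂, rfl⟩ := hprod x hx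
    refine hor _ _ (a3 _ hp₁ ?_) (b3 _ hp₂ ?_)
    · intro p hp
      have h1 := hxc p (hQ1 hp)
      have h2 := hcomm p hp p₂ hp₂
      have h3 : p₁ * p * p₂ = p * p₁ * p₂ := by
        calc p₁ * p * p₂ = p₁ * (p * p₂) := by group
          _ = p₁ * p₂ * p := by rw [h2]; group
          _ = p * p₁ * p₂ := by rw [h1]; group
      exact (mul_right_cancel h3).symm
    · intro p hp
      have h1 := hxc p (hQ2 hp)
      have h2 := hcomm p₁ hp₁ p hp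
      have h3 : p₁ * (p₂ * p) = p₁ * (p * p₂) := by
        calc p₁ * (p₂ * p) = p₁ * p₂ * p := by group
          _ = (p * p₁) * p₂ := by rw [h1]; group
          _ = _ := by rw [← h2]; group
      exact (mul_left_cancel h3).symm

end H25.Sec4
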