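import Mathlib
import Cfsg.Agent.Lib.H25.Sec4c

/-!
A normal elementary abelian subgroup of order 8 in a 2-group containing a self-centralizing extraspecial
group of order 32: the centralizer has order at most 16.
-/

set_option autoImplicit false
set_option linter.all false

namespace H25.Sec4

open Subgroup H25.MacW

variable {S : Type*} [Group S]

/-- the configuration obtained from a self-centralizing extraspecial subgroup -/
structure Cf (A : Subgroup S) (z a₁ a₂ α β : S) : Prop where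
  α1 : α * a₁ * α⁻¹ = a₁
  α2 : α * a₂ * α⁻¹ = a₂ * z
  β1 : β * a₁ * β⁻¹ = a₁ * z
  β2 : β * a₂ * β⁻¹ = a₂
  αα : α * α = 1 ∨ α * α = z
  ββ : β * β = 1 ∨ β * β = z
  αβ : α * β = β * α ∨ α * β = z * (β * α)
  cen : ∀ x ∈ centralizer (A : Set S), α * x = x * α → β * x = x * β → x = 1 ∨ x = z

namespace Flag

variable {A A₂ : Subgroup S} {z a₁ a₂ : S} (hF : Flag A A₂ z a₁ a₂)
include hF

theorem conj_mul (g x y : S) : g * (x * y) * g⁻¹ = (g * x * g⁻¹) * (g * y * g⁻¹) := by group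

theorem mem_cases [Finite S] {a : S} (ha : a ∈ A) :
    (a = 1 ∨ a = z ∨ a = a₁ ∨ a = a₁ * z) ∨
    (a = a₂ ∨ a = z * a₂ ∨ a = a₁ * a₂ ∨ a = a₁ * z * a₂) := by
  by_cases h : a ∈ A₂
  · exact Or.inl ((hF.mem2 a).1 h)
  · right
    have h1 := hF.cov ha h
    rcases (hF.mem2 _).1 h1 with e | e | e | e
    · left; exact mul_inv_eq_one.1 e
    · right; left; exact mul_inv_eq_iff_eq_mul.1 e
    · right; right; left; exact mul_inv_eq_iff_eq_mul.1 e
    · right; right; right; exact mul_inv_eq_iff_eq_mul.1 e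

theorem ne12 : a₁ * a₂ ≠ 1 := by
  intro h
  apply hF.n2
  have : a₂ = a₁ := by
    rw [← inv_eq_of_mul_eq_one_right h]
    exact inv_eq_of_mul_eq_one_left (hF.sq a₁ hF.m1)
  rw [this]; exact hF.m12

theorem extQ [Finite S] {Q : Subgroup S} {z' : S} (hE : Ext Q z') :
    z = z' ∧ ∀ q ∈ Q, ∀ a ∈ A, q * a * q⁻¹ = a ∨ q * a * q⁻¹ = a * z := by
  have hzQ : z ∈ Q := hE.cen (by rw [mem_centralizer_iff]; exact fun q _ => hF.hz q)
  have hz' : z = z' := (hE.e4 z hzQ (fun q _ => (hF.hz q).symm)).resolve_left hF.z1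
  subst hz'
  have hcent : ∀ a : S, (∀ q ∈ Q, q * a = a * q) → a = 1 ∨ a = z := by
    intro a ha
    have haQ : a ∈ Q := hE.cen (by rw [mem_centralizer_iff]; exact fun q hq => ha q hq)
    exact hE.e4 a haQ (fun q hq => (ha q hq).symm)
  have h1 : ∃ r ∈ Q, r * a₁ * r⁻¹ = a₁ * z := by
    by_contra hcon
    push Not at hcon
    rcases hcent a₁ (fun q hq => mul_inv_eq_iff_eq_mul.1 ((hF.step1 q).resolve_right (hcon q hq))) with h | h
    · exact hF.n1 h
    · exact hF.n1z h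
  have h2 : ∀ q ∈ Q, q * a₂ * q⁻¹ = a₂ ∨ q * a₂ * q⁻¹ = a₂ * z := by
    intro q hq
    by_contra hcon
    push Not at hcon
    obtain ⟨v, hv, e2⟩ : ∃ v : S, (v = a₁ ∨ v = a₁ * z) ∧ q * a₂ * q⁻¹ = a₂ * v := by
      rcases hF.val2 q with e | e | e | e
      · exact absurd e hcon.1
      · exact absurd e hcon.2
      · exact ⟨_, Or.inl rfl, e⟩
      · exact ⟨_, Or.inr rfl, e⟩
    have hvA2 : v ∈ A₂ := by
      rw [hF.mem2]; rcases hv with h | h
      · exact Or.inr (Or.inr (Or.inl h))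
      · exact Or.inr (Or.inr (Or.inr h))
    have hvA := hF.le hvA2
    -- `q²` acts trivially
    have hqq : q * q * a₂ * (q * q)⁻¹ = a₂ := by
      rcases hE.e1 q hq with h | h
      · rw [h]; group
      · rw [h, ← hF.hz, mul_inv_cancel_right]
    have e3 : v * (q * v * q⁻¹) = 1 := by
      have : q * q * a₂ * (q * q)⁻¹ = a₂ * (v * (q * v * q⁻¹)) := by
        calc q * q * a₂ * (q * q)⁻¹ = q * (q * a₂ * q⁻¹) * q⁻¹ := by group
          _ = q * (a₂ * v) * q⁻¹ := by rw [e2]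
          _ = (q * a₂ * q⁻¹) * (q * v * q⁻¹) := by group
          _ = _ := by rw [e2, mul_assoc]
      rw [this] at hqq
      exact mul_eq_left.1 hqq
    have e4 : q * v * q⁻¹ = v := by
      rw [← inv_eq_of_mul_eq_one_right e3]
      exact inv_eq_of_mul_eq_one_left (hF.sq v hvA)
    obtain ⟨r, hr, er⟩ := h1
    have erv : r * v * r⁻¹ = v * z := by
      rcases hv with rfl | rfl
      · exact er
      · rw [conj_mul hF, er, hF.zconj]
    obtain ⟨u, hu, eu⟩ := hF.step2 r a₂ hF.m2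
    have hquq : q * u * q⁻¹ = u := by
      have hq1 : q * a₁ * q⁻¹ = a₁ := by
        rcases hv with rfl | rfl
        · exact e4
        · rw [conj_mul hF, hF.zconj] at e4
          exact mul_right_cancel e4
      rcases (hF.mem2 u).1 hu with rfl | rfl | rfl | rfl
      · simp
      · exact hF.zconj q
      · exact hq1
      · rw [conj_mul hF, hq1, hF.zconj]
    have hc : q * r * a₂ * (q * r)⁻¹ = r * q * a₂ * (r * q)⁻¹ := by
      rcases hE.e2 q hq r hr with h | h
      · have : q * r = r * q := by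
          calc q * r = (q * r * q⁻¹ * r⁻¹) * (r * q) := by group
            _ = r * q := by rw [h, one_mul]
        rw [this]
      · have : q * r = z * (r * q) := by
          calc q * r = (q * r * q⁻¹ * r⁻¹) * (r * q) := by group
            _ = z * (r * q) := by rw [h]
        rw [this, mul_inv_rev]
        calc z * (r * q) * a₂ * ((r * q)⁻¹ * z⁻¹) = z * ((r * q) * a₂ * (r * q)⁻¹) * z⁻¹ := by group
          _ = _ := by rw [← hF.hz, mul_inv_cancel_right]
    have f1 : q * r * a₂ * (q * r)⁻¹ = a₂ * v * u := by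
      calc q * r * a₂ * (q * r)⁻¹ = q * (r * a₂ * r⁻¹) * q⁻¹ := by group
        _ = q * (a₂ * u) * q⁻¹ := by rw [eu]
        _ = a₂ * v * u := by rw [conj_mul hF, e2, hquq]
    have f2 : r * q * a₂ * (r * q)⁻¹ = a₂ * u * (v * z) := by
      calc r * q * a₂ * (r * q)⁻¹ = r * (q * a₂ * q⁻¹) * r⁻¹ := by group
        _ = r * (a₂ * v) * r⁻¹ := by rw [e2]
        _ = a₂ * u * (v * z) := by rw [conj_mul hF, eu, erv]
    rw [f1, f2, mul_assoc, mul_assoc, hF.comm v hvA u (hF.le hu)] at hc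
    have h5 := mul_left_cancel (mul_left_cancel hc)
    exact hF.z1 (mul_eq_left.1 h5.symm)
  refine ⟨rfl, fun q hq a ha => ?_⟩
  have k1 := hF.step1 q
  have k2 := h2 q hq
  have hzz := hF.zz
  have hor : ∀ x y : S, (q * x * q⁻¹ = x ∨ q * x * q⁻¹ = x * z) → (q * y * q⁻¹ = y ∨ q * y * q⁻¹ = y * z) →
      (q * (x * y) * q⁻¹ = x * y ∨ q * (x * y) * q⁻¹ = x * y * z) := by
    intro x y hx hy
    rw [conj_mul hF]
    rcases hx with hx | hx <;> rcases hy with hy | hy <;> rw [hx, hy]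
    · left; rfl
    · right; rw [mul_assoc]
    · right; rw [mul_assoc, mul_assoc, ← hF.hz y]
    · left
      calc x * z * (y * z) = x * (z * y) * z := by group
        _ = x * (y * z) * z := by rw [hF.hz y]
        _ = x * y * (z * z) := by group
        _ = x * y := by rw [hzz, mul_one]
  have kz : q * z * q⁻¹ = z ∨ q * z * q⁻¹ = z * z := Or.inl (hF.zconj q)
  have k0 : q * 1 * q⁻¹ = (1 : S) ∨ q * 1 * q⁻¹ = 1 * z := Or.inl (by simp)
  rcases hF.mem_cases ha with (rfl | rfl | rfl | rfl) | (rfl | rfl | rfl | rfl)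
  · exact k0
  · exact kz
  · exact k1
  · exact hor _ _ k1 kz
  · exact k2
  · exact hor _ _ kz k2
  · exact hor _ _ k1 k2
  · exact hor _ _ (hor _ _ k1 kz) k2

theorem exists_Cf [Finite S] {Q : Subgroup S} {z' : S} (hE : Ext Q z') : ∃ α β : S, Cf A z a₁ a₂ α β := by
  obtain ⟨hz', hQA⟩ := hF.extQ hE
  subst hz'
  have hcent : ∀ a : S, (∀ q ∈ Q, q * a = a * q) → a = 1 ∨ a = z := by
    intro a ha
    have haQ : a ∈ Q := hE.cen (by rw [mem_centralizer_iff]; exact fun q hq => ha q hq)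
    exact hE.e4 a haQ (fun q hq => (ha q hq).symm)
  have hne : ∀ a ∈ A, a ≠ 1 → a ≠ z → ∃ q ∈ Q, q * a * q⁻¹ = a * z := by
    intro a ha h1 h2
    by_contra hcon
    push Not at hcon
    rcases hcent a (fun q hq => mul_inv_eq_iff_eq_mul.1 ((hQA q hq a ha).resolve_right (hcon q hq))) with h | h
    · exact h1 h
    · exact h2 h
  have hzz := hF.zz
  have m12 : a₁ * a₂ ∈ A := A.mul_mem hF.m1 hF.m2
  obtain ⟨q₁, hq₁, w1⟩ := hne a₁ hF.m1 hF.n1 hF.n1z
  obtain ⟨q₂, hq₂, w2⟩ := hne a₂ hF.m2 (fun h => hF.n2 (by rw [h]; exact one_mem _))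
    (fun h => hF.n2 (by rw [h]; exact hF.mz2))
  obtain ⟨q₃, hq₃, w3⟩ := hne (a₁ * a₂) m12 hF.ne12 (by
    intro h
    apply hF.n2
    have : a₂ = a₁ * z := by
      rw [← h, ← mul_assoc, hF.sq a₁ hF.m1, one_mul]
    rw [this, hF.mem2]
    exact Or.inr (Or.inr (Or.inr rfl)))
  have hmul : ∀ (p q x : S), p * x * p⁻¹ = x * z → q * x * q⁻¹ = x * z → (p * q) * x * (p * q)⁻¹ = x := by
    intro p q x h1 h2
    calc (p * q) * x * (p * q)⁻¹ = p * (q * x * q⁻¹) * p⁻¹ := by group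
      _ = (p * x * p⁻¹) * (p * z * p⁻¹) := by rw [h2]; group
      _ = x := by rw [h1, hF.zconj, mul_assoc, hzz, mul_one]
  have hmul' : ∀ (p q x : S), p * x * p⁻¹ = x * z → q * x * q⁻¹ = x → (p * q) * x * (p * q)⁻¹ = x * z := by
    intro p q x h1 h2
    calc (p * q) * x * (p * q)⁻¹ = p * (q * x * q⁻¹) * p⁻¹ := by group
      _ = x * z := by rw [h2, h1]
  -- find `α`, `β`
  obtain ⟨α, hα, α1, α2, β, hβ, β1, β2⟩ : ∃ α ∈ Q, α * a₁ * α⁻¹ = a₁ ∧ α * a₂ * α⁻¹ = a₂ * z ∧
      ∃ β ∈ Q, β * a₁ * β⁻¹ = a₁ * z ∧ β * a₂ * β⁻¹ = a₂ := by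
    rcases hQA q₃ hq₃ a₁ hF.m1 with u1 | u1 <;> rcases hQA q₃ hq₃ a₂ hF.m2 with u2 | u2
    · exfalso
      rw [conj_mul hF, u1, u2] at w3
      exact hF.z1 (mul_eq_left.1 w3.symm)
    · -- α = q₃
      rcases hQA q₁ hq₁ a₂ hF.m2 with u3 | u3
      · exact ⟨q₃, hq₃, u1, u2, q₁, hq₁, w1, u3⟩
      · exact ⟨q₃, hq₃, u1, u2, q₁ * q₃, Q.mul_mem hq₁ hq₃, hmul' _ _ _ w1 u1, hmul _ _ _ u3 u2⟩
    · rcases hQA q₂ hq₂ a₁ hF.m1 with u3 | u3
      · exact ⟨q₂, hq₂, u3, w2, q₃, hq₃, u1, u2⟩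
      · exact ⟨q₂ * q₃, Q.mul_mem hq₂ hq₃, hmul _ _ _ u3 u1, hmul' _ _ _ w2 u2, q₃, hq₃, u1, u2⟩
    · exfalso
      have : q₃ * (a₁ * a₂) * q₃⁻¹ = a₁ * a₂ := by
        rw [conj_mul hF, u1, u2]
        calc a₁ * z * (a₂ * z) = a₁ * (z * a₂) * z := by group
          _ = a₁ * (a₂ * z) * z := by rw [hF.hz a₂]
          _ = a₁ * a₂ * (z * z) := by group
          _ = a₁ * a₂ := by rw [hzz, mul_one]
      rw [this] at w3
      exact hF.z1 (mul_eq_left.1 w3.symm)
  -- `A ≤ Q`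
  have hAQ : A ≤ Q := by
    intro a ha
    apply hE.e3
    intro q hq
    have h1 : a * q * a⁻¹ * q⁻¹ = a * (q * a * q⁻¹)⁻¹ := by group
    rw [h1]
    rcases hQA q hq a ha with h | h
    · left; rw [h, mul_inv_cancel]
    · right
      rw [h, mul_inv_rev, hF.comm a ha (z⁻¹ * a⁻¹) (A.mul_mem (A.inv_mem hF.mz) (A.inv_mem ha)),
        inv_mul_cancel_right]
      exact inv_eq_of_mul_eq_one_left hzz
  -- generation
  have hgen : Q ≤ (A ⊔ zpowers α) ⊔ zpowers β := by
    have h1 : A < A ⊔ zpowers α := by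
      refine lt_of_le_of_ne le_sup_left ?_
      intro h
      have h2 : α ∈ A := by rw [h]; exact (le_sup_right : zpowers α ≤ A ⊔ zpowers α) (mem_zpowers α)
      have h3 := hF.comm α h2 a₂ hF.m2
      rw [h3, mul_inv_cancel_right] at α2
      exact hF.z1 (mul_eq_left.1 α2.symm)
    have h2 : A ⊔ zpowers α < (A ⊔ zpowers α) ⊔ zpowers β := by
      refine lt_of_le_of_ne le_sup_left ?_
      intro h
      have h2 : β ∈ A ⊔ zpowers α := by
        rw [h]; exact (le_sup_right : zpowers β ≤ (A ⊔ zpowers α) ⊔ zpowers β) (mem_zpowers β)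
      have h3 : A ⊔ zpowers α ≤ centralizer ({a₁} : Set S) := by
        refine sup_le ?_ ?_
        · intro a ha
          rw [mem_centralizer_singleton_iff]
          exact hF.comm a ha a₁ hF.m1
        · rw [zpowers_le, mem_centralizer_singleton_iff]
          exact mul_inv_eq_iff_eq_mul.1 α1
      have h4 := mem_centralizer_singleton_iff.1 (h3 h2)
      rw [h4, mul_inv_cancel_right] at β1
      exact hF.z1 (mul_eq_left.1 β1.symm)
    have c1 := two_mul_card_le h1
    have c2 := two_mul_card_le h2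
    rw [hF.c8] at c1
    have hle : (A ⊔ zpowers α) ⊔ zpowers β ≤ Q :=
      sup_le (sup_le hAQ (by rwa [zpowers_le])) (by rwa [zpowers_le])
    have : (A ⊔ zpowers α) ⊔ zpowers β = Q :=
      Subgroup.eq_of_le_of_card_ge hle (by rw [hE.c]; omega)
    rw [this]
  refine ⟨α, β, α1, α2, β1, β2, hE.e1 α hα, hE.e1 β hβ, ?_, ?_⟩
  · rcases hE.e2 α hα β hβ with h | h
    · left
      calc α * β = (α * β * α⁻¹ * β⁻¹) * (β * α) := by group
        _ = β * α := by rw [h, one_mul]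
    · right
      calc α * β = (α * β * α⁻¹ * β⁻¹) * (β * α) := by group
        _ = z * (β * α) := by rw [h]
  · intro x hx hxα hxβ
    apply hcent
    intro q hq
    have h1 : (A ⊔ zpowers α) ⊔ zpowers β ≤ centralizer ({x} : Set S) := by
      refine sup_le (sup_le ?_ ?_) ?_
      · intro a ha
        rw [mem_centralizer_singleton_iff]
        exact (mem_centralizer_iff.1 hx) a ha
      · rw [zpowers_le, mem_centralizer_singleton_iff]
        exact hxα
      · rw [zpowers_le, mem_centralizer_singleton_iff]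
        exact hxβ
    exact mem_centralizer_singleton_iff.1 (h1 (hgen hq))

end Flag

end H25.Sec4
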