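import Mathlib
import Cfsg.Agent.Lib.H25.Sec4d

/-!
The centralizer of a normal elementary abelian subgroup of order 8 in a 2-group containing a
self-centralizing extraspecial group of order 32 has order at most 16.
-/

set_option autoImplicit false
set_option linter.all false

namespace H25.Sec4

open Subgroup H25.MacW

variable {S : Type*} [Group S]

namespace Cf

variable {A A₂ : Subgroup S} {z a₁ a₂ α β : S} (hc : Cf A z a₁ a₂ α β) (hF : Flag A A₂ z a₁ a₂)
include hc hF

theorem sqfix {t d f : S} (htt : t * t = 1 ∨ t * t = z) (h : t * d * t⁻¹ = d * f) :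
    f * (t * f * t⁻¹) = 1 := by
  have h1 : t * t * d * (t * t)⁻¹ = d := by
    rcases htt with e | e
    · rw [e]; group
    · rw [e, ← hF.hz, mul_inv_cancel_right]
  have h2 : t * t * d * (t * t)⁻¹ = d * (f * (t * f * t⁻¹)) := by
    calc t * t * d * (t * t)⁻¹ = t * (t * d * t⁻¹) * t⁻¹ := by group
      _ = t * (d * f) * t⁻¹ := by rw [h]
      _ = (t * d * t⁻¹) * (t * f * t⁻¹) := by group
      _ = _ := by rw [h, mul_assoc]
  rw [h2] at h1
  exact mul_eq_left.1 h1

theorem commfix {d f g : S} (h1 : α * d * α⁻¹ = d * f) (h2 : β * d * β⁻¹ = d * g) :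
    f * (α * g * α⁻¹) = g * (β * f * β⁻¹) := by
  have e1 : α * β * d * (α * β)⁻¹ = d * (f * (α * g * α⁻¹)) := by
    calc α * β * d * (α * β)⁻¹ = α * (β * d * β⁻¹) * α⁻¹ := by group
      _ = α * (d * g) * α⁻¹ := by rw [h2]
      _ = (α * d * α⁻¹) * (α * g * α⁻¹) := by group
      _ = _ := by rw [h1, mul_assoc]
  have e2 : β * α * d * (β * α)⁻¹ = d * (g * (β * f * β⁻¹)) := by
    calc β * α * d * (β * α)⁻¹ = β * (α * d * α⁻¹) * β⁻¹ := by group
      _ = β * (d * f) * β⁻¹ := by rw [h1]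
      _ = (β * d * β⁻¹) * (β * f * β⁻¹) := by group
      _ = _ := by rw [h2, mul_assoc]
  have e3 : α * β * d * (α * β)⁻¹ = β * α * d * (β * α)⁻¹ := by
    rcases hc.αβ with h | h
    · rw [h]
    · rw [h, mul_inv_rev z]
      calc z * (β * α) * d * ((β * α)⁻¹ * z⁻¹) = z * (β * α * d * (β * α)⁻¹) * z⁻¹ := by group
        _ = _ := by rw [← hF.hz, mul_inv_cancel_right]
  rw [e1, e2] at e3
  exact mul_left_cancel e3

theorem moved_mul {t x y : S} (hx : t * x * t⁻¹ = x * z) (hy : t * y * t⁻¹ = y) :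
    t * (x * y) * t⁻¹ = x * y * z := by
  rw [hF.conj_mul, hx, hy, mul_assoc, ← hF.hz y, mul_assoc]

theorem mul_moved {t x y : S} (hx : t * x * t⁻¹ = x) (hy : t * y * t⁻¹ = y * z) :
    t * (x * y) * t⁻¹ = x * y * z := by
  rw [hF.conj_mul, hx, hy, mul_assoc]

theorem fixed_mul {t x y : S} (hx : t * x * t⁻¹ = x) (hy : t * y * t⁻¹ = y) :
    t * (x * y) * t⁻¹ = x * y := by
  rw [hF.conj_mul, hx, hy]

theorem not_both {t x : S} (h1 : t * x * t⁻¹ = x) (h2 : t * x * t⁻¹ = x * z) : False := by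
  rw [h1] at h2
  exact hF.z1 (mul_eq_left.1 h2.symm)

variable [Finite S]

theorem fixα {f : S} (hf : f ∈ A) (h : α * f * α⁻¹ = f) : f = 1 ∨ f = z ∨ f = a₁ ∨ f = a₁ * z := by
  have kz := hF.zconj α
  rcases hF.mem_cases hf with h' | h'
  · exact h'
  · exfalso
    rcases h' with rfl | rfl | rfl | rfl
    · exact hc.not_both hF h hc.α2
    · exact hc.not_both hF h (hc.mul_moved hF kz hc.α2)
    · exact hc.not_both hF h (hc.mul_moved hF hc.α1 hc.α2)
    · exact hc.not_both hF h (hc.mul_moved hF (hc.fixed_mul hF hc.α1 kz) hc.α2)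

theorem fixβ {g : S} (hg : g ∈ A) (h : β * g * β⁻¹ = g) : g = 1 ∨ g = z ∨ g = a₂ ∨ g = a₂ * z := by
  have kz := hF.zconj β
  rcases hF.mem_cases hg with (rfl | rfl | rfl | rfl) | (rfl | rfl | rfl | rfl)
  · exact Or.inl rfl
  · exact Or.inr (Or.inl rfl)
  · exact (hc.not_both hF h hc.β1).elim
  · exact (hc.not_both hF h (hc.moved_mul hF hc.β1 kz)).elim
  · exact Or.inr (Or.inr (Or.inl rfl))
  · exact Or.inr (Or.inr (Or.inr (hF.hz a₂).symm))
  · exact (hc.not_both hF h (hc.moved_mul hF hc.β1 hc.β2)).elim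
  · exact (hc.not_both hF h (hc.moved_mul hF (hc.moved_mul hF hc.β1 kz) hc.β2)).elim

/-- `L0` -/
theorem mem_A_of {d : S} (hd : d ∈ centralizer (A : Set S)) (h1 : α * d * α⁻¹ = d ∨ α * d * α⁻¹ = d * z)
    (h2 : β * d * β⁻¹ = d ∨ β * d * β⁻¹ = d * z) : d ∈ A := by
  have hzz := hF.zz
  have key : ∀ a ∈ A, α * (d * a) * α⁻¹ = d * a → β * (d * a) * β⁻¹ = d * a → d ∈ A := by
    intro a ha e1 e2
    have h3 : d * a ∈ centralizer (A : Set S) := (centralizer (A : Set S)).mul_mem hd (hF.A_le_C ha)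
    have h4 : d * a ∈ A := by
      rcases hc.cen _ h3 (mul_inv_eq_iff_eq_mul.1 e1) (mul_inv_eq_iff_eq_mul.1 e2) with h | h
      · rw [h]; exact one_mem _
      · rw [h]; exact hF.mz
    have : d = (d * a) * a⁻¹ := by group
    rw [this]
    exact A.mul_mem h4 (A.inv_mem ha)
  have mm : ∀ t x y : S, t * x * t⁻¹ = x * z → t * y * t⁻¹ = y * z → t * (x * y) * t⁻¹ = x * y := by
    intro t x y e1 e2
    rw [hF.conj_mul, e1, e2]
    calc x * z * (y * z) = x * (z * y) * z := by group
      _ = x * (y * z) * z := by rw [hF.hz y]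
      _ = x * y * (z * z) := by group
      _ = x * y := by rw [hzz, mul_one]
  rcases h1 with h1 | h1 <;> rcases h2 with h2 | h2
  · exact key 1 (one_mem _) (by rw [mul_one]; exact h1) (by rw [mul_one]; exact h2)
  · exact key a₁ hF.m1 (hc.fixed_mul hF h1 hc.α1) (mm _ _ _ h2 hc.β1)
  · exact key a₂ hF.m2 (mm _ _ _ h1 hc.α2) (hc.fixed_mul hF h2 hc.β2)
  · refine key (a₁ * a₂) (A.mul_mem hF.m1 hF.m2) ?_ ?_
    · exact mm _ _ _ h1 (hc.mul_moved hF hc.α1 hc.α2)
    · exact mm _ _ _ h2 (hc.moved_mul hF hc.β1 hc.β2)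

/-- `L1` -/
theorem cocycle {d f g : S} (hf : f ∈ A) (hg : g ∈ A) (h1 : α * d * α⁻¹ = d * f)
    (h2 : β * d * β⁻¹ = d * g) :
    ((f = 1 ∨ f = z) ∧ (g = 1 ∨ g = z)) ∨ ((f = a₁ ∨ f = a₁ * z) ∧ (g = a₂ ∨ g = a₂ * z)) := by
  have kα := hF.zconj α
  have kβ := hF.zconj β
  have inv_self : ∀ x ∈ A, x⁻¹ = x := fun x hx => inv_eq_of_mul_eq_one_left (hF.sq x hx)
  have e1 : α * f * α⁻¹ = f := by
    rw [← inv_eq_of_mul_eq_one_right (hc.sqfix hF hc.αα h1)]; exact inv_self f hf
  have e2 : β * g * β⁻¹ = g := by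
    rw [← inv_eq_of_mul_eq_one_right (hc.sqfix hF hc.ββ h2)]; exact inv_self g hg
  have e3 := hc.commfix hF h1 h2
  have f' := hc.fixα hF hf e1
  have g' := hc.fixβ hF hg e2
  have hαg : (g = 1 ∨ g = z) → α * g * α⁻¹ = g := by
    rintro (rfl | rfl)
    · simp
    · exact kα
  have hαg' : (g = a₂ ∨ g = a₂ * z) → α * g * α⁻¹ = g * z := by
    rintro (rfl | rfl)
    · exact hc.α2
    · exact hc.moved_mul hF hc.α2 kα
  have hβf : (f = 1 ∨ f = z) → β * f * β⁻¹ = f := by
    rintro (rfl | rfl)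
    · simp
    · exact kβ
  have hβf' : (f = a₁ ∨ f = a₁ * z) → β * f * β⁻¹ = f * z := by
    rintro (rfl | rfl)
    · exact hc.β1
    · exact hc.moved_mul hF hc.β1 kβ
  have hfg := hF.comm f hf g hg
  have F : (f = 1 ∨ f = z) ∨ (f = a₁ ∨ f = a₁ * z) := by
    rcases f' with h | h | h | h
    · exact Or.inl (Or.inl h)
    · exact Or.inl (Or.inr h)
    · exact Or.inr (Or.inl h)
    · exact Or.inr (Or.inr h)
  have G : (g = 1 ∨ g = z) ∨ (g = a₂ ∨ g = a₂ * z) := by
    rcases g' with h | h | h | h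
    · exact Or.inl (Or.inl h)
    · exact Or.inl (Or.inr h)
    · exact Or.inr (Or.inl h)
    · exact Or.inr (Or.inr h)
  rcases F with F | F <;> rcases G with G | G
  · exact Or.inl ⟨F, G⟩
  · exfalso
    rw [hαg' G, hβf F, ← mul_assoc, hfg] at e3
    exact hF.z1 (mul_eq_left.1 e3)
  · exfalso
    rw [hαg G, hβf' F, ← mul_assoc, hfg] at e3
    exact hF.z1 (mul_eq_left.1 e3.symm)
  · exact Or.inr ⟨F, G⟩

theorem bound (hS : IsPGroup 2 S) : Cfsg.SectionalPRankLE 2 4 S := by
  classical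
  set C := centralizer (A : Set S) with hCdef
  have hAC : A ≤ C := hF.A_le_C
  have hCn : ∀ g : S, ∀ x ∈ C, g * x * g⁻¹ ∈ C := by
    intro g x hx
    rw [hCdef, mem_centralizer_iff] at hx ⊢
    intro a ha
    have h := hx (g⁻¹ * a * g) (by simpa using hF.nA g⁻¹ a ha)
    calc a * (g * x * g⁻¹) = g * ((g⁻¹ * a * g) * x) * g⁻¹ := by group
      _ = g * (x * (g⁻¹ * a * g)) * g⁻¹ := by rw [h]
      _ = g * x * g⁻¹ * a := by group
  have hzz := hF.zz
  have inv_self : ∀ x ∈ A, x⁻¹ = x := fun x hx => inv_eq_of_mul_eq_one_left (hF.sq x hx)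
  by_cases hAeq : A = C
  · refine hF.GF2 hS ?_ ?_
    · rw [← hCdef, ← hAeq, hF.c8]; norm_num
    · intro h
      rw [← hCdef, ← hAeq, hF.c8] at h
      norm_num at h
  have hlt : A < C := lt_of_le_of_ne hAC hAeq
  have conjC : ∀ c ∈ C, ∀ a ∈ A, c * a = a * c := fun c hc' a ha => ((mem_centralizer_iff.1 hc') a ha).symm
  -- the element `c`
  obtain ⟨c, hcC, hcA, cα, cβ⟩ : ∃ c ∈ C, c ∉ A ∧ α * c * α⁻¹ = c * a₁ ∧ β * c * β⁻¹ = c * a₂ := by
    obtain ⟨d, hdC, hdA, hd⟩ := FP hS hlt ({α, β} : Set S) (fun r _ x hx => hF.nA r x hx)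
      (fun r _ x hx => hCn r x hx)
    have hf := hd α (by simp)
    have hg := hd β (by simp)
    have h1 : α * d * α⁻¹ = d * (d⁻¹ * (α * d * α⁻¹)) := by group
    have h2 : β * d * β⁻¹ = d * (d⁻¹ * (β * d * β⁻¹)) := by group
    set f := d⁻¹ * (α * d * α⁻¹) with hfdef
    set g := d⁻¹ * (β * d * β⁻¹) with hgdef
    rcases hc.cocycle hF hf hg h1 h2 with ⟨F, G⟩ | ⟨F, G⟩
    · exfalso
      apply hdA
      refine hc.mem_A_of hF hdC ?_ ?_
      · rcases F with F | F
        · left; rw [h1, F, mul_one]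
        · right; rw [h1, F]
      · rcases G with G | G
        · left; rw [h2, G, mul_one]
        · right; rw [h2, G]
    · -- adjust
      have adj : ∀ a ∈ A, d * a ∉ A := by
        intro a ha hda
        apply hdA
        have : d = (d * a) * a⁻¹ := by group
        rw [this]
        exact A.mul_mem hda (A.inv_mem ha)
      have fin : ∀ a ∈ A, α * a * α⁻¹ = a * (f * a₁) → β * a * β⁻¹ = a * (g * a₂) →
          ∃ c ∈ C, c ∉ A ∧ α * c * α⁻¹ = c * a₁ ∧ β * c * β⁻¹ = c * a₂ := by
        intro a ha e1 e2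
        refine ⟨d * a, C.mul_mem hdC (hAC ha), adj a ha, ?_, ?_⟩
        · rw [hF.conj_mul, h1, e1]
          calc d * f * (a * (f * a₁)) = d * (f * a) * (f * a₁) := by group
            _ = d * (a * f) * (f * a₁) := by rw [hF.comm f hf a ha]
            _ = d * a * (f * f) * a₁ := by group
            _ = d * a * a₁ := by rw [hF.sq f hf, mul_one]
        · rw [hF.conj_mul, h2, e2]
          calc d * g * (a * (g * a₂)) = d * (g * a) * (g * a₂) := by group
            _ = d * (a * g) * (g * a₂) := by rw [hF.comm g hg a ha]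
            _ = d * a * (g * g) * a₂ := by group
            _ = d * a * a₂ := by rw [hF.sq g hg, mul_one]
      have s1 := hF.sq a₁ hF.m1
      have s2 := hF.sq a₂ hF.m2
      have t1 : a₁ * z * a₁ = z := by rw [mul_assoc, ← hF.hz a₁, ← mul_assoc, s1, one_mul]
      have t2 : a₂ * z * a₂ = z := by rw [mul_assoc, ← hF.hz a₂, ← mul_assoc, s2, one_mul]
      rcases F with F | F <;> rcases G with G | G
      · exact fin 1 (one_mem _) (by rw [F, s1]; simp) (by rw [G, s2]; simp)
      · exact fin a₁ hF.m1 (by rw [F, s1, mul_one]; exact hc.α1) (by rw [G, t2]; exact hc.β1)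
      · exact fin a₂ hF.m2 (by rw [F, t1]; exact hc.α2) (by rw [G, s2, mul_one]; exact hc.β2)
      · exact fin (a₁ * a₂) (A.mul_mem hF.m1 hF.m2)
          (by rw [F, t1]; exact hc.mul_moved hF hc.α1 hc.α2)
          (by rw [G, t2]; exact hc.moved_mul hF hc.β1 hc.β2)
  -- `c²`
  have hcc : c * c = 1 ∨ c * c = z := by
    refine hc.cen _ (C.mul_mem hcC hcC) ?_ ?_
    · apply mul_inv_eq_iff_eq_mul.1
      rw [hF.conj_mul, cα]
      calc c * a₁ * (c * a₁) = c * (a₁ * c) * a₁ := by group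
        _ = c * (c * a₁) * a₁ := by rw [conjC c hcC a₁ hF.m1]
        _ = c * c * (a₁ * a₁) := by group
        _ = c * c := by rw [hF.sq a₁ hF.m1, mul_one]
    · apply mul_inv_eq_iff_eq_mul.1
      rw [hF.conj_mul, cβ]
      calc c * a₂ * (c * a₂) = c * (a₂ * c) * a₂ := by group
        _ = c * (c * a₂) * a₂ := by rw [conjC c hcC a₂ hF.m2]
        _ = c * c * (a₂ * a₂) := by group
        _ = c * c := by rw [hF.sq a₂ hF.m2, mul_one]
  have hccA : c * c ∈ A := by
    rcases hcc with h | h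
    · rw [h]; exact one_mem _
    · rw [h]; exact hF.mz
  -- conjugates of elements of `A`
  have aα : ∀ a ∈ A, α * a * α⁻¹ = a ∨ α * a * α⁻¹ = a * z := by
    intro a ha
    have kz := hF.zconj α
    rcases hF.mem_cases ha with (rfl | rfl | rfl | rfl) | (rfl | rfl | rfl | rfl)
    · left; simp
    · left; exact kz
    · left; exact hc.α1
    · left; exact hc.fixed_mul hF hc.α1 kz
    · right; exact hc.α2
    · right; exact hc.mul_moved hF kz hc.α2
    · right; exact hc.mul_moved hF hc.α1 hc.α2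
    · right; exact hc.mul_moved hF (hc.fixed_mul hF hc.α1 kz) hc.α2
  have aβ : ∀ a ∈ A, β * a * β⁻¹ = a ∨ β * a * β⁻¹ = a * z := by
    intro a ha
    have kz := hF.zconj β
    rcases hF.mem_cases ha with (rfl | rfl | rfl | rfl) | (rfl | rfl | rfl | rfl)
    · left; simp
    · left; exact kz
    · right; exact hc.β1
    · right; exact hc.moved_mul hF hc.β1 kz
    · left; exact hc.β2
    · left; exact hc.fixed_mul hF kz hc.β2
    · right; exact hc.moved_mul hF hc.β1 hc.β2
    · right; exact hc.moved_mul hF (hc.moved_mul hF hc.β1 kz) hc.β2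
  -- the subgroup `B`
  let B : Subgroup S :=
    { carrier := {x | x ∈ A ∨ x * c ∈ A}
      one_mem' := Or.inl (one_mem _)
      mul_mem' := by
        rintro x y hx hy
        rcases hx with hx | hx <;> rcases hy with hy | hy
        · exact Or.inl (A.mul_mem hx hy)
        · right; rw [mul_assoc]; exact A.mul_mem hx hy
        · right
          rw [mul_assoc, ← conjC c hcC y hy, ← mul_assoc]; exact A.mul_mem hx hy
        · left
          have h1 : x * y = (x * c) * (y * c) * (c * c)⁻¹ := by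
            have h2 := conjC c hcC _ hy
            calc x * y = x * ((y * c) * c) * (c * c)⁻¹ := by group
              _ = x * (c * (y * c)) * (c * c)⁻¹ := by rw [h2]
              _ = _ := by group
          rw [h1]
          exact A.mul_mem (A.mul_mem hx hy) (A.inv_mem hccA)
      inv_mem' := by
        rintro x hx
        rcases hx with hx | hx
        · exact Or.inl (A.inv_mem hx)
        · right
          have h1 : x⁻¹ * c = (c * c) * (x * c)⁻¹ := by
            have h2 := conjC c hcC _ (A.inv_mem hx)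
            calc x⁻¹ * c = c * (x * c)⁻¹ * c := by group
              _ = c * ((x * c)⁻¹ * c) := by group
              _ = c * (c * (x * c)⁻¹) := by rw [h2]
              _ = _ := by group
          rw [h1]
          exact A.mul_mem hccA (A.inv_mem hx) }
  have hBmem : ∀ x, x ∈ B ↔ x ∈ A ∨ x * c ∈ A := fun x => Iff.rfl
  have hAB : A ≤ B := fun x hx => Or.inl hx
  have hcB : c ∈ B := Or.inr hccA
  have hBA : ∀ x ∈ B, x ∉ A → ∃ a ∈ A, x = c * a := by
    intro x hx hxA
    have h1 : x * c ∈ A := hx.resolve_left hxA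
    refine ⟨(x * c) * (c * c)⁻¹, A.mul_mem h1 (A.inv_mem hccA), ?_⟩
    have h2 := conjC c hcC _ h1
    calc x = ((x * c) * c) * (c * c)⁻¹ := by group
      _ = (c * (x * c)) * (c * c)⁻¹ := by rw [h2]
      _ = _ := by group
  have hBC : B ≤ C := by
    intro x hx
    by_cases h : x ∈ A
    · exact hAC h
    · obtain ⟨a, ha, rfl⟩ := hBA x hx h
      exact C.mul_mem hcC (hAC ha)
  have hBcard : Nat.card B ≤ 16 := by
    have h1 : Nat.card B ≤ 2 * Nat.card (B ⊓ A : Subgroup S) := by
      apply card_half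
      intro x hx y hy hxA hyA
      obtain ⟨a, ha, rfl⟩ := hBA x hx hxA
      obtain ⟨b, hb, rfl⟩ := hBA y hy hyA
      have : c * a * (c * b) = (c * c) * (a * b) := by
        calc c * a * (c * b) = c * (a * c) * b := by group
          _ = c * (c * a) * b := by rw [conjC c hcC a ha]
          _ = _ := by group
      rw [this]
      exact A.mul_mem hccA (A.mul_mem ha hb)
    rw [inf_eq_right.2 hAB, hF.c8] at h1
    exact h1
  have hBα : ∀ x ∈ B, α * x * α⁻¹ ∈ B := by
    intro x hx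
    by_cases h : x ∈ A
    · exact hAB (hF.nA _ _ h)
    · obtain ⟨a, ha, rfl⟩ := hBA x hx h
      rw [hF.conj_mul, cα]
      exact B.mul_mem (B.mul_mem hcB (hAB hF.m1)) (hAB (hF.nA _ _ ha))
  have hBβ : ∀ x ∈ B, β * x * β⁻¹ ∈ B := by
    intro x hx
    by_cases h : x ∈ A
    · exact hAB (hF.nA _ _ h)
    · obtain ⟨a, ha, rfl⟩ := hBA x hx h
      rw [hF.conj_mul, cβ]
      exact B.mul_mem (B.mul_mem hcB (hAB hF.m2)) (hAB (hF.nA _ _ ha))
  -- computation for elements outside `A`
  have hout : ∀ (t w : S), (∀ a ∈ A, t * a * t⁻¹ = a ∨ t * a * t⁻¹ = a * z) → t * c * t⁻¹ = c * w →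
      w ∈ A → w ≠ 1 → w ≠ z → ∀ a ∈ A, (c * a) * (t * (c * a) * t⁻¹) ≠ 1 := by
    intro t w ht htc hw w1 wz a ha h
    have ww := hF.sq w hw
    obtain ⟨e, he, hea⟩ : ∃ e, (e = 1 ∨ e = z) ∧ t * a * t⁻¹ = a * e := by
      rcases ht a ha with h' | h'
      · exact ⟨1, Or.inl rfl, by rw [mul_one]; exact h'⟩
      · exact ⟨z, Or.inr rfl, h'⟩
    have heA : e ∈ A := by
      rcases he with rfl | rfl
      · exact one_mem _
      · exact hF.mz
    have h2 : (c * a) * (t * (c * a) * t⁻¹) = (c * c) * e * w := by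
      rw [hF.conj_mul, htc, hea]
      calc c * a * (c * w * (a * e)) = c * (a * c) * w * (a * e) := by group
        _ = c * (c * a) * w * (a * e) := by rw [conjC c hcC a ha]
        _ = (c * c) * (a * w) * (a * e) := by group
        _ = (c * c) * (w * a) * (a * e) := by rw [hF.comm a ha w hw]
        _ = (c * c) * w * (a * a) * e := by group
        _ = (c * c) * (w * e) := by rw [hF.sq a ha]; group
        _ = (c * c) * (e * w) := by rw [hF.comm w hw e heA]
        _ = _ := by group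
    rw [h2] at h
    have h3 : w = c * c * e := by
      have := inv_eq_of_mul_eq_one_left h
      rw [inv_self w hw] at this
      exact this
    rcases hcc with k | k <;> rcases he with k' | k' <;> rw [k, k'] at h3
    · exact w1 (by rw [h3]; simp)
    · exact wz (by rw [h3]; simp)
    · exact wz (by rw [h3]; simp)
    · exact w1 (by rw [h3, hzz])
  have a1z : a₁ ≠ z := hF.n1z
  have a21 : a₂ ≠ 1 := fun h => hF.n2 (by rw [h]; exact one_mem _)
  have a2z : a₂ ≠ z := fun h => hF.n2 (by rw [h]; exact hF.mz2)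
  -- `C = B`
  have hCB : B = C := by
    by_contra hne
    obtain ⟨d, hdC, hdB, hd⟩ := FP hS (lt_of_le_of_ne hBC hne) ({α, β} : Set S) (by
      rintro r (rfl | rfl) x hx
      · exact hBα x hx
      · exact hBβ x hx) (fun r _ x hx => hCn r x hx)
    have hf := hd α (by simp)
    have hg := hd β (by simp)
    have h1 : α * d * α⁻¹ = d * (d⁻¹ * (α * d * α⁻¹)) := by group
    have h2 : β * d * β⁻¹ = d * (d⁻¹ * (β * d * β⁻¹)) := by group
    set f := d⁻¹ * (α * d * α⁻¹) with hfdef
    set g := d⁻¹ * (β * d * β⁻¹) with hgdef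
    have hfA : f ∈ A := by
      by_contra h
      obtain ⟨a, ha, hfa⟩ := hBA f hf h
      have := hc.sqfix hF hc.αα h1
      rw [hfa] at this
      exact hout α a₁ aα cα hF.m1 hF.n1 a1z a ha this
    have hgA : g ∈ A := by
      by_contra h
      obtain ⟨a, ha, hga⟩ := hBA g hg h
      have := hc.sqfix hF hc.ββ h2
      rw [hga] at this
      exact hout β a₂ aβ cβ hF.m2 a21 a2z a ha this
    rcases hc.cocycle hF hfA hgA h1 h2 with ⟨F, G⟩ | ⟨F, G⟩
    · apply hdB
      apply hAB
      refine hc.mem_A_of hF hdC ?_ ?_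
      · rcases F with F | F
        · left; rw [h1, F, mul_one]
        · right; rw [h1, F]
      · rcases G with G | G
        · left; rw [h2, G, mul_one]
        · right; rw [h2, G]
    · apply hdB
      have hd' : d * c⁻¹ ∈ A := by
        have aux : ∀ (t w f : S), t * d * t⁻¹ = d * f → t * c * t⁻¹ = c * w → w ∈ A →
            (f = w ∨ f = w * z) → (t * (d * c⁻¹) * t⁻¹ = d * c⁻¹ ∨ t * (d * c⁻¹) * t⁻¹ = d * c⁻¹ * z) := by
          intro t w f e1 e2 hw hfw
          have e3 : t * (d * c⁻¹) * t⁻¹ = d * (f * w⁻¹) * c⁻¹ := by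
            calc t * (d * c⁻¹) * t⁻¹ = (t * d * t⁻¹) * (t * c * t⁻¹)⁻¹ := by group
              _ = d * (f * w⁻¹) * c⁻¹ := by rw [e1, e2]; group
          rcases hfw with rfl | rfl
          · left; rw [e3, mul_inv_cancel, mul_one]
          · right
            rw [e3, hF.hz w, mul_inv_cancel_right, mul_assoc, mul_assoc, hF.hz]
        exact hc.mem_A_of hF (C.mul_mem hdC (C.inv_mem hcC)) (aux α a₁ f h1 cα hF.m1 F)
          (aux β a₂ g h2 cβ hF.m2 G)
      have : d = (d * c⁻¹) * c := by group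
      rw [this]
      exact B.mul_mem (hAB hd') hcB
  refine hF.GF2 hS ?_ ?_
  · rw [← hCdef, ← hCB]; exact hBcard
  · intro _
    refine ⟨α, hc.α1, hc.α2, ?_, c, hcC, ?_, ?_⟩
    · intro x hx hfix
      rw [← hCdef, ← hCB] at hx
      by_contra hxA
      obtain ⟨a, ha, rfl⟩ := hBA x hx hxA
      rw [hF.conj_mul, cα] at hfix
      rcases aα a ha with h | h
      · rw [h, mul_assoc, hF.comm a₁ hF.m1 a ha, ← mul_assoc] at hfix
        exact hF.n1 (mul_eq_left.1 hfix)
      · rw [h, mul_assoc] at hfix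
        have h3 : a₁ * (a * z) = a := mul_left_cancel hfix
        rw [← mul_assoc, hF.comm a₁ hF.m1 a ha, mul_assoc] at h3
        have h4 : a₁ * z = 1 := mul_eq_left.1 h3
        apply a1z
        rw [← inv_eq_of_mul_eq_one_left h4, inv_self z hF.mz]
    · rw [cα]
      intro h
      apply hF.n1
      have : a₁ = c⁻¹ * (c * a₁ * c⁻¹) * c := by group
      rw [this, h]; group
    · rw [cα]
      intro h
      apply a1z
      have : a₁ = c⁻¹ * (c * a₁ * c⁻¹) * c := by group
      rw [this, h, mul_assoc, ← hF.hz c, ← mul_assoc, inv_mul_cancel, one_mul]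

end Cf

end H25.Sec4
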