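import Mathlib
import Cfsg.Agent.Lib.H25.Sec4e

/-!
A normal elementary abelian subgroup of order 8 in a 2-group containing `Q ≅ V₄ ≀ Z₂` with
`C_S(Z(Q)) = Q`.
-/

set_option autoImplicit false
set_option linter.all false

namespace H25.Sec4

open Subgroup H25.MacW

variable {S : Type*} [Group S]

/-- `Q = E⟨s⟩ ≅ V₄ ≀ Z₂`, `Z(Q) = {1, z, w, wz}`, `z` central in `S`, `C_S(w) = Q` -/
structure WR (Q E : Subgroup S) (s z w : S) : Prop where
  EQ : E ≤ Q
  sqE : ∀ e ∈ E, e * e = 1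
  cE : Nat.card E = 16
  cQ : Nat.card Q = 32
  sQ : s ∈ Q
  sE : s ∉ E
  ss : s * s = 1
  fix : Nat.card (E ⊓ centralizer ({s} : Set S) : Subgroup S) = 4
  z1 : z ≠ 1
  hz : ∀ g : S, g * z = z * g
  zE : z ∈ E
  wE : w ∈ E
  ws : w * s = s * w
  w1 : w ≠ 1
  wz : w ≠ z
  cw : ∀ x : S, x * w = w * x → x ∈ Q

namespace WR

variable {Q E : Subgroup S} {s z w : S} (hW : WR Q E s z w)
include hW

theorem commE : ∀ a ∈ E, ∀ b ∈ E, a * b = b * a := comm_of_sq hW.sqE

theorem zz : z * z = 1 := hW.sqE z hW.zE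
theorem ww : w * w = 1 := hW.sqE w hW.wE
theorem sinv : s⁻¹ = s := inv_eq_of_mul_eq_one_left hW.ss
theorem winv : w⁻¹ = w := inv_eq_of_mul_eq_one_left hW.ww
theorem zconj (g : S) : g * z * g⁻¹ = z := by rw [hW.hz, mul_inv_cancel_right]

variable [Finite S]

theorem idx {x y : S} (hx : x ∈ Q) (hy : y ∈ Q) (hxE : x ∉ E) (hyE : y ∉ E) : x * y ∈ E :=
  idx2 hW.EQ (by rw [hW.cQ, hW.cE]) hx hy hxE hyE

theorem Qcases {q : S} (hq : q ∈ Q) (hqE : q ∉ E) : ∃ e ∈ E, q = e * s :=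
  ⟨q * s⁻¹, by rw [hW.sinv]; exact hW.idx hq hW.sQ hqE hW.sE, by group⟩

theorem mem_Z {x : S} : x ∈ (E ⊓ centralizer ({s} : Set S) : Subgroup S) ↔ x ∈ E ∧ s * x = x * s := by
  rw [mem_inf, mem_centralizer_singleton_iff]
  constructor
  · rintro ⟨h1, h2⟩; exact ⟨h1, h2.symm⟩
  · rintro ⟨h1, h2⟩; exact ⟨h1, h2.symm⟩

/-- elements of `E` commuting with `s` -/
theorem Zcases {x : S} (hx : x ∈ E) (hxs : s * x = x * s) : x = 1 ∨ x = z ∨ x = w ∨ x = w * z := by
  classical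
  by_contra hcon
  push Not at hcon
  obtain ⟨h1, h2, h3, h4⟩ := hcon
  have hmem : ∀ y ∈ ({1, z, w, w * z, x} : Finset S), y ∈ (E ⊓ centralizer ({s} : Set S) : Subgroup S) := by
    intro y hy
    rw [hW.mem_Z]
    simp only [Finset.mem_insert, Finset.mem_singleton] at hy
    rcases hy with rfl | rfl | rfl | rfl | rfl
    · exact ⟨one_mem _, by simp⟩
    · exact ⟨hW.zE, hW.hz s⟩
    · exact ⟨hW.wE, hW.ws.symm⟩
    · refine ⟨E.mul_mem hW.wE hW.zE, ?_⟩
      rw [← mul_assoc, ← hW.ws, mul_assoc, hW.hz s, ← mul_assoc]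
    · exact ⟨hx, hxs⟩
  have hwz1 : w * z ≠ 1 := by
    intro h
    apply hW.wz
    rw [mul_eq_one_iff_eq_inv.1 h]
    exact inv_eq_of_mul_eq_one_left hW.zz
  have hcard : ({1, z, w, w * z, x} : Finset S).card = 5 := by
    rw [Finset.card_insert_of_notMem, Finset.card_insert_of_notMem, Finset.card_insert_of_notMem,
      Finset.card_insert_of_notMem, Finset.card_singleton]
    · simp only [Finset.mem_singleton]; exact fun h => h4 h.symm
    · simp only [Finset.mem_insert, Finset.mem_singleton, not_or]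
      exact ⟨fun h => hW.z1 (mul_eq_left.1 h.symm), fun h => h3 h.symm⟩
    · simp only [Finset.mem_insert, Finset.mem_singleton, not_or]
      exact ⟨fun h => hW.wz h.symm, fun h => hW.w1 (mul_eq_right.1 h.symm), fun h => h2 h.symm⟩
    · simp only [Finset.mem_insert, Finset.mem_singleton, not_or]
      exact ⟨fun h => hW.z1 h.symm, fun h => hW.w1 h.symm, fun h => hwz1 h.symm, fun h => h1 h.symm⟩
  haveI : Fintype S := Fintype.ofFinite S
  have h5 : ({1, z, w, w * z, x} : Finset S).card ≤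
      Nat.card (E ⊓ centralizer ({s} : Set S) : Subgroup S) := by
    rw [Nat.card_eq_fintype_card, Fintype.card_subtype]
    apply Finset.card_le_card
    intro y hy
    rw [Finset.mem_filter]
    exact ⟨Finset.mem_univ _, hmem y hy⟩
  rw [hcard, hW.fix] at h5
  omega

theorem wQ : ∀ q ∈ Q, q * w = w * q := by
  intro q hq
  by_cases h : q ∈ E
  · exact hW.commE q h w hW.wE
  · obtain ⟨e, he, rfl⟩ := hW.Qcases hq h
    rw [mul_assoc, ← hW.ws, ← mul_assoc, hW.commE e he w hW.wE, mul_assoc]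

/-- `C_E(q) = Z` for `q ∈ Q \ E` -/
theorem N1 {q : S} (hq : q ∈ Q) (hqE : q ∉ E) {e : S} (he : e ∈ E) (h : q * e = e * q) :
    e = 1 ∨ e = z ∨ e = w ∨ e = w * z := by
  obtain ⟨e', he', rfl⟩ := hW.Qcases hq hqE
  apply hW.Zcases he
  have h1 := hW.commE e' he' e he
  have h2 : e' * (s * e) = e' * (e * s) := by
    calc e' * (s * e) = e' * s * e := by group
      _ = e * (e' * s) := h
      _ = (e * e') * s := by group
      _ = (e' * e) * s := by rw [h1]
      _ = _ := by group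
  exact mul_left_cancel h2

/-- a central element of `Q` -/
theorem centerQ {x : S} (hx : x ∈ Q) (hxQ : ∀ q ∈ Q, q * x = x * q) : x = 1 ∨ x = z ∨ x = w ∨ x = w * z := by
  by_cases hxE : x ∈ E
  · exact hW.Zcases hxE (hxQ s hW.sQ)
  · exfalso
    have h1 : E ≤ E ⊓ centralizer ({s} : Set S) := by
      intro e he
      rw [hW.mem_Z]
      refine ⟨he, ?_⟩
      obtain ⟨e', he', rfl⟩ := hW.Qcases hx hxE
      have h1 := hW.commE e' he' e he
      have h3 := hxQ e (hW.EQ he)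
      have h2 : e' * (e * s) = e' * (s * e) := by
        calc e' * (e * s) = (e' * e) * s := by group
          _ = e * (e' * s) := by rw [h1]; group
          _ = e' * s * e := h3
          _ = _ := by group
      exact (mul_left_cancel h2).symm
    have := Nat.le_of_dvd Nat.card_pos (Subgroup.card_dvd_of_le h1)
    rw [hW.cE, hW.fix] at this
    omega

theorem sEs {e : S} (he : e ∈ E) : s * e * s⁻¹ ∈ E := by
  have h1 : s * e ∉ E := fun h => hW.sE (by
    have : s = (s * e) * e⁻¹ := by group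
    rw [this]; exact E.mul_mem h (E.inv_mem he))
  rw [hW.sinv]
  exact hW.idx (Q.mul_mem hW.sQ (hW.EQ he)) hW.sQ h1 hW.sE

/-- `[E, s] ≤ Z` -/
theorem comm_s {e : S} (he : e ∈ E) : ∃ ζ, (ζ = 1 ∨ ζ = z ∨ ζ = w ∨ ζ = w * z) ∧ s * e * s⁻¹ = e * ζ := by
  refine ⟨e⁻¹ * (s * e * s⁻¹), ?_, by group⟩
  have hE := E.mul_mem (E.inv_mem he) (hW.sEs he)
  apply hW.Zcases hE
  have hinv : (e⁻¹ * (s * e * s⁻¹))⁻¹ = e⁻¹ * (s * e * s⁻¹) := inv_eq_of_mul_eq_one_left (hW.sqE _ hE)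
  have h1 : s * (e⁻¹ * (s * e * s⁻¹)) * s⁻¹ = e⁻¹ * (s * e * s⁻¹) := by
    have hss := hW.ss
    calc s * (e⁻¹ * (s * e * s⁻¹)) * s⁻¹ = s * e⁻¹ * s⁻¹ * ((s * s) * e * (s * s)⁻¹) := by group
      _ = s * e⁻¹ * s⁻¹ * e := by rw [hss]; group
      _ = (e⁻¹ * (s * e * s⁻¹))⁻¹ := by group
      _ = _ := hinv
  exact mul_inv_eq_iff_eq_mul.1 h1

theorem exists_e1 : ∃ e ∈ E, s * e * s⁻¹ = e * w := by
  classical
  by_contra hcon
  push Not at hcon
  have h1 := card_le_fiber E (centralizer ({s} : Set S)) (fun e => e⁻¹ * (s * e * s⁻¹))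
    ({1, z, w * z} : Finset S) (by
      intro e he
      obtain ⟨ζ, hζ, h⟩ := hW.comm_s he
      rw [h, inv_mul_cancel_left]
      rcases hζ with rfl | rfl | rfl | rfl
      · simp
      · simp
      · exact absurd h (hcon e he)
      · simp) (by
      intro e he e' he' h
      rw [mem_centralizer_singleton_iff]
      have hc := hW.commE _ (E.inv_mem he) _ he'
      have hc2 := hW.commE _ (hW.sEs he) _ (E.inv_mem he')
      have h2 : s * (e⁻¹ * e') * s⁻¹ = e⁻¹ * e' := by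
        have h3 : e' * (e⁻¹ * (s * e * s⁻¹)) = s * e' * s⁻¹ := by rw [h]; group
        have hc3 := hW.commE _ he' _ (E.mul_mem (E.inv_mem he) (hW.sEs he))
        calc s * (e⁻¹ * e') * s⁻¹ = (s * e * s⁻¹)⁻¹ * (s * e' * s⁻¹) := by group
          _ = (s * e * s⁻¹)⁻¹ * (e' * (e⁻¹ * (s * e * s⁻¹))) := by rw [h3]
          _ = (s * e * s⁻¹)⁻¹ * ((e' * e⁻¹) * (s * e * s⁻¹)) := by group
          _ = (s * e * s⁻¹)⁻¹ * ((s * e * s⁻¹) * (e' * e⁻¹)) := by
              rw [hW.commE _ (E.mul_mem he' (E.inv_mem he)) _ (hW.sEs he)]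
          _ = e' * e⁻¹ := by group
          _ = e⁻¹ * e' := hc.symm
      exact (mul_inv_eq_iff_eq_mul.1 h2).symm)
  rw [hW.cE, hW.fix] at h1
  have h2 : ({1, z, w * z} : Finset S).card ≤ 3 := Finset.card_le_three
  omega

theorem E_not_le : ¬ ∀ e ∈ E, s * e = e * s := by
  intro h
  have h1 : E ≤ E ⊓ centralizer ({s} : Set S) := fun e he => hW.mem_Z.2 ⟨he, h e he⟩
  have := Nat.le_of_dvd Nat.card_pos (Subgroup.card_dvd_of_le h1)
  rw [hW.cE, hW.fix] at this
  omega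

end WR

end H25.Sec4
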