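import Mathlib
import Cfsg.Agent.Lib.H25.Sec4f

/-!
The case analysis for `Q ≅ V₄ ≀ Z₂`: a normal elementary abelian subgroup of order 8 inside `Q`.
-/

set_option autoImplicit false
set_option linter.all false

namespace H25.Sec4

open Subgroup H25.MacW

variable {S : Type*} [Group S]

theorem Flag.C_norm {A A₂ : Subgroup S} {z a₁ a₂ : S} (hF : Flag A A₂ z a₁ a₂) (g x : S)
    (hx : x ∈ centralizer (A : Set S)) : g * x * g⁻¹ ∈ centralizer (A : Set S) := by
  rw [mem_centralizer_iff] at hx ⊢
  intro a ha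
  have h := hx (g⁻¹ * a * g) (by simpa using hF.nA g⁻¹ a ha)
  calc a * (g * x * g⁻¹) = g * ((g⁻¹ * a * g) * x) * g⁻¹ := by group
    _ = g * (x * (g⁻¹ * a * g)) * g⁻¹ := by rw [h]
    _ = g * x * g⁻¹ * a := by group

namespace WR

variable {Q E A A₂ : Subgroup S} {s z w a₁ a₂ : S} (hW : WR Q E s z w) (hF : Flag A A₂ z a₁ a₂)
include hW hF

variable [Finite S]

theorem Z_sub {a b : S} (hZ : a = 1 ∨ a = z ∨ a = w ∨ a = w * z) (hwA : w ∈ A) : a ∈ A := by
  rcases hZ with rfl | rfl | rfl | rfl
  · exact one_mem _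
  · exact hF.mz
  · exact hwA
  · exact A.mul_mem hwA hF.mz

/-- elements with only few possible values -/
theorem card_Z_le (K : Subgroup S) (h : ∀ x ∈ K, x = 1 ∨ x = z ∨ x = w ∨ x = w * z) :
    Nat.card K ≤ 4 := by
  classical
  have h1 := card_le_fiber K ⊥ (fun x => x) ({1, z, w, w * z} : Finset S) (by
    intro x hx
    simpa using h x hx) (by
    intro x _ y _ e
    have e' : x = y := e
    rw [e', inv_mul_cancel]; exact one_mem _)
  rw [inf_bot_eq, Subgroup.card_bot, mul_one] at h1
  exact h1.trans Finset.card_le_four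

theorem case1 (hS : IsPGroup 2 S) (hAQ : A ≤ Q) (hAE : ¬ A ≤ E) : Cfsg.SectionalPRankLE 2 4 S := by
  classical
  obtain ⟨t, htA, htE⟩ := SetLike.not_le_iff_exists.1 hAE
  have htQ := hAQ htA
  have h1 : Nat.card A ≤ 2 * Nat.card (A ⊓ E : Subgroup S) := by
    apply card_half
    intro x hx y hy hxE hyE
    exact hW.idx (hAQ hx) (hAQ hy) hxE hyE
  rw [hF.c8] at h1
  have hval : ∀ x ∈ A ⊓ E, x = 1 ∨ x = z ∨ x = w ∨ x = w * z := fun x hx =>
    hW.N1 htQ htE hx.2 (hF.comm t htA x hx.1)
  -- `w ∈ A`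
  have hwA : w ∈ A := by
    by_contra hwA
    have hval' : ∀ x ∈ A ⊓ E, x = 1 ∨ x = z := by
      intro x hx
      rcases hval x hx with h | h | h | h
      · exact Or.inl h
      · exact Or.inr h
      · exact absurd (h ▸ hx.1) hwA
      · exfalso
        apply hwA
        have : w = x * z := by rw [h, mul_assoc, hW.zz, mul_one]
        rw [this]; exact A.mul_mem hx.1 hF.mz
    have h2 := card_le_fiber (A ⊓ E) ⊥ (fun x => x) ({1, z} : Finset S) (by
      intro x hx
      simpa using hval' x hx) (by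
      intro x _ y _ e
      have e' : x = y := e
      rw [e', inv_mul_cancel]; exact one_mem _)
    rw [inf_bot_eq, Subgroup.card_bot, mul_one] at h2
    have h3 : ({1, z} : Finset S).card ≤ 2 := Finset.card_le_two
    omega
  -- `C = A`
  have hCA : centralizer (A : Set S) ≤ A := by
    intro x hx
    have hc : ∀ a ∈ A, x * a = a * x := fun a ha => ((mem_centralizer_iff.1 hx) a ha).symm
    have hxQ : x ∈ Q := hW.cw x (hc w hwA)
    by_cases hxE : x ∈ E
    · exact hW.Z_sub hF (b := x) (hW.N1 htQ htE hxE (hc t htA).symm) hwA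
    · have h2 : x * t ∈ E := hW.idx hxQ htQ hxE htE
      have h3 : t * (x * t) = x * t * t := by rw [← mul_assoc, hc t htA]
      have h4 := hW.Z_sub hF (b := x) (hW.N1 htQ htE h2 h3) hwA
      have : x = (x * t) * t⁻¹ := by group
      rw [this]
      exact A.mul_mem h4 (A.inv_mem htA)
  have hCeq : centralizer (A : Set S) = A := le_antisymm hCA hF.A_le_C
  refine hF.GF2 hS ?_ ?_
  · rw [hCeq, hF.c8]; norm_num
  · intro h
    rw [hCeq, hF.c8] at h
    norm_num at h

theorem case2 (hS : IsPGroup 2 S) (hAE : A ≤ E) : Cfsg.SectionalPRankLE 2 4 S := by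
  classical
  haveI : Fintype S := Fintype.ofFinite S
  have hAQ : A ≤ Q := hAE.trans hW.EQ
  -- `w ∈ A`
  have hwA : w ∈ A := by
    by_contra hwA
    have hval : ∀ x ∈ A, s * x = x * s → x = 1 ∨ x = z := by
      intro x hx hxs
      rcases hW.Zcases (hAE hx) hxs with h | h | h | h
      · exact Or.inl h
      · exact Or.inr h
      · exact absurd (h ▸ hx) hwA
      · exfalso
        apply hwA
        have : w = x * z := by rw [h, mul_assoc, hW.zz, mul_one]
        rw [this]; exact A.mul_mem hx hF.mz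
    have h1 : Nat.card (A ⊓ centralizer ({s} : Set S) : Subgroup S) ≤ 2 := by
      have h2 := card_le_fiber (A ⊓ centralizer ({s} : Set S)) ⊥ (fun x => x) ({1, z} : Finset S) (by
        intro x hx
        have := hval x hx.1 (mem_centralizer_singleton_iff.1 hx.2).symm
        simpa using this) (by
        intro x _ y _ e
        have e' : x = y := e
        rw [e', inv_mul_cancel]; exact one_mem _)
      rw [inf_bot_eq, Subgroup.card_bot, mul_one] at h2
      exact h2.trans Finset.card_le_two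
    have h2 := card_le_fiber A (centralizer ({s} : Set S)) (fun x => x⁻¹ * (s * x * s⁻¹))
      ({1, z} : Finset S) (by
        intro x hx
        obtain ⟨ζ, hζ, h⟩ := hW.comm_s (hAE hx)
        have hζA : ζ ∈ A := by
          have : ζ = x⁻¹ * (s * x * s⁻¹) := by rw [h]; group
          rw [this]
          exact A.mul_mem (A.inv_mem hx) (hF.nA s x hx)
        rw [h, inv_mul_cancel_left]
        rcases hζ with rfl | rfl | rfl | rfl
        · simp
        · simp
        · exact absurd hζA hwA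
        · exfalso
          apply hwA
          have : w = (w * z) * z := by rw [mul_assoc, hW.zz, mul_one]
          rw [this]; exact A.mul_mem hζA hF.mz) (by
        intro x hx y hy e
        rw [mem_centralizer_singleton_iff]
        have h3 : y * (x⁻¹ * (s * x * s⁻¹)) = s * y * s⁻¹ := by rw [e]; group
        have h2 : s * (x⁻¹ * y) * s⁻¹ = x⁻¹ * y := by
          calc s * (x⁻¹ * y) * s⁻¹ = (s * x * s⁻¹)⁻¹ * (s * y * s⁻¹) := by group
            _ = (s * x * s⁻¹)⁻¹ * (y * (x⁻¹ * (s * x * s⁻¹))) := by rw [h3]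
            _ = (s * x * s⁻¹)⁻¹ * ((y * x⁻¹) * (s * x * s⁻¹)) := by group
            _ = (s * x * s⁻¹)⁻¹ * ((s * x * s⁻¹) * (y * x⁻¹)) := by
                rw [hF.comm _ (A.mul_mem hy (A.inv_mem hx)) _ (hF.nA s x hx)]
            _ = y * x⁻¹ := by group
            _ = x⁻¹ * y := hF.comm _ hy _ (A.inv_mem hx)
        exact (mul_inv_eq_iff_eq_mul.1 h2).symm)
    rw [hF.c8] at h2
    have h3 : ({1, z} : Finset S).card ≤ 2 := Finset.card_le_two
    have h4 := Nat.mul_le_mul h3 h1
    omega
  -- `C = E`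
  have hEC : E ≤ centralizer (A : Set S) := by
    intro e he
    rw [mem_centralizer_iff]
    exact fun a ha => hW.commE a (hAE ha) e he
  have hCE : centralizer (A : Set S) ≤ E := by
    intro x hx
    have hc : ∀ a ∈ A, x * a = a * x := fun a ha => ((mem_centralizer_iff.1 hx) a ha).symm
    have hxQ : x ∈ Q := hW.cw x (hc w hwA)
    by_contra hxE
    have := hW.card_Z_le hF A (fun a ha => hW.N1 hxQ hxE (hAE ha) (hc a ha))
    rw [hF.c8] at this
    omega
  have hCeq : centralizer (A : Set S) = E := le_antisymm hCE hEC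
  have hwcw : ∀ h k : S, h * w * h⁻¹ = k * w * k⁻¹ → h⁻¹ * k ∈ Q := by
    intro h k e
    apply hW.cw
    have h1 : (h⁻¹ * k) * w * (h⁻¹ * k)⁻¹ = w := by
      calc (h⁻¹ * k) * w * (h⁻¹ * k)⁻¹ = h⁻¹ * (k * w * k⁻¹) * h := by group
        _ = w := by rw [← e]; group
    exact mul_inv_eq_iff_eq_mul.1 h1
  refine hF.GF hS ?_ ?_ ?_
  · rw [hCeq, hW.cE]
  · -- (a)
    intro H hCH _ h64 n hn
    rw [hCeq] at hCH hn
    have h1 := card_le_fiber H Q (fun h => h * w * h⁻¹ * w⁻¹) ({1, n} : Finset S) (by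
      intro h hh
      simpa using hn w hW.wE h hh) (by
      intro h _ k _ e
      exact hwcw h k (mul_right_cancel e))
    have h2 : ({1, n} : Finset S).card ≤ 2 := Finset.card_le_two
    have h3 : Nat.card (H ⊓ Q : Subgroup S) ≤ 32 := by
      rw [← hW.cQ]; exact Nat.le_of_dvd Nat.card_pos (Subgroup.card_dvd_of_le inf_le_right)
    have h4 : 32 ≤ Nat.card (H ⊓ Q : Subgroup S) := by
      have := Nat.mul_le_mul_right (Nat.card (H ⊓ Q : Subgroup S)) h2
      omega
    have h5 : H ⊓ Q = Q := Subgroup.eq_of_le_of_card_ge inf_le_right (by rw [hW.cQ]; exact h4)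
    have hsH : s ∈ H := (inf_eq_right.1 h5) hW.sQ
    have h6 := card_le_fiber E (centralizer ({s} : Set S)) (fun e => s * e * s⁻¹ * e⁻¹)
      ({1, n} : Finset S) (by
        intro e he
        simpa using hn e he s hsH) (by
        intro e he e' he' h
        rw [mem_centralizer_singleton_iff]
        have h3 : s * e' * s⁻¹ = (s * e * s⁻¹ * e⁻¹) * e' := by rw [h]; group
        have h2 : s * (e⁻¹ * e') * s⁻¹ = e⁻¹ * e' := by
          calc s * (e⁻¹ * e') * s⁻¹ = (s * e * s⁻¹)⁻¹ * (s * e' * s⁻¹) := by group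
            _ = e⁻¹ * e' := by rw [h3]; group
        exact (mul_inv_eq_iff_eq_mul.1 h2).symm)
    rw [hW.cE, hW.fix] at h6
    omega
  · -- (b)
    intro H hH32 hHsq hHC _
    rw [hCeq] at hHC
    have hHc := comm_of_sq hHsq
    set H₀ := H ⊓ E with hH0
    have hwH : w ∉ H := by
      intro h
      have h1 : H ≤ Q := fun x hx => hW.cw x (hHc x hx w h)
      have h2 : H = Q := Subgroup.eq_of_le_of_card_ge h1 (by rw [hW.cQ, hH32])
      apply hW.E_not_le
      intro e he
      exact hHc s (by rw [h2]; exact hW.sQ) e (by rw [h2]; exact hW.EQ he)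
    have hidx : ∀ x ∈ E, ∀ y ∈ E, x ∉ H₀ → y ∉ H₀ → x * y ∈ H₀ := fun x hx y hy hx' hy' =>
      idx2 inf_le_right (by rw [hHC, hW.cE]) hx hy hx' hy'
    -- an element of `H` centralizing `H₀` and `y ∈ E \ H₀` is in `E`
    have hcen : ∀ y ∈ E, y ∉ H₀ → ∀ h ∈ H, h * y = y * h → h ∈ E := by
      intro y hy hyH h hh hhy
      have h1 : h ∈ centralizer (A : Set S) := by
        rw [mem_centralizer_iff]
        intro a ha
        by_cases haH : a ∈ H₀
        · exact hHc a haH.1 h hh
        · have h2 := hidx a (hAE ha) y hy haH hyH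
          have h3 := hHc h hh _ h2.1
          have hyy := hW.sqE y hy
          calc a * h = (a * y) * y⁻¹ * h := by group
            _ = (a * y) * (y⁻¹ * h) := by group
            _ = (a * y) * (h * y⁻¹) := by
                rw [(show Commute h y from hhy).inv_right.eq]
            _ = ((a * y) * h) * y⁻¹ := by group
            _ = (h * (a * y)) * y⁻¹ := by rw [h3]
            _ = h * a := by group
      rw [hCeq] at h1; exact h1
    have hnle : ¬ H ≤ E := by
      intro h
      have h1 : H₀ = H := inf_eq_left.2 h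
      rw [h1, hH32] at hHC
      omega
    have hzH : z ∈ H := by
      by_contra hzH
      apply hnle
      intro h hh
      exact hcen z hW.zE (fun h' => hzH h'.1) h hh (hW.hz h)
    have ha1H : a₁ ∈ H := by
      by_contra ha1H
      have h1 := card_le_fiber H E (fun h => h * a₁ * h⁻¹) ({a₁, a₁ * z} : Finset S) (by
        intro h _
        simpa using hF.step1 h) (by
        intro h hh k hk e
        refine hcen a₁ (hAE hF.m1) (fun h' => ha1H h'.1) _ (H.mul_mem (H.inv_mem hh) hk) ?_
        have h1 : (h⁻¹ * k) * a₁ * (h⁻¹ * k)⁻¹ = a₁ := by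
          have e' : h * a₁ * h⁻¹ = k * a₁ * k⁻¹ := e
          calc (h⁻¹ * k) * a₁ * (h⁻¹ * k)⁻¹ = h⁻¹ * (k * a₁ * k⁻¹) * h := by group
            _ = a₁ := by rw [← e']; group
        exact mul_inv_eq_iff_eq_mul.1 h1)
      have h2 : ({a₁, a₁ * z} : Finset S).card ≤ 2 := Finset.card_le_two
      rw [hH32, hHC] at h1
      have := Nat.mul_le_mul_right 8 h2
      omega
    have hwH0 : w ∉ H₀ := fun h => hwH h.1
    -- the values of `h w h⁻¹`
    have hfib : ∀ h ∈ H, ∀ k ∈ H, h * w * h⁻¹ = k * w * k⁻¹ → h⁻¹ * k ∈ E := by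
      intro h hh k hk e
      refine hcen w hW.wE hwH0 _ (H.mul_mem (H.inv_mem hh) hk) ?_
      have h1 : (h⁻¹ * k) * w * (h⁻¹ * k)⁻¹ = w := by
        calc (h⁻¹ * k) * w * (h⁻¹ * k)⁻¹ = h⁻¹ * (k * w * k⁻¹) * h := by group
          _ = w := by rw [← e]; group
      exact mul_inv_eq_iff_eq_mul.1 h1
    have hvals : ∀ h ∈ H, h * w * h⁻¹ = w ∨ h * w * h⁻¹ = w * z ∨ h * w * h⁻¹ = w * a₁ ∨
        h * w * h⁻¹ = w * (a₁ * z) := by
      intro h _
      obtain ⟨u, hu, e⟩ := hF.step2 h w hwA
      rcases (hF.mem2 u).1 hu with rfl | rfl | rfl | rfl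
      · left; rw [e, mul_one]
      · right; left; exact e
      · right; right; left; exact e
      · right; right; right; exact e
    have hex : ∀ v : S, v = w * z ∨ v = w * a₁ → ∃ h ∈ H, h * w * h⁻¹ = v := by
      intro v hv
      by_contra hcon
      push Not at hcon
      have h1 := card_le_fiber H E (fun h => h * w * h⁻¹)
        (({w, w * z, w * a₁, w * (a₁ * z)} : Finset S).erase v) (by
        intro h hh
        rw [Finset.mem_erase]
        exact ⟨hcon h hh, by simpa using hvals h hh⟩) (fun h hh k hk e => hfib h hh k hk e)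
      have h2 : (({w, w * z, w * a₁, w * (a₁ * z)} : Finset S).erase v).card ≤ 3 := by
        have h3 : v ∈ ({w, w * z, w * a₁, w * (a₁ * z)} : Finset S) := by
          rcases hv with rfl | rfl <;> simp
        rw [Finset.card_erase_of_mem h3]
        have : ({w, w * z, w * a₁, w * (a₁ * z)} : Finset S).card ≤ 4 := Finset.card_le_four
        omega
      rw [hH32, hHC] at h1
      have := Nat.mul_le_mul_right 8 h2
      omega
    obtain ⟨k, hk, ek⟩ := hex (w * z) (Or.inl rfl)
    obtain ⟨h, hh, eh⟩ := hex (w * a₁) (Or.inr rfl)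
    have ha1E : a₁ ∈ E := hAE hF.m1
    have ha1Z : ¬ (a₁ = 1 ∨ a₁ = z ∨ a₁ = w ∨ a₁ = w * z) := by
      rintro (h' | h' | h' | h')
      · exact hF.n1 h'
      · exact hF.n1z h'
      · exact hwH (h' ▸ ha1H)
      · apply hwH
        have : w = a₁ * z := by rw [h', mul_assoc, hW.zz, mul_one]
        rw [this]; exact H.mul_mem ha1H hzH
    have hsa : s * a₁ * s⁻¹ = a₁ * z := by
      refine (hF.step1 s).resolve_left (fun h' => ha1Z ?_)
      exact hW.Zcases ha1E (mul_inv_eq_iff_eq_mul.1 h')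
    -- the element `q`
    have hkh : k * h ∈ H := H.mul_mem hk hh
    have e1 : (k * h) * w * (k * h)⁻¹ = w * z * a₁ := by
      have hka : k * a₁ * k⁻¹ = a₁ := by rw [hHc k hk a₁ ha1H, mul_inv_cancel_right]
      calc (k * h) * w * (k * h)⁻¹ = k * (h * w * h⁻¹) * k⁻¹ := by group
        _ = (k * w * k⁻¹) * (k * a₁ * k⁻¹) := by rw [eh]; group
        _ = w * z * a₁ := by rw [ek, hka]
    have sws : s * w * s⁻¹ = w := by rw [← hW.ws, mul_inv_cancel_right]
    have e2 : (s * h * s⁻¹) * w * (s * h * s⁻¹)⁻¹ = w * z * a₁ := by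
      have sws' : s⁻¹ * w * s = w := by
        calc s⁻¹ * w * s = s⁻¹ * (s * w * s⁻¹) * s := by rw [sws]
          _ = w := by group
      calc (s * h * s⁻¹) * w * (s * h * s⁻¹)⁻¹ = s * (h * (s⁻¹ * w * s) * h⁻¹) * s⁻¹ := by group
        _ = s * (w * a₁) * s⁻¹ := by rw [sws', eh]
        _ = (s * w * s⁻¹) * (s * a₁ * s⁻¹) := by group
        _ = w * z * a₁ := by rw [sws, hsa, hW.hz a₁, mul_assoc]
    set q := (k * h)⁻¹ * (s * h * s⁻¹) with hqdef
    have hqQ : q ∈ Q := hwcw _ _ (by rw [e1, e2])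
    have hqa : q * a₁ = a₁ * q := by
      have c1 : Commute (k * h) a₁ := hHc _ hkh _ ha1H
      have c2 : Commute (s * h * s⁻¹) a₁ := by
        have h3 : s * h * s⁻¹ * (a₁ * z) = (a₁ * z) * (s * h * s⁻¹) := by
          rw [← hsa]
          calc s * h * s⁻¹ * (s * a₁ * s⁻¹) = s * (h * a₁) * s⁻¹ := by group
            _ = s * (a₁ * h) * s⁻¹ := by rw [hHc h hh a₁ ha1H]
            _ = _ := by group
        have h4 : s * h * s⁻¹ * a₁ * z = a₁ * (s * h * s⁻¹) * z := by
          calc s * h * s⁻¹ * a₁ * z = s * h * s⁻¹ * (a₁ * z) := by group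
            _ = a₁ * (z * (s * h * s⁻¹)) := by rw [h3]; group
            _ = a₁ * ((s * h * s⁻¹) * z) := by rw [hW.hz]
            _ = _ := by group
        exact mul_right_cancel h4
      exact (c1.inv_left.mul_left c2).eq
    have hqE : q ∈ E := by
      by_contra hqE
      exact ha1Z (hW.N1 hqQ hqE ha1E hqa)
    -- `s` normalizes `H₀`
    have hsH0 : ∀ x ∈ H₀, s * x * s⁻¹ ∈ H₀ := by
      intro x hx
      have hyE : s * x * s⁻¹ ∈ E := hW.sEs hx.2
      by_contra hyH
      have h1 := hidx _ hyE w hW.wE hyH hwH0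
      -- `s x s⁻¹` commutes with `k h`
      have c1 : Commute (s * h * s⁻¹) (s * x * s⁻¹) := by
        change s * h * s⁻¹ * (s * x * s⁻¹) = s * x * s⁻¹ * (s * h * s⁻¹)
        calc s * h * s⁻¹ * (s * x * s⁻¹) = s * (h * x) * s⁻¹ := by group
          _ = s * (x * h) * s⁻¹ := by rw [hHc h hh x hx.1]
          _ = _ := by group
      have c2 : Commute q (s * x * s⁻¹) := hW.commE q hqE _ hyE
      have c3 : Commute (k * h) (s * x * s⁻¹) := by
        have : k * h = (s * h * s⁻¹) * q⁻¹ := by rw [hqdef]; group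
        rw [this]
        exact c1.mul_left c2.inv_left
      have c4 : Commute (k * h) (s * x * s⁻¹ * w) := hHc _ hkh _ h1.1
      have c5 : Commute (k * h) w := by
        have : w = (s * x * s⁻¹)⁻¹ * (s * x * s⁻¹ * w) := by group
        rw [this]
        exact c3.inv_right.mul_right c4
      have h2 : (k * h) * w * (k * h)⁻¹ = w := by rw [c5.eq, mul_inv_cancel_right]
      rw [h2, mul_assoc] at e1
      have h3 : z * a₁ = 1 := mul_eq_left.1 e1.symm
      apply hF.n1z
      rw [← inv_eq_of_mul_eq_one_right h3]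
      exact inv_eq_of_mul_eq_one_left hW.zz
    -- contradiction
    have hZH : ∀ x ∈ H₀, (x = 1 ∨ x = z ∨ x = w ∨ x = w * z) → x = 1 ∨ x = z := by
      intro x hx h'
      rcases h' with h' | h' | h' | h'
      · exact Or.inl h'
      · exact Or.inr h'
      · exact absurd (h' ▸ hx.1) hwH
      · exfalso
        apply hwH
        have : w = x * z := by rw [h', mul_assoc, hW.zz, mul_one]
        rw [this]; exact H.mul_mem hx.1 hzH
    have h1 : Nat.card (H₀ ⊓ centralizer ({s} : Set S) : Subgroup S) ≤ 2 := by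
      have h2 := card_le_fiber (H₀ ⊓ centralizer ({s} : Set S)) ⊥ (fun x => x) ({1, z} : Finset S) (by
        intro x hx
        have := hZH x hx.1 (hW.Zcases hx.1.2 (mem_centralizer_singleton_iff.1 hx.2).symm)
        simpa using this) (by
        intro x _ y _ e
        have e' : x = y := e
        rw [e', inv_mul_cancel]; exact one_mem _)
      rw [inf_bot_eq, Subgroup.card_bot, mul_one] at h2
      exact h2.trans Finset.card_le_two
    have h2 := card_le_fiber H₀ (centralizer ({s} : Set S)) (fun x => x⁻¹ * (s * x * s⁻¹))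
      ({1, z} : Finset S) (by
        intro x hx
        obtain ⟨ζ, hζ, h'⟩ := hW.comm_s hx.2
        have hζH : ζ ∈ H₀ := by
          have : ζ = x⁻¹ * (s * x * s⁻¹) := by rw [h']; group
          rw [this]
          exact H₀.mul_mem (H₀.inv_mem hx) (hsH0 x hx)
        rw [h', inv_mul_cancel_left]
        simpa using hZH ζ hζH hζ) (by
        intro x hx y hy e
        rw [mem_centralizer_singleton_iff]
        have h3 : y * (x⁻¹ * (s * x * s⁻¹)) = s * y * s⁻¹ := by
          have e' : x⁻¹ * (s * x * s⁻¹) = y⁻¹ * (s * y * s⁻¹) := e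
          rw [e']; group
        have h2 : s * (x⁻¹ * y) * s⁻¹ = x⁻¹ * y := by
          calc s * (x⁻¹ * y) * s⁻¹ = (s * x * s⁻¹)⁻¹ * (s * y * s⁻¹) := by group
            _ = (s * x * s⁻¹)⁻¹ * (y * (x⁻¹ * (s * x * s⁻¹))) := by rw [h3]
            _ = (s * x * s⁻¹)⁻¹ * ((y * x⁻¹) * (s * x * s⁻¹)) := by group
            _ = (s * x * s⁻¹)⁻¹ * ((s * x * s⁻¹) * (y * x⁻¹)) := by
                rw [hHc _ (H.mul_mem hy.1 (H.inv_mem hx.1)) _ (hsH0 x hx).1]
            _ = y * x⁻¹ := by group
            _ = x⁻¹ * y := hHc _ hy.1 _ (H.inv_mem hx.1)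
        exact (mul_inv_eq_iff_eq_mul.1 h2).symm)
    rw [hHC] at h2
    have h3 : ({1, z} : Finset S).card ≤ 2 := Finset.card_le_two
    have h4 := Nat.mul_le_mul h3 h1
    omega

end WR

end H25.Sec4
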