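import Mathlib
import Cfsg.Agent.Lib.H25.Sec4g

/-!
The case analysis for `Q ≅ V₄ ≀ Z₂`: a normal elementary abelian subgroup of order 8 not inside `Q`.
-/

set_option autoImplicit false
set_option linter.all false

namespace H25.Sec4

open Subgroup H25.MacW

variable {S : Type*} [Group S]

namespace WR

variable {Q E A A₂ : Subgroup S} {s z w a₁ a₂ : S} (hW : WR Q E s z w) (hF : Flag A A₂ z a₁ a₂)
include hW hF

variable [Finite S]

theorem case3 (hS : IsPGroup 2 S) (hAQ : ¬ A ≤ Q) : Cfsg.SectionalPRankLE 2 4 S := by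
  classical
  haveI : Fintype S := Fintype.ofFinite S
  obtain ⟨x₀, hx₀, hx₀Q⟩ := SetLike.not_le_iff_exists.1 hAQ
  have hAc := hF.comm
  have hAinv : ∀ a ∈ A, a⁻¹ = a := fun a ha => inv_eq_of_mul_eq_one_left (hF.sq a ha)
  have hwA : w ∉ A := fun h => hx₀Q (hW.cw x₀ (hAc x₀ hx₀ w h))
  have hwzA : w * z ∉ A := fun h => hwA (by
    have : w = (w * z) * z := by rw [mul_assoc, hW.zz, mul_one]
    rw [this]; exact A.mul_mem h hF.mz)
  have hZA : ∀ x ∈ A, (x = 1 ∨ x = z ∨ x = w ∨ x = w * z) → x = 1 ∨ x = z := by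
    rintro x hx (h | h | h | h)
    · exact Or.inl h
    · exact Or.inr h
    · exact absurd (h ▸ hx) hwA
    · exact absurd (h ▸ hx) hwzA
  have hwQ := hW.wQ
  have hQw : w ∈ Q := hW.EQ hW.wE
  -- `A₀ = A ∩ Q` has order 4
  have hlt : A ⊓ Q < A := lt_of_le_of_ne inf_le_left (fun h => hAQ (inf_eq_left.1 h))
  have h2A := two_mul_card_le hlt
  rw [hF.c8] at h2A
  -- the value of the commutator with `w`
  have hval : ∀ a ∈ A, a * (w * a * w⁻¹) ∈ A ⊓ Q := by
    intro a ha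
    have h1 : a * (w * a * w⁻¹) ∈ A := A.mul_mem ha (hF.nA w a ha)
    refine ⟨h1, hW.cw _ ?_⟩
    have h2 := hAinv _ h1
    have hww := hW.ww
    have h3 : w * (a * (w * a * w⁻¹)) * w⁻¹ = a * (w * a * w⁻¹) := by
      calc w * (a * (w * a * w⁻¹)) * w⁻¹ = (w * a * w⁻¹) * ((w * w) * a * (w * w)⁻¹) := by group
        _ = (w * a * w⁻¹) * a := by rw [hww]; group
        _ = a * (w * a * w⁻¹) := hAc _ (hF.nA w a ha) _ ha
    exact (mul_inv_eq_iff_eq_mul.1 h3).symm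
  have hfib : ∀ h ∈ A, ∀ k ∈ A, h * (w * h * w⁻¹) = k * (w * k * w⁻¹) → h⁻¹ * k ∈ Q := by
    intro h hh k hk e
    apply hW.cw
    have hhk : h⁻¹ * k ∈ A := A.mul_mem (A.inv_mem hh) hk
    have h1 : w * (h⁻¹ * k) * w⁻¹ = h⁻¹ * k := by
      have e1 : w * h * w⁻¹ = h⁻¹ * (h * (w * h * w⁻¹)) := by group
      have e2 : w * k * w⁻¹ = k⁻¹ * (k * (w * k * w⁻¹)) := by group
      calc w * (h⁻¹ * k) * w⁻¹ = (w * h * w⁻¹)⁻¹ * (w * k * w⁻¹) := by group
        _ = (h⁻¹ * (h * (w * h * w⁻¹)))⁻¹ * (k⁻¹ * (k * (w * k * w⁻¹))) := by rw [← e1, ← e2]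
        _ = (h⁻¹ * (k * (w * k * w⁻¹)))⁻¹ * (k⁻¹ * (k * (w * k * w⁻¹))) := by rw [e]
        _ = (w * k * w⁻¹)⁻¹ * (k⁻¹ * h * k⁻¹ * k) * (w * k * w⁻¹) := by group
        _ = (w * k * w⁻¹)⁻¹ * (k⁻¹ * h) * (w * k * w⁻¹) := by group
        _ = (w * k * w⁻¹)⁻¹ * ((w * k * w⁻¹) * (k⁻¹ * h)) := by
            rw [mul_assoc, hAc _ (A.mul_mem (A.inv_mem hk) hh) _ (hF.nA w k hk)]
        _ = k⁻¹ * h := by group
        _ = (h⁻¹ * k)⁻¹ := by group
        _ = h⁻¹ * k := hAinv _ hhk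
    exact (mul_inv_eq_iff_eq_mul.1 h1).symm
  have h4A : 4 ≤ Nat.card (A ⊓ Q : Subgroup S) := by
    have h1 := card_le_fiber A Q (fun a => a * (w * a * w⁻¹)) (Finset.univ.filter (fun y => y ∈ A ⊓ Q)) (by
      intro a ha
      rw [Finset.mem_filter]
      exact ⟨Finset.mem_univ _, hval a ha⟩) (fun h hh k hk e => hfib h hh k hk e)
    rw [← Fintype.card_subtype, ← Nat.card_eq_fintype_card] at h1
    rw [hF.c8] at h1
    have h2 : 3 ≤ Nat.card (A ⊓ Q : Subgroup S) := by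
      by_contra h
      push Not at h
      have h3 : Nat.card {x // x ∈ A ⊓ Q} ≤ 2 := by
        have : Nat.card {x // x ∈ A ⊓ Q} = Nat.card (A ⊓ Q : Subgroup S) := rfl
        omega
      have h4 : Nat.card (A ⊓ Q : Subgroup S) ≤ 2 := by omega
      have := Nat.mul_le_mul h3 h4
      omega
    obtain ⟨n, hn⟩ := card_pow hS (A ⊓ Q)
    rw [hn] at h2 ⊢
    have : 2 ≤ n := by
      by_contra h
      push Not at h
      have := Nat.pow_le_pow_right (n := 2) (by norm_num) (show n ≤ 1 by omega)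
      omega
    exact Nat.pow_le_pow_right (n := 2) (by norm_num) this
  have hA04 : Nat.card (A ⊓ Q : Subgroup S) = 4 := by omega
  have hidxA : ∀ x ∈ A, ∀ y ∈ A, x ∉ A ⊓ Q → y ∉ A ⊓ Q → x * y ∈ A ⊓ Q := fun x hx y hy h1 h2 =>
    idx2 inf_le_left (by rw [hF.c8, hA04]) hx hy h1 h2
  -- `w a w⁻¹ = a z` for `a ∈ A \ Q`
  have hwa : ∀ a ∈ A, a ∉ Q → w * a * w⁻¹ = a * z := by
    intro a ha haQ
    have hv := hval a ha
    set v := a * (w * a * w⁻¹) with hvdef
    have hv1 : v ≠ 1 := by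
      intro h
      apply haQ
      apply hW.cw
      have : w * a * w⁻¹ = a := by
        rw [← inv_eq_of_mul_eq_one_right h]; exact hAinv a ha
      exact (mul_inv_eq_iff_eq_mul.1 this).symm
    have hvQ : ∀ q ∈ Q, q * v = v * q := by
      intro q hq
      have hqa : q * a * q⁻¹ ∈ A := hF.nA q a ha
      have hqaQ : q * a * q⁻¹ ∉ Q := fun h => haQ (by
        have : a = q⁻¹ * (q * a * q⁻¹) * q := by group
        rw [this]; exact Q.mul_mem (Q.mul_mem (Q.inv_mem hq) h) hq)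
      -- the quotient `a⁻¹ (q a q⁻¹)` is in `Q`
      have h1 : a * (q * a * q⁻¹) ∈ A ⊓ Q := hidxA _ ha _ hqa (fun h => haQ h.2) (fun h => hqaQ h.2)
      have h2 : w * (q * a * q⁻¹) * w⁻¹ = q * (w * a * w⁻¹) * q⁻¹ := by
        have c := hwQ q hq
        calc w * (q * a * q⁻¹) * w⁻¹ = (w * q) * a * (w * q)⁻¹ := by group
          _ = (q * w) * a * (q * w)⁻¹ := by rw [c]
          _ = _ := by group
      have h3 : w * (a * (q * a * q⁻¹)) * w⁻¹ = a * (q * a * q⁻¹) := by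
        rw [← hwQ _ h1.2, mul_inv_cancel_right]
      have h4 : (w * a * w⁻¹) * (q * (w * a * w⁻¹) * q⁻¹) = a * (q * a * q⁻¹) := by
        rw [← h2, ← h3]; group
      have h5 : q * v * q⁻¹ = v := by
        have m1 := hF.nA w a ha
        have m2 := hF.nA q _ m1
        have i1 := hAinv _ m1
        have s1 := hF.sq _ m1
        have s2 := hF.sq a ha
        have h6 : q * (w * a * w⁻¹) * q⁻¹ = (w * a * w⁻¹) * (a * (q * a * q⁻¹)) := by
          rw [← h4]
          calc q * (w * a * w⁻¹) * q⁻¹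
              = ((w * a * w⁻¹) * (w * a * w⁻¹)) * (q * (w * a * w⁻¹) * q⁻¹) := by rw [s1, one_mul]
            _ = _ := mul_assoc _ _ _
        calc q * v * q⁻¹ = (q * a * q⁻¹) * (q * (w * a * w⁻¹) * q⁻¹) := by rw [hvdef]; group
          _ = (q * a * q⁻¹) * ((w * a * w⁻¹) * (a * (q * a * q⁻¹))) := by rw [h6]
          _ = ((w * a * w⁻¹) * (a * (q * a * q⁻¹))) * (q * a * q⁻¹) :=
              hAc _ hqa _ (A.mul_mem m1 (A.mul_mem ha hqa))
          _ = (w * a * w⁻¹) * a * ((q * a * q⁻¹) * (q * a * q⁻¹)) := by group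
          _ = (w * a * w⁻¹) * a := by rw [hF.sq _ hqa, mul_one]
          _ = v := hAc _ m1 _ ha
      exact mul_inv_eq_iff_eq_mul.1 h5
    have hvz : v = z := (hZA v hv.1 (hW.centerQ hv.2 hvQ)).resolve_left hv1
    have : w * a * w⁻¹ = a⁻¹ * v := by rw [hvdef]; group
    rw [this, hvz, hAinv a ha]
  have haw : ∀ a ∈ A, a ∉ Q → a * w * a⁻¹ = w * z := by
    intro a ha haQ
    have h1 := mul_inv_eq_iff_eq_mul.1 (hwa a ha haQ)
    have hzz := hW.zz
    rw [mul_inv_eq_iff_eq_mul]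
    calc a * w = (a * z * w) * z := by
          rw [mul_assoc (a * z), hW.hz w, mul_assoc a, ← mul_assoc z z, hzz, one_mul]
      _ = w * a * z := by rw [← h1]
      _ = w * z * a := by rw [mul_assoc, hW.hz a, mul_assoc]
  -- `A ∩ Q ≤ E`
  obtain ⟨e₁, he₁, se₁⟩ := hW.exists_e1
  have hA0E : ∀ a ∈ A, a ∈ Q → a ∈ E := by
    intro t htA htQ
    by_contra htE
    apply hwA
    obtain ⟨e', he', rfl⟩ := hW.Qcases htQ htE
    have h1 : (e' * s) * e₁ * (e' * s)⁻¹ = e₁ * w := by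
      have h2 := hW.commE e' he' (e₁ * w) (E.mul_mem he₁ hW.wE)
      calc (e' * s) * e₁ * (e' * s)⁻¹ = e' * (s * e₁ * s⁻¹) * e'⁻¹ := by group
        _ = e₁ * w := by rw [se₁, h2, mul_inv_cancel_right]
    have h2 : w = (e₁⁻¹ * (e' * s) * e₁) * (e' * s)⁻¹ := by
      calc w = e₁⁻¹ * (e₁ * w) := by group
        _ = e₁⁻¹ * ((e' * s) * e₁ * (e' * s)⁻¹) := by rw [h1]
        _ = _ := by group
    rw [h2]
    have h3 := hF.nA e₁⁻¹ _ htA
    rw [inv_inv] at h3
    exact A.mul_mem h3 (A.inv_mem htA)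
  have hsA : ∀ a ∈ A, a ∈ Q → a ≠ 1 → a ≠ z → s * a * s⁻¹ = a * z := by
    intro a ha haQ h1 h2
    have haE := hA0E a ha haQ
    obtain ⟨ζ, hζ, e⟩ := hW.comm_s haE
    have hζA : ζ ∈ A := by
      have : ζ = a⁻¹ * (s * a * s⁻¹) := by rw [e]; group
      rw [this]
      exact A.mul_mem (A.inv_mem ha) (hF.nA s a ha)
    rcases hZA ζ hζA hζ with h | h
    · exfalso
      rw [h, mul_one] at e
      rcases hZA a ha (hW.Zcases haE (mul_inv_eq_iff_eq_mul.1 e)) with h' | h'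
      · exact h1 h'
      · exact h2 h'
    · rw [e, h]
  -- elements of `A \ Q` normalize `Q`
  have hnQ : ∀ x ∈ A, x ∉ Q → ∀ q ∈ Q, x * q * x⁻¹ ∈ Q := by
    intro x hx hxQ q hq
    apply hW.cw
    have h1 : (x * q * x⁻¹) * (w * z) = (w * z) * (x * q * x⁻¹) := by
      rw [← haw x hx hxQ]
      calc (x * q * x⁻¹) * (x * w * x⁻¹) = x * (q * w) * x⁻¹ := by group
        _ = x * (w * q) * x⁻¹ := by rw [hwQ q hq]
        _ = _ := by group
    have h2 : (x * q * x⁻¹) * w * z = w * (x * q * x⁻¹) * z := by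
      calc (x * q * x⁻¹) * w * z = (x * q * x⁻¹) * (w * z) := by group
        _ = w * (z * (x * q * x⁻¹)) := by rw [h1]; group
        _ = w * ((x * q * x⁻¹) * z) := by rw [hW.hz]
        _ = _ := by group
    exact mul_right_cancel h2
  have hxs : ∀ x ∈ A, x ∉ Q → x * s * x⁻¹ = s ∨ x * s * x⁻¹ = z * s := by
    intro x hx hxQ
    have hu : x * s * x⁻¹ * s⁻¹ ∈ A := by
      have : x * s * x⁻¹ * s⁻¹ = x * (s * x⁻¹ * s⁻¹) := by group
      rw [this]; exact A.mul_mem hx (hF.nA s _ (A.inv_mem hx))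
    have huQ : x * s * x⁻¹ * s⁻¹ ∈ Q := Q.mul_mem (hnQ x hx hxQ s hW.sQ) (Q.inv_mem hW.sQ)
    set u := x * s * x⁻¹ * s⁻¹ with hudef
    have hus : x * s * x⁻¹ = u * s := by rw [hudef]; group
    have hss := hW.ss
    have h1 : (u * s) * (u * s) = 1 := by
      rw [← hus]
      calc x * s * x⁻¹ * (x * s * x⁻¹) = x * (s * s) * x⁻¹ := by group
        _ = 1 := by rw [hss]; group
    have h2 : s * u * s⁻¹ = u := by
      have h3 : u * (s * u * s⁻¹) = 1 := by
        calc u * (s * u * s⁻¹) = (u * s) * (u * s) * (s * s)⁻¹ := by group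
          _ = 1 := by rw [h1, hss]; group
      rw [← inv_eq_of_mul_eq_one_right h3]; exact hAinv u hu
    have huZ := hZA u hu (hW.Zcases (hA0E u hu huQ) (mul_inv_eq_iff_eq_mul.1 h2))
    rcases huZ with h | h
    · left; rw [hus, h, one_mul]
    · right; rw [hus, h]
  -- conjugation by `x s x⁻¹`
  have hxsc : ∀ x ∈ A, x ∉ Q → ∀ y : S, (x * s * x⁻¹) * y * (x * s * x⁻¹)⁻¹ = s * y * s⁻¹ := by
    intro x hx hxQ y
    rcases hxs x hx hxQ with h | h
    · rw [h]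
    · rw [h, mul_inv_rev]
      calc z * s * y * (s⁻¹ * z⁻¹) = (z * (s * y * s⁻¹)) * z⁻¹ := by group
        _ = _ := by rw [← hW.hz, mul_inv_cancel_right]
  have hxe : ∀ x ∈ A, x ∉ Q → ∃ u ∈ A, u ∈ Q ∧ x * e₁ * x⁻¹ = e₁ * u ∧ u ≠ 1 ∧ u ≠ z := by
    intro x hx hxQ
    have hu : e₁⁻¹ * (x * e₁ * x⁻¹) ∈ A := by
      have h3 := hF.nA e₁⁻¹ _ hx
      rw [inv_inv] at h3
      have : e₁⁻¹ * (x * e₁ * x⁻¹) = (e₁⁻¹ * x * e₁) * x⁻¹ := by group
      rw [this]; exact A.mul_mem h3 (A.inv_mem hx)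
    have huQ : e₁⁻¹ * (x * e₁ * x⁻¹) ∈ Q :=
      Q.mul_mem (Q.inv_mem (hW.EQ he₁)) (hnQ x hx hxQ e₁ (hW.EQ he₁))
    set u := e₁⁻¹ * (x * e₁ * x⁻¹) with hudef
    have hxe : x * e₁ * x⁻¹ = e₁ * u := by rw [hudef]; group
    have huE := hA0E u hu huQ
    have key : s * u * s⁻¹ = u * z := by
      have h1 : s * (e₁ * u) * s⁻¹ = e₁ * u * (w * z) := by
        calc s * (e₁ * u) * s⁻¹ = (x * s * x⁻¹) * (x * e₁ * x⁻¹) * (x * s * x⁻¹)⁻¹ := by
              rw [hxsc x hx hxQ, hxe]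
          _ = x * (s * e₁ * s⁻¹) * x⁻¹ := by group
          _ = (x * e₁ * x⁻¹) * (x * w * x⁻¹) := by rw [se₁]; group
          _ = e₁ * u * (w * z) := by rw [hxe, haw x hx hxQ]
      have h2 : s * (e₁ * u) * s⁻¹ = e₁ * w * (s * u * s⁻¹) := by
        rw [← se₁]; group
      rw [h2] at h1
      have h3 : w * (s * u * s⁻¹) = w * (u * z) := by
        have h4 : e₁ * (w * (s * u * s⁻¹)) = e₁ * (w * (u * z)) := by
          calc e₁ * (w * (s * u * s⁻¹)) = e₁ * w * (s * u * s⁻¹) := by group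
            _ = e₁ * (u * w) * z := by rw [h1]; group
            _ = e₁ * (w * u) * z := by rw [hW.commE u huE w hW.wE]
            _ = _ := by group
        exact mul_left_cancel h4
      exact mul_left_cancel h3
    refine ⟨u, hu, huQ, hxe, ?_, ?_⟩
    · intro h
      rw [h] at key
      apply hW.z1
      have : s * 1 * s⁻¹ = (1 : S) := by group
      rw [this, one_mul] at key
      exact key.symm
    · intro h
      rw [h, hW.zconj] at key
      exact hW.z1 (mul_eq_left.1 key.symm)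
  -- `a₁ ∈ Q`
  have ha1Q : a₁ ∈ Q := by
    by_contra h
    obtain ⟨u, hu, huQ, he, u1, uz⟩ := hxe a₁ hF.m1 h
    have h1 : u = e₁⁻¹ * (a₁ * e₁ * a₁⁻¹) := by rw [he]; group
    have h2 : a₁ * e₁ * a₁⁻¹ = e₁ ∨ a₁ * e₁ * a₁⁻¹ = e₁ * z := by
      rcases hF.step1 e₁ with h' | h'
      · left
        rw [← mul_inv_eq_iff_eq_mul.1 h', mul_inv_cancel_right]
      · right
        have h3 := mul_inv_eq_iff_eq_mul.1 h'
        have hzz := hW.zz
        rw [mul_inv_eq_iff_eq_mul]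
        calc a₁ * e₁ = (a₁ * z * e₁) * z := by
              rw [mul_assoc (a₁ * z), hW.hz e₁, mul_assoc a₁, ← mul_assoc z z, hzz, one_mul]
          _ = e₁ * a₁ * z := by rw [← h3]
          _ = e₁ * z * a₁ := by rw [mul_assoc, hW.hz a₁, mul_assoc]
    rcases h2 with h2 | h2
    · apply u1; rw [h1, h2]; group
    · apply uz; rw [h1, h2]; group
  have ha1E := hA0E a₁ hF.m1 ha1Q
  have hA2 : A₂ = A ⊓ Q := by
    apply Subgroup.eq_of_le_of_card_ge
    · intro x hx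
      refine ⟨hF.le hx, ?_⟩
      rcases (hF.mem2 x).1 hx with rfl | rfl | rfl | rfl
      · exact one_mem _
      · exact hW.EQ hW.zE
      · exact ha1Q
      · exact Q.mul_mem ha1Q (hW.EQ hW.zE)
    · rw [hA04, hF.c4]
  have ha2Q : a₂ ∉ Q := fun h => hF.n2 (by rw [hA2]; exact ⟨hF.m2, h⟩)
  have ha1Z : ¬ (a₁ = 1 ∨ a₁ = z ∨ a₁ = w ∨ a₁ = w * z) := by
    intro h
    rcases hZA a₁ hF.m1 h with h' | h'
    · exact hF.n1 h'
    · exact hF.n1z h'
  have wa1 : w * a₁ * w⁻¹ = a₁ := by rw [← hwQ a₁ ha1Q, mul_inv_cancel_right]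
  have wa2 : w * a₂ * w⁻¹ = a₂ * z := hwa a₂ hF.m2 ha2Q
  have xw : a₂ * w * a₂⁻¹ = w * z := haw a₂ hF.m2 ha2Q
  have sa1 : s * a₁ * s⁻¹ = a₁ * z := hsA a₁ hF.m1 ha1Q hF.n1 hF.n1z
  set C := centralizer (A : Set S) with hCdef
  have conjC : ∀ c ∈ C, ∀ a ∈ A, c * a = a * c := fun c hc' a ha => ((mem_centralizer_iff.1 hc') a ha).symm
  -- `C_C(w) = A₂`
  have hwz_ne : w * z ≠ w := fun h => hW.z1 (mul_eq_left.1 h)
  have hCw : ∀ c ∈ C, c * w = w * c → c ∈ A₂ := by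
    intro c hc hcw
    have hcQ := hW.cw c hcw
    have hcE : c ∈ E := by
      by_contra hcE
      exact ha1Z (hW.N1 hcQ hcE ha1E (conjC c hc a₁ hF.m1))
    have hcx : a₂ * c * a₂⁻¹ = c := by rw [← conjC c hc a₂ hF.m2, mul_inv_cancel_right]
    -- elements of `Z` commuting with `a₂`
    have hZx : ∀ y : S, (y = 1 ∨ y = z ∨ y = w ∨ y = w * z) → a₂ * y * a₂⁻¹ = y → y = 1 ∨ y = z := by
      rintro y (rfl | rfl | rfl | rfl) h
      · exact Or.inl rfl
      · exact Or.inr rfl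
      · rw [xw] at h; exact absurd h hwz_ne
      · exfalso
        rw [hF.conj_mul, xw, hF.zconj, mul_assoc, hW.zz, mul_one] at h
        exact hwz_ne h.symm
    obtain ⟨ζ, hζ, e⟩ := hW.comm_s hcE
    have hζ' : ζ = 1 ∨ ζ = z := by
      apply hZx ζ hζ
      have h1 : s * c * s⁻¹ = c * (a₂ * ζ * a₂⁻¹) := by
        calc s * c * s⁻¹ = (a₂ * s * a₂⁻¹) * (a₂ * c * a₂⁻¹) * (a₂ * s * a₂⁻¹)⁻¹ := by
              rw [hxsc a₂ hF.m2 ha2Q, hcx]
          _ = a₂ * (s * c * s⁻¹) * a₂⁻¹ := by group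
          _ = (a₂ * c * a₂⁻¹) * (a₂ * ζ * a₂⁻¹) := by rw [e]; group
          _ = _ := by rw [hcx]
      rw [e] at h1
      exact (mul_left_cancel h1).symm
    rcases hζ' with h | h
    · rw [h, mul_one] at e
      rcases hZx c (hW.Zcases hcE (mul_inv_eq_iff_eq_mul.1 e)) hcx with h' | h'
      · rw [h']; exact one_mem _
      · rw [h']; exact hF.mz2
    · rw [h] at e
      have h1 : s * (c * a₁) * s⁻¹ = c * a₁ := by
        rw [hF.conj_mul, e, sa1]
        calc c * z * (a₁ * z) = c * (z * a₁) * z := by group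
          _ = c * (a₁ * z) * z := by rw [hW.hz a₁]
          _ = c * a₁ * (z * z) := by group
          _ = c * a₁ := by rw [hW.zz, mul_one]
      have h2 : a₂ * (c * a₁) * a₂⁻¹ = c * a₁ := by
        rw [hF.conj_mul, hcx, hAc a₂ hF.m2 a₁ hF.m1, mul_inv_cancel_right]
      have h3 := hZx (c * a₁) (hW.Zcases (E.mul_mem hcE ha1E) (mul_inv_eq_iff_eq_mul.1 h1)) h2
      have : c = (c * a₁) * a₁⁻¹ := by group
      rw [this]
      refine A₂.mul_mem ?_ (A₂.inv_mem hF.m12)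
      rcases h3 with h' | h'
      · rw [h']; exact one_mem _
      · rw [h']; exact hF.mz2
  -- the subgroup `C₁`
  have hA2C : ∀ c ∈ C, ∀ a ∈ A₂, c * a = a * c := fun c hc a ha => conjC c hc a (hF.le ha)
  let C₁ : Subgroup S :=
    { carrier := {c | c ∈ C ∧ c⁻¹ * (w * c * w⁻¹) ∈ A₂}
      one_mem' := ⟨one_mem _, by
        have : (1 : S)⁻¹ * (w * 1 * w⁻¹) = 1 := by group
        rw [this]; exact one_mem _⟩
      mul_mem' := by
        rintro x y ⟨hx, hx'⟩ ⟨hy, hy'⟩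
        refine ⟨C.mul_mem hx hy, ?_⟩
        have h1 := hA2C y hy _ hx'
        have : (x * y)⁻¹ * (w * (x * y) * w⁻¹) = (x⁻¹ * (w * x * w⁻¹)) * (y⁻¹ * (w * y * w⁻¹)) := by
          calc (x * y)⁻¹ * (w * (x * y) * w⁻¹) = y⁻¹ * ((x⁻¹ * (w * x * w⁻¹)) * y) * (y⁻¹ * (w * y * w⁻¹)) := by
                group
            _ = y⁻¹ * (y * (x⁻¹ * (w * x * w⁻¹))) * (y⁻¹ * (w * y * w⁻¹)) := by rw [h1]
            _ = _ := by group
        rw [this]
        exact A₂.mul_mem hx' hy'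
      inv_mem' := by
        rintro x ⟨hx, hx'⟩
        refine ⟨C.inv_mem hx, ?_⟩
        have h1 := hA2C x hx _ (A₂.inv_mem hx')
        have : x⁻¹⁻¹ * (w * x⁻¹ * w⁻¹) = (x⁻¹ * (w * x * w⁻¹))⁻¹ := by
          calc x⁻¹⁻¹ * (w * x⁻¹ * w⁻¹) = (x * (x⁻¹ * (w * x * w⁻¹))⁻¹) * x⁻¹ := by group
            _ = ((x⁻¹ * (w * x * w⁻¹))⁻¹ * x) * x⁻¹ := by rw [h1]
            _ = _ := by group
        rw [this]
        exact A₂.inv_mem hx' }
  have hC1 : ∀ c, c ∈ C₁ ↔ c ∈ C ∧ c⁻¹ * (w * c * w⁻¹) ∈ A₂ := fun c => Iff.rfl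
  have hC1C : C₁ ≤ C := fun c hc => hc.1
  have hC1n : ∀ t ∈ Q, ∀ c ∈ C₁, t * c * t⁻¹ ∈ C₁ := by
    intro t ht c hc
    refine ⟨hF.C_norm t c hc.1, ?_⟩
    have h1 := hwQ t ht
    have : (t * c * t⁻¹)⁻¹ * (w * (t * c * t⁻¹) * w⁻¹) = t * (c⁻¹ * (w * c * w⁻¹)) * t⁻¹ := by
      calc (t * c * t⁻¹)⁻¹ * (w * (t * c * t⁻¹) * w⁻¹) = t * c⁻¹ * t⁻¹ * ((w * t) * c * (w * t)⁻¹) := by group
        _ = t * c⁻¹ * t⁻¹ * ((t * w) * c * (t * w)⁻¹) := by rw [h1]
        _ = _ := by group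
    rw [this]
    exact hF.nA2 t _ hc.2
  have hCC1 : C₁ = C := by
    by_contra hne
    obtain ⟨d, hdC, hdC1, hd⟩ := FP hS (lt_of_le_of_ne hC1C hne) ({w} : Set S) (by
      rintro r hr x hx
      rw [Set.mem_singleton_iff.1 hr]
      exact hC1n w hQw x hx) (fun r _ x hx => hF.C_norm r x hx)
    have hf := hd w rfl
    set f := d⁻¹ * (w * d * w⁻¹) with hfdef
    have hdf : w * d * w⁻¹ = d * f := by rw [hfdef]; group
    have hfC : f ∈ C := hf.1
    have hff : f * (w * f * w⁻¹) = 1 := by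
      have hww := hW.ww
      have h1 : d * (f * (w * f * w⁻¹)) = d := by
        calc d * (f * (w * f * w⁻¹)) = (d * f) * (w * f * w⁻¹) := (mul_assoc _ _ _).symm
          _ = (w * d * w⁻¹) * (w * f * w⁻¹) := congrArg (fun y => y * (w * f * w⁻¹)) hdf.symm
          _ = w * (d * f) * w⁻¹ := by group
          _ = w * (w * d * w⁻¹) * w⁻¹ := by rw [hdf]
          _ = (w * w) * d * (w * w)⁻¹ := by group
          _ = d := by rw [hww]; group
      exact mul_eq_left.1 h1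
    set u := f⁻¹ * (w * f * w⁻¹) with hudef
    have hu : u ∈ A₂ := hf.2
    have hfu : w * f * w⁻¹ = f * u := by rw [hudef]; group
    have huA := hF.le hu
    have hfsq : f * f = u := by
      rw [hfu, ← mul_assoc] at hff
      rw [mul_eq_one_iff_eq_inv.1 hff]; exact hAinv u huA
    have hxC : a₂ ∈ C := hF.A_le_C hF.m2
    rcases (hF.mem2 u).1 hu with h | h | h
    · -- `u = 1`
      apply hdC1
      rw [hC1]
      refine ⟨hdC, ?_⟩
      change f ∈ A₂
      rw [h, mul_one] at hfu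
      exact hCw f hfC (mul_inv_eq_iff_eq_mul.1 hfu).symm
    · -- `u = z`
      rw [h] at hfu hfsq
      have h1 : w * (f * a₂) * w⁻¹ = f * a₂ := by
        rw [hF.conj_mul, hfu, wa2]
        calc f * z * (a₂ * z) = f * (z * a₂) * z := by group
          _ = f * (a₂ * z) * z := by rw [hW.hz a₂]
          _ = f * a₂ * (z * z) := by group
          _ = f * a₂ := by rw [hW.zz, mul_one]
      have h2 := hCw _ (C.mul_mem hfC hxC) (mul_inv_eq_iff_eq_mul.1 h1).symm
      have h3 : f ∈ A := by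
        have : f = (f * a₂) * a₂⁻¹ := by group
        rw [this]; exact A.mul_mem (hF.le h2) (A.inv_mem hF.m2)
      rw [hF.sq f h3] at hfsq
      exact hW.z1 hfsq.symm
    · -- `u ∈ {a₁, a₁ z}`
      have hsu : s * u * s⁻¹ = u * z := by
        rcases h with h | h
        · rw [h]; exact sa1
        · rw [h, hF.conj_mul, sa1, hF.zconj]
      set f' := s * f * s⁻¹ with hf'def
      have hf'C : f' ∈ C := hF.C_norm s f hfC
      have e1 : w * f' * w⁻¹ = f' * (u * z) := by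
        have hc := hW.ws
        calc w * f' * w⁻¹ = (w * s) * f * (w * s)⁻¹ := by rw [hf'def]; group
          _ = (s * w) * f * (s * w)⁻¹ := by rw [hc]
          _ = s * (w * f * w⁻¹) * s⁻¹ := by group
          _ = s * (f * u) * s⁻¹ := by rw [hfu]
          _ = f' * (s * u * s⁻¹) := by rw [hf'def]; group
          _ = _ := by rw [hsu]
      have e2 : w * (f * a₂) * w⁻¹ = (f * a₂) * (u * z) := by
        rw [hF.conj_mul, hfu, wa2]
        calc f * u * (a₂ * z) = f * (u * a₂) * z := by group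
          _ = f * (a₂ * u) * z := by rw [hAc u huA a₂ hF.m2]
          _ = _ := by group
      have e3 : w * (f' * (f * a₂)⁻¹) * w⁻¹ = f' * (f * a₂)⁻¹ := by
        calc w * (f' * (f * a₂)⁻¹) * w⁻¹ = (w * f' * w⁻¹) * (w * (f * a₂) * w⁻¹)⁻¹ := by group
          _ = _ := by rw [e1, e2]; group
      have h2 := hCw _ (C.mul_mem hf'C (C.inv_mem (C.mul_mem hfC hxC)))
        (mul_inv_eq_iff_eq_mul.1 e3).symm
      set v := f' * (f * a₂)⁻¹ with hvdef
      have hvA := hF.le h2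
      have e4 : f' = v * (f * a₂) := by rw [hvdef]; group
      have e5 : f' * f' = f * f := by
        have c1 : f * a₂ = a₂ * f := conjC f hfC a₂ hF.m2
        have c2 : f * v = v * f := conjC f hfC v hvA
        have c3 : a₂ * v = v * a₂ := hAc a₂ hF.m2 v hvA
        have c4 : f * (a₂ * v) = (a₂ * v) * f := conjC f hfC _ (A.mul_mem hF.m2 hvA)
        calc f' * f' = v * (f * (a₂ * v)) * (f * a₂) := by rw [e4]; group
          _ = v * ((a₂ * v) * f) * (f * a₂) := by rw [c4]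
          _ = (v * (a₂ * v)) * (f * (f * a₂)) := by group
          _ = (v * (v * a₂)) * (f * (a₂ * f)) := by rw [c3, c1]
          _ = (v * v) * a₂ * (f * a₂) * f := by group
          _ = (v * v) * a₂ * (a₂ * f) * f := by rw [c1]
          _ = (v * v) * (a₂ * a₂) * (f * f) := by group
          _ = f * f := by rw [hF.sq v hvA, hF.sq a₂ hF.m2, one_mul, one_mul]
      have e6 : f' * f' = u * z := by
        rw [← hsu, ← hfsq, hf'def]; group
      rw [e6, hfsq] at e5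
      exact hW.z1 (mul_eq_left.1 e5)
  have hCval : ∀ c ∈ C, c⁻¹ * (w * c * w⁻¹) ∈ A₂ := by
    intro c hc
    rw [← hCC1] at hc
    exact hc.2
  have hCcw : ∀ h ∈ C, ∀ k ∈ C, h⁻¹ * (w * h * w⁻¹) = k⁻¹ * (w * k * w⁻¹) → h⁻¹ * k ∈ A₂ := by
    intro h hh k hk e
    apply hCw _ (C.mul_mem (C.inv_mem hh) hk)
    have h2 := hA2C k hk _ (hCval h hh)
    have h3 : w * k * w⁻¹ = k * (h⁻¹ * (w * h * w⁻¹)) := by rw [e]; group
    have h1 : w * (h⁻¹ * k) * w⁻¹ = h⁻¹ * k := by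
      calc w * (h⁻¹ * k) * w⁻¹ = (w * h * w⁻¹)⁻¹ * (w * k * w⁻¹) := by group
        _ = (w * h * w⁻¹)⁻¹ * (k * (h⁻¹ * (w * h * w⁻¹))) := by rw [h3]
        _ = (w * h * w⁻¹)⁻¹ * ((h⁻¹ * (w * h * w⁻¹)) * k) := by rw [h2]
        _ = (w * h * w⁻¹)⁻¹ * h⁻¹ * (w * h * w⁻¹) * k := by group
        _ = h⁻¹ * k := by
          -- `h` commutes with `w h w⁻¹`
          have h4 := hA2C h hh _ (hCval h hh)
          have h5 : (w * h * w⁻¹) * h = h * (w * h * w⁻¹) := by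
            calc (w * h * w⁻¹) * h = h * ((h⁻¹ * (w * h * w⁻¹)) * h) := by group
              _ = h * (h * (h⁻¹ * (w * h * w⁻¹))) := by rw [h4]
              _ = _ := by group
          have h6 : Commute (w * h * w⁻¹) h := h5
          rw [← mul_inv_rev, ← h5]
          group
    exact (mul_inv_eq_iff_eq_mul.1 h1).symm
  have hcardC : ∀ T : Finset S, (∀ c ∈ C, c⁻¹ * (w * c * w⁻¹) ∈ T) → Nat.card C ≤ T.card * 4 := by
    intro T hT
    have h1 := card_le_fiber C A₂ (fun c => c⁻¹ * (w * c * w⁻¹)) T hT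
      (fun h hh k hk e => hCcw h hh k hk e)
    refine h1.trans ?_
    gcongr
    rw [← hF.c4]
    exact Nat.le_of_dvd Nat.card_pos (Subgroup.card_dvd_of_le inf_le_right)
  refine hF.GF2 hS ?_ ?_
  · have h1 := hcardC ({1, z, a₁, a₁ * z} : Finset S) (by
      intro c hc
      have := (hF.mem2 _).1 (hCval c hc)
      simpa using this)
    have h2 : ({1, z, a₁, a₁ * z} : Finset S).card ≤ 4 := Finset.card_le_four
    have := Nat.mul_le_mul_right 4 h2
    rw [← hCdef]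
    omega
  · intro hC16
    refine ⟨w, wa1, wa2, ?_, ?_⟩
    · intro c hc h
      exact hF.le (hCw c hc (mul_inv_eq_iff_eq_mul.1 h).symm)
    · by_contra hcon
      push Not at hcon
      have h1 := hcardC ({1, z} : Finset S) (by
        intro c hc
        have hv := hCval c hc
        have h2 : w * c * w⁻¹ * c⁻¹ = c⁻¹ * (w * c * w⁻¹) := by
          have h3 := hA2C c hc _ hv
          calc w * c * w⁻¹ * c⁻¹ = (c * (c⁻¹ * (w * c * w⁻¹))) * c⁻¹ := by group
            _ = ((c⁻¹ * (w * c * w⁻¹)) * c) * c⁻¹ := by rw [h3]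
            _ = _ := by group
        have h4 := hcon c hc
        rw [h2] at h4
        rw [Finset.mem_insert, Finset.mem_singleton]
        by_cases h5 : c⁻¹ * (w * c * w⁻¹) = 1
        · exact Or.inl h5
        · exact Or.inr (h4 h5))
      have h2 : ({1, z} : Finset S).card ≤ 2 := Finset.card_le_two
      have := Nat.mul_le_mul_right 4 h2
      rw [← hCdef] at hC16
      omega

end WR

end H25.Sec4
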