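import Mathlib

/-!
The normaliser of the extraspecial group of order 27 in SU_3(5) (piece C of S5778): coordinate matrices.
-/

set_option autoImplicit false

namespace H25.U35S

/-- `k = 2 + 2 * al + (be - 1)` -/
def al : Fin 8 → Fin 3 := ![0, 0, 0, 0, 1, 1, 2, 2]

def be : Fin 8 → Fin 3 := ![0, 0, 1, 2, 1, 2, 1, 2]

/-- the eight coordinate matrices: identity, inversion, and `ω ^ (α (i² - j²) + β i j)` -/
def MM {F : Type*} [Field F] (ω : F) (k : Fin 8) (i j : Fin 3) : F :=
  if k = 0 then (if i = j then 1 else 0)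
  else if k = 1 then (if i + j = 0 then 1 else 0)
  else ω ^ ((al k * (i * i - j * j) + be k * (i * j) : Fin 3) : ℕ)

end H25.U35S
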