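import Cfsg.Agent.Lib.H38.Basic
import Cfsg.Agent.Lib.H26.ZStarUse
import Cfsg.Agent.Lib.H1.Cores
import Cfsg.Prelude.Def_FusionSystem
import Cfsg.Prelude.Def_CaseTheorems

set_option autoImplicit false
set_option linter.unusedSectionVars false

/-! The centre of the 2-fusion system. -/

universe u

namespace H25.ZStarFus

open H38.Basic

variable {G : Type u} [Group G] [Finite G] {p : ℕ} [hp : Fact p.Prime]

/-- extension of fusion to a subgroup central modulo the core -/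
theorem exists_ext (S : Sylow p G) (Q : Subgroup G) (hQS : Q ≤ S)
    (hQ : ∀ q ∈ Q, ∀ x : G, x * q * x⁻¹ * q⁻¹ ∈ Cfsg.pPrimeCore p G)
    (P : Subgroup G) (hPS : P ≤ S) (g : G) (hg : ∀ x ∈ P, g * x * g⁻¹ ∈ (S : Subgroup G)) :
    ∃ g' : G, (∀ x ∈ P, g' * x * g'⁻¹ = g * x * g⁻¹) ∧ ∀ q ∈ Q, g' * q * g'⁻¹ = q := by
  set K := Cfsg.pPrimeCore p G with hK
  have hdisj : ∀ x ∈ (S : Subgroup G), x ∈ K → x = 1 := by
    intro x hx hxK
    have h1 : Disjoint (S : Subgroup G) K := by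
      have h2 := H1.Cores.coprime_card_pPrimeCore (G := G) p
      obtain ⟨n, hn⟩ := IsPGroup.iff_card.1 S.2
      apply Subgroup.disjoint_of_coprime_natCard
      rw [hn]
      exact Nat.Coprime.pow_left _ h2.symm
    exact Subgroup.disjoint_def.1 h1 hx hxK
  have hSQ : ∀ s ∈ (S : Subgroup G), ∀ q ∈ Q, s * q * s⁻¹ = q := by
    intro s hs q hq
    have h1 := hdisj (s * q * s⁻¹ * q⁻¹)
      ((S : Subgroup G).mul_mem ((S : Subgroup G).mul_mem ((S : Subgroup G).mul_mem hs (hQS hq))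
        ((S : Subgroup G).inv_mem hs)) ((S : Subgroup G).inv_mem (hQS hq))) (hQ q hq s)
    exact mul_inv_eq_one.1 h1
  have hNQ : ∀ n : G, (∀ q ∈ Q, n * q * n⁻¹ ∈ Q) → ∀ q ∈ Q, n * q * n⁻¹ = q := by
    intro n hn q hq
    have h1 := hdisj (n * q * n⁻¹ * q⁻¹)
      ((S : Subgroup G).mul_mem (hQS (hn q hq)) ((S : Subgroup G).inv_mem (hQS hq))) (hQ q hq n)
    exact mul_inv_eq_one.1 h1
  -- `M = Q K`
  set M := Q ⊔ K with hM
  have hQM : ∀ x : G, ∀ q ∈ Q, x * q * x⁻¹ ∈ M := by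
    intro x q hq
    have h1 : x * q * x⁻¹ = (x * q * x⁻¹ * q⁻¹) * q := by group
    rw [h1]
    exact M.mul_mem (le_sup_right (a := Q) (hQ q hq x)) (le_sup_left (b := K) hq)
  have hQp : IsPGroup p Q := S.2.to_le hQS
  have hQcard : ∀ R : Subgroup G, IsPGroup p R → R ≤ M → Nat.card R ≤ Nat.card Q := by
    intro R hR hRM
    -- `R ∩ K = 1`, so `R` embeds in `M/K`
    have h1 : Nat.card R ∣ Nat.card M := Subgroup.card_dvd_of_le hRM
    have h2 : Nat.card M ∣ Nat.card Q * Nat.card K := H1.Cores.card_sup_dvd_mul Q K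
    obtain ⟨n, hn⟩ := IsPGroup.iff_card.1 hR
    have h3 : (Nat.card R).Coprime (Nat.card K) := by
      rw [hn]
      exact Nat.Coprime.pow_left _ (H1.Cores.coprime_card_pPrimeCore (G := G) p).symm
    exact Nat.le_of_dvd Nat.card_pos (h3.dvd_of_dvd_mul_right (h1.trans h2))
  set H := Subgroup.centralizer (P : Set G) ⊓ M with hH
  have hQH : Q ≤ H := by
    intro q hq
    refine ⟨?_, le_sup_left (b := K) hq⟩
    change q ∈ Subgroup.centralizer (P : Set G)
    rw [Subgroup.mem_centralizer_iff]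
    intro x hx
    have h1 := hSQ x (hPS hx) q hq
    exact mul_inv_eq_iff_eq_mul.1 h1
  have hsyl : ∀ R : Subgroup G, IsPGroup p R → R ≤ H → Nat.card R = Nat.card Q → IsSyl p R H := by
    intro R hR hRH hcard
    obtain ⟨T, hT⟩ := exists_isSyl (p := p) H
    have h1 : Nat.card T ≤ Nat.card R := by
      rw [hcard]
      exact hQcard T hT.2.1 (hT.1.trans inf_le_right)
    exact hT.of_card_le hR hRH h1
  set Q' := Q.map (MulAut.conj g⁻¹).toMonoidHom with hQ'
  have hQ'H : Q' ≤ H := by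
    rintro y ⟨q, hq, rfl⟩
    refine ⟨?_, ?_⟩
    · change (MulAut.conj g⁻¹).toMonoidHom q ∈ Subgroup.centralizer (P : Set G)
      rw [Subgroup.mem_centralizer_iff]
      intro x hx
      have h1 := hSQ (g * x * g⁻¹) (hg x hx) q hq
      have h2 : (MulAut.conj g⁻¹).toMonoidHom q = g⁻¹ * q * g := by
        simp [MulAut.conj_apply]
      rw [h2]
      have h3 : x * (g⁻¹ * q * g) * x⁻¹ = g⁻¹ * q * g := by
        calc x * (g⁻¹ * q * g) * x⁻¹ = g⁻¹ * (g * x * g⁻¹ * q * (g * x * g⁻¹)⁻¹) * g := by group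
          _ = g⁻¹ * q * g := by rw [h1]
      exact mul_inv_eq_iff_eq_mul.1 h3
    · have h2 : (MulAut.conj g⁻¹).toMonoidHom q = g⁻¹ * q * (g⁻¹)⁻¹ := rfl
      rw [h2]
      exact hQM g⁻¹ q hq
  have hs1 := hsyl Q hQp hQH rfl
  have hs2 := hsyl Q' (isPGroup_conj hQp _) hQ'H (card_conj Q g⁻¹)
  obtain ⟨m, hm, hmQ⟩ := hs1.exists_conj_eq hs2
  refine ⟨g * m, ?_, ?_⟩
  · intro x hx
    have h1 : m * x * m⁻¹ = x := by
      have := Subgroup.mem_centralizer_iff.1 hm.1 x hx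
      rw [← this]; group
    calc g * m * x * (g * m)⁻¹ = g * (m * x * m⁻¹) * g⁻¹ := by group
      _ = g * x * g⁻¹ := by rw [h1]
  · apply hNQ
    intro q hq
    have h1 : m * q * m⁻¹ ∈ Q' := by
      rw [← hmQ]
      exact ⟨q, hq, rfl⟩
    obtain ⟨q', hq', hqq⟩ := h1
    have h2 : g⁻¹ * q' * (g⁻¹)⁻¹ = m * q * m⁻¹ := hqq
    have h3 : g * m * q * (g * m)⁻¹ = q' := by
      calc g * m * q * (g * m)⁻¹ = g * (m * q * m⁻¹) * g⁻¹ := by group
        _ = g * (g⁻¹ * q' * (g⁻¹)⁻¹) * g⁻¹ := by rw [h2]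
        _ = q' := by group
    rw [h3]; exact hq'

theorem center_eq {G : Type u} [Group G] [Finite G] (hZ : H26.ZStarUse.ZStarHyp.{u}) (S : Sylow 2 G) :
    (Cfsg.groupFusionSystem (S : Subgroup G)).center =
      (S : Subgroup G) ⊓ (Subgroup.center (G ⧸ Cfsg.oddCore G)).comap (QuotientGroup.mk' (Cfsg.oddCore G)) := by
  have h2 : Fact (Nat.Prime 2) := ⟨Nat.prime_two⟩
  have hmem : ∀ c : G, c ∈ (Subgroup.center (G ⧸ Cfsg.oddCore G)).comap (QuotientGroup.mk' (Cfsg.oddCore G)) ↔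
      ∀ x : G, x * c * x⁻¹ * c⁻¹ ∈ Cfsg.pPrimeCore 2 G := by
    intro c
    rw [Subgroup.mem_comap, Subgroup.mem_center_iff]
    constructor
    · intro h x
      have h3 := h (QuotientGroup.mk' _ x)
      rw [← QuotientGroup.eq_one_iff]
      change QuotientGroup.mk' (Cfsg.oddCore G) (x * c * x⁻¹ * c⁻¹) = 1
      rw [map_mul, map_mul, map_mul, map_inv, map_inv, h3]
      group
    · intro h y
      obtain ⟨x, rfl⟩ := QuotientGroup.mk'_surjective _ y
      have h3 := h x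
      rw [← QuotientGroup.eq_one_iff] at h3
      have h4 : QuotientGroup.mk' (Cfsg.oddCore G) (x * c * x⁻¹ * c⁻¹) = 1 := h3
      rw [map_mul, map_mul, map_mul, map_inv, map_inv] at h4
      have h5 := mul_inv_eq_one.1 h4
      exact mul_inv_eq_iff_eq_mul.1 h5
  apply le_antisymm
  · apply sSup_le
    rintro Q ⟨hQS, hQ⟩
    have hiso : H26.ZStarUse.IsoIn Q (S : Subgroup G) := by
      intro c hc x hx
      have hcS := hQS hc
      have hz : Subgroup.zpowers c ≤ (S : Subgroup G) := by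
        rw [Subgroup.zpowers_le]; exact hcS
      have hmem : Cfsg.conjHom (Subgroup.zpowers c) x ∈
          (Cfsg.groupFusionSystem (S : Subgroup G)).Hom (Subgroup.zpowers c) := by
        refine ⟨hz, ?_, x, fun y => rfl⟩
        rintro ⟨y, hy⟩
        obtain ⟨k, rfl⟩ := Subgroup.mem_zpowers_iff.1 hy
        change x * c ^ k * x⁻¹ ∈ (S : Subgroup G)
        rw [← conj_zpow]
        exact (S : Subgroup G).zpow_mem hx k
      obtain ⟨ψ, hψ, hψ1, hψ2⟩ := hQ (Subgroup.zpowers c) _ hmem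
      have h3 := hψ1 ⟨c, Subgroup.mem_zpowers c⟩
      have h4 := hψ2 ⟨c, hc⟩
      have h5 : (Cfsg.conjHom (Subgroup.zpowers c) x) ⟨c, Subgroup.mem_zpowers c⟩ = x * c * x⁻¹ := rfl
      rw [← h5, ← h3]
      exact h4
    intro c hc
    refine ⟨hQS hc, (hmem c).2 ?_⟩
    exact H26.ZStarUse.isoIn_core hZ S hQS hiso c hc
  · apply le_sSup
    refine ⟨inf_le_left, ?_⟩
    rintro P φ ⟨hPS, hφS, g, hg⟩
    set Q := (S : Subgroup G) ⊓ (Subgroup.center (G ⧸ Cfsg.oddCore G)).comap (QuotientGroup.mk' (Cfsg.oddCore G)) with hQ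
    obtain ⟨g', hg1, hg2⟩ := exists_ext S Q inf_le_left (fun q hq => (hmem q).1 hq.2) P hPS g
      (fun x hx => by
        have := hφS ⟨x, hx⟩
        rw [hg ⟨x, hx⟩] at this
        exact this)
    refine ⟨Cfsg.conjHom (P ⊔ Q) g', ⟨sup_le hPS inf_le_left, ?_, g', fun x => rfl⟩, ?_, ?_⟩
    · rintro ⟨x, hx⟩
      have h3 : P ⊔ Q ≤ (S : Subgroup G).comap (MulAut.conj g').toMonoidHom := by
        apply sup_le
        · intro y hy
          change g' * y * g'⁻¹ ∈ (S : Subgroup G)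
          rw [hg1 y hy, ← hg ⟨y, hy⟩]
          exact hφS ⟨y, hy⟩
        · intro y hy
          change g' * y * g'⁻¹ ∈ (S : Subgroup G)
          rw [hg2 y hy]
          exact hy.1
      exact h3 hx
    · intro x
      change g' * (x : G) * g'⁻¹ = φ x
      rw [hg1 _ x.2, hg x]
    · intro x
      exact hg2 _ x.2

end H25.ZStarFus
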